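import Groth.Agent.Formal2Lib.PuncturedSat
import Groth.Agent.Coherent.SecBridge
import Groth.Agent.Coherent.TopCoh
import Groth.Agent.Misc15.KoszulTilde
import Groth.Agent.LocCoh.Injectives

/-!
# Finiteness of cohomology on a punctured affine scheme from finiteness of local cohomology
-/

set_option autoImplicit false
set_option backward.isDefEq.respectTransparency false

universe u

open CategoryTheory CategoryTheory.Limits AlgebraicGeometry Opposite TopologicalSpace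
open Groth.Agent.Coherent Groth.Agent.Coherent.Serre

namespace Groth.Agent.Formal2Lib.Punct

variable {R : CommRingCat.{u}} (𝔞 : Ideal R)

local notation "φU" => baseHom R (US 𝔞)

/-- Tilde restricted to the punctured scheme is exact. -/
theorem shortExact_T {S : ShortComplex (ModuleCat.{u} R)} (hS : S.ShortExact) :
    (S.map (T 𝔞)).ShortExact := by
  have := AffSchLib.preservesFiniteLimits_tilde R
  have : (T 𝔞).IsLeftAdjoint := (adj 𝔞).isLeftAdjoint
  have : PreservesColimitsOfSize.{0, 0} (T 𝔞) := (adj 𝔞).leftAdjoint_preservesColimits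
  have : Mono ((tilde.functor R).map S.f) := by
    have := hS.mono_f
    infer_instance
  have hm : Mono ((T 𝔞).map S.f) := Preadditive.mono_of_cancel_zero _ fun {Z} g hg =>
    Scheme.Modules.hom_ext _ _ fun W => ConcreteCategory.hom_ext _ _ fun x =>
      app_injective_of_mono ((tilde.functor R).map S.f) (jU 𝔞 ''ᵁ W) (a₁ := g.app W x) (a₂ := 0) <| by
        have h0 : (g ≫ (T 𝔞).map S.f).app W x = 0 := by
          rw [hg]; rfl
        exact h0.trans (map_zero _).symm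
  have := hS.epi_g
  have : Mono (S.map (T 𝔞)).f := hm
  have : Epi (S.map (T 𝔞)).g := (inferInstance : Epi ((T 𝔞).map S.g))
  exact { exact := hS.exact.map_of_epi_of_preservesCokernel (T 𝔞) inferInstance inferInstance }

variable [IsNoetherianRing R]

/-- Injective modules give flasque sheaves on the punctured scheme. -/
theorem isFlasque_T (J : ModuleCat.{u} R) [Module.Injective R J] :
    TopCat.Sheaf.IsFlasque (X := (US 𝔞).toTopCat) (Coh.toAb ((T 𝔞).obj J)) where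
  epi {U V} i := (AddCommGrpCat.epi_iff_surjective _).2 fun s => by
    have := Misc15.Koszul.isFlasque_tilde (R := R) J
    obtain ⟨y, hy⟩ := (AddCommGrpCat.epi_iff_surjective _).1
      (this.epi (homOfLE ((jU 𝔞).opensFunctor.map i.unop).le : jU 𝔞 ''ᵁ V.unop ⟶ jU 𝔞 ''ᵁ U.unop).op) s
    exact ⟨y, hy⟩

theorem subsingleton_HA_T (J : ModuleCat.{u} R) [Module.Injective R J] (q : ℕ) :
    Subsingleton (HA φU ((T 𝔞).obj J) ⊤ (q + 1)) := by
  have := isFlasque_T 𝔞 J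
  exact subsingleton_H'_of_isFlasque (X := (US 𝔞).toTopCat) (Coh.toAb ((T 𝔞).obj J)) (⊤ : (US 𝔞).Opens) q

/-- The module of sections as global sections. -/
noncomputable def gaEquiv (G : (US 𝔞).Modules) : N 𝔞 G ≃ₗ[R] GA φU G where
  toFun x := x
  invFun x := x
  left_inv _ := rfl
  right_inv _ := rfl
  map_add' _ _ := rfl
  map_smul' c x := by
    refine (smul_app 𝔞 G c ⊤ x).symm.trans ?_
    rw [smulMod_app]
    change (show Γ(US 𝔞, ⊤) from (US 𝔞).presheaf.map (homOfLE (le_top : (⊤ : (US 𝔞).Opens) ≤ ⊤)).op (φU c)) • (show Γ(G, (⊤ : (US 𝔞).Opens)) from x) = φU c • (show Γ(G, (⊤ : (US 𝔞).Opens)) from x)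
    refine congrArg (fun r : Γ(US 𝔞, ⊤) => r • (show Γ(G, (⊤ : (US 𝔞).Opens)) from x)) ?_
    exact ConcreteCategory.congr_hom ((US 𝔞).presheaf.map_id (op (⊤ : (US 𝔞).Opens))) _

theorem gaEquiv_natural {G H : (US 𝔞).Modules} (f : G ⟶ H) (x : N 𝔞 G) :
    gaEquiv 𝔞 H ((Nmap 𝔞 f).hom x) = mapGA φU f (gaEquiv 𝔞 G x) := rfl

theorem torsMem_ker_unit (Q : ModuleCat.{u} R) (x : Q) (hx : ((adj 𝔞).unit.app Q).hom x = 0) :
    Sat.TorsMem 𝔞 (⊥ : Submodule R Q) x := fun a ha => by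
  have := isLocalizedModule_lam 𝔞 Q (D_le 𝔞 ha)
  obtain ⟨⟨_, k, rfl⟩, hk⟩ := (IsLocalizedModule.eq_zero_iff (.powers a) (lam 𝔞 Q a) (m := x)).1
    (by show ρ 𝔞 _ (D a) (((adj 𝔞).unit.app Q).hom x) = 0; rw [hx, map_zero])
  exact ⟨k, (Submodule.mem_bot R).2 hk⟩

theorem torsMem_range_unit (Q : ModuleCat.{u} R) [Coh.IsQCoh ((T 𝔞).obj Q)] (y : N 𝔞 ((T 𝔞).obj Q)) :
    Sat.TorsMem 𝔞 (LinearMap.range ((adj 𝔞).unit.app Q).hom) y := fun a ha => by
  have := isLocalizedModule_lam 𝔞 Q (D_le 𝔞 ha)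
  obtain ⟨⟨x, ⟨_, k, rfl⟩⟩, hk⟩ := IsLocalizedModule.surj (.powers a) (lam 𝔞 Q a) (ρ 𝔞 _ (D a) y)
  obtain ⟨l, hl⟩ := exists_pow_zero 𝔞 _ a (a ^ k • y - (show N 𝔞 ((T 𝔞).obj Q) from ((adj 𝔞).unit.app Q).hom x)) (by
    rw [map_sub, map_smul]; exact sub_eq_zero.2 hk)
  rw [smul_sub, sub_eq_zero] at hl
  refine ⟨l + k, a ^ l • x, ?_⟩
  rw [pow_add, mul_smul, hl]
  exact map_smul _ _ _

/-- Sections of `T Q` are the ideal transform of `Q`. -/
theorem exists_DT_equiv (Q : ModuleCat.{u} R) [Coh.IsQCoh ((T 𝔞).obj Q)] :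
    ∃ e : _root_.LocCoh.DT 𝔞 Q ≃ₗ[R] N 𝔞 ((T 𝔞).obj Q),
      ∀ x, e (_root_.LocCoh.toDT 𝔞 Q x) = ((adj 𝔞).unit.app Q).hom x := by
  have hker : ∀ x : Q, _root_.LocCoh.toDT 𝔞 Q x = 0 → Sat.TorsMem 𝔞 (⊥ : Submodule R Q) x := fun x hx =>
    Sat.mem_powTorsion_iff.1 ((LocCoh.toDT_eq_zero_iff x).1 hx)
  have hcok : ∀ y, Sat.TorsMem 𝔞 (LinearMap.range (_root_.LocCoh.toDT 𝔞 Q)) y := fun y a ha => by
    obtain ⟨m, hm⟩ := LocCoh.isPowerTorsion_coker_toDT (I := 𝔞) (M := Q) (Submodule.Quotient.mk y)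
    exact ⟨m, (Submodule.Quotient.mk_eq_zero _).1 (hm _ (Ideal.pow_mem_pow ha m))⟩
  obtain ⟨Φ, hΦ⟩ := (isSat_N 𝔞 ((T 𝔞).obj Q)).exists_extend _ hker hcok ((adj 𝔞).unit.app Q).hom
  obtain ⟨Ψ, hΨ⟩ := (Sat.isSat_DT (𝔞 := 𝔞) (M := Q)).exists_extend _ (torsMem_ker_unit 𝔞 Q)
    (torsMem_range_unit 𝔞 Q) (_root_.LocCoh.toDT 𝔞 Q)
  refine ⟨LinearEquiv.ofLinearMap Φ Ψ ?_ ?_, hΦ⟩
  · exact (isSat_N 𝔞 ((T 𝔞).obj Q)).hom_ext _ (torsMem_range_unit 𝔞 Q) fun x => by
      exact (congrArg Φ (hΨ x)).trans (hΦ x)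
  · exact (Sat.isSat_DT (𝔞 := 𝔞) (M := Q)).hom_ext _ hcok fun x => by
      exact (congrArg Ψ (hΦ x)).trans (hΨ x)

theorem isQCoh_T (Q : ModuleCat.{u} R) : Coh.IsQCoh ((T 𝔞).obj Q) :=
  Scheme.Modules.isQuasicoherent_restrictFunctor (jU 𝔞) (tilde (R := R) Q)

theorem finite_HA_zero (M : ModuleCat.{u} R) [Module.Finite R M]
    (h : Module.Finite R (_root_.LocCoh.H 𝔞 1 M)) : Module.Finite R (HA φU ((T 𝔞).obj M) ⊤ 0) := by
  have := isQCoh_T 𝔞 M
  obtain ⟨e, -⟩ := exists_DT_equiv 𝔞 M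
  have := Sat.finite_DT (𝔞 := 𝔞) (M := M) h
  exact Module.Finite.equiv ((e.trans (gaEquiv 𝔞 _)).trans (secA φU _).symm)

/-- The first step of the dimension shift. -/
theorem finite_HA_one_of_seq (S : ShortComplex (ModuleCat.{u} R)) (hS : S.ShortExact)
    [Subsingleton (HA φU ((T 𝔞).obj S.X₂) ⊤ 1)]
    (h : Module.Finite R (_root_.LocCoh.H 𝔞 1 S.X₃)) :
    Module.Finite R (HA φU ((T 𝔞).obj S.X₁) ⊤ 1) := by
  have := isQCoh_T 𝔞 S.X₃
  obtain ⟨e, he⟩ := exists_DT_equiv 𝔞 S.X₃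
  obtain ⟨ee⟩ := LocCoh.nonempty_coker_toDT_equiv 𝔞 S.X₃
  have := Module.Finite.equiv ee.symm
  have hT := shortExact_T 𝔞 hS
  let δ : _root_.LocCoh.DT 𝔞 S.X₃ →ₗ[R] HA φU ((T 𝔞).obj S.X₁) ⊤ 1 :=
    (deltaG φU hT).comp (e.trans (gaEquiv 𝔞 _)).toLinearMap
  have hd : Function.Surjective (deltaG φU hT) := deltaG_surjective φU hT ‹_›
  have hle : LinearMap.range (_root_.LocCoh.toDT 𝔞 S.X₃) ≤ LinearMap.ker δ := by
    rintro _ ⟨x, rfl⟩
    obtain ⟨j, rfl⟩ := (ModuleCat.epi_iff_surjective S.g).1 hS.epi_g x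
    have h1 : e (_root_.LocCoh.toDT 𝔞 S.X₃ (S.g.hom j)) =
        (Nmap 𝔞 ((T 𝔞).map S.g)).hom (((adj 𝔞).unit.app S.X₂).hom j) :=
      (he _).trans (ConcreteCategory.congr_hom ((adj 𝔞).unit.naturality S.g) j)
    refine (deltaG_eq_zero_iff φU hT _).2 ⟨gaEquiv 𝔞 _ (((adj 𝔞).unit.app S.X₂).hom j), ?_⟩
    exact (gaEquiv_natural 𝔞 _ _).symm.trans (congrArg (gaEquiv 𝔞 _) h1.symm)
  refine Module.Finite.of_surjective (Submodule.liftQ _ δ hle) fun y => ?_
  obtain ⟨x, rfl⟩ := hd y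
  exact ⟨Submodule.Quotient.mk ((e.trans (gaEquiv 𝔞 _)).symm x),
    congrArg (deltaG φU hT) ((e.trans (gaEquiv 𝔞 _)).apply_symm_apply x)⟩

theorem finite_HA_succ : ∀ (q : ℕ) (M : ModuleCat.{u} R),
    Module.Finite R (_root_.LocCoh.H 𝔞 (q + 2) M) → Module.Finite R (HA φU ((T 𝔞).obj M) ⊤ (q + 1)) := by
  intro q
  induction q with
  | zero =>
    intro M h
    obtain ⟨J, _, _, f, hJ, hf⟩ := LocCoh.exists_injective_embedding (R := R) M
    let g : J →ₗ[R] J ⧸ LinearMap.range f := Submodule.mkQ _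
    have hg : Function.Surjective g := Submodule.mkQ_surjective _
    have hfg : Function.Exact f g := LinearMap.exact_map_mkQ_range f
    let S : ShortComplex (ModuleCat.{u} R) :=
      ShortComplex.mk (ModuleCat.ofHom f : M ⟶ ModuleCat.of R J) (ModuleCat.ofHom g)
        (ModuleCat.hom_ext hfg.linearMap_comp_eq_zero)
    have hS : S.ShortExact :=
      { exact := (ShortComplex.ShortExact.moduleCat_exact_iff_function_exact _).2 hfg
        mono_f := (ModuleCat.mono_iff_injective _).2 hf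
        epi_g := (ModuleCat.epi_iff_surjective _).2 hg }
    have := LocCoh.subsingleton_H_of_injective (I := 𝔞) J Nat.one_pos
    have hc : Function.Injective (LocCoh.connecting 𝔞 hf hg hfg 1) :=
      (injective_iff_map_eq_zero _).2 fun y hy => by
        obtain ⟨z, rfl⟩ := (LocCoh.Hmap_connecting_exact hf hg hfg 1 y).1 hy
        rw [Subsingleton.elim z 0, map_zero]
    have : Subsingleton (HA φU ((T 𝔞).obj S.X₂) ⊤ 1) := subsingleton_HA_T 𝔞 (ModuleCat.of R J) 0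
    exact finite_HA_one_of_seq 𝔞 S hS (Module.Finite.of_injective _ hc)
  | succ q ih =>
    intro M h
    obtain ⟨J, _, _, f, hJ, hf⟩ := LocCoh.exists_injective_embedding (R := R) M
    let g : J →ₗ[R] J ⧸ LinearMap.range f := Submodule.mkQ _
    have hg : Function.Surjective g := Submodule.mkQ_surjective _
    have hfg : Function.Exact f g := LinearMap.exact_map_mkQ_range f
    let S : ShortComplex (ModuleCat.{u} R) :=
      ShortComplex.mk (ModuleCat.ofHom f : M ⟶ ModuleCat.of R J) (ModuleCat.ofHom g)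
        (ModuleCat.hom_ext hfg.linearMap_comp_eq_zero)
    have hS : S.ShortExact :=
      { exact := (ShortComplex.ShortExact.moduleCat_exact_iff_function_exact _).2 hfg
        mono_f := (ModuleCat.mono_iff_injective _).2 hf
        epi_g := (ModuleCat.epi_iff_surjective _).2 hg }
    have := LocCoh.subsingleton_H_of_injective (I := 𝔞) J (Nat.succ_pos (q + 1))
    have hc : Function.Injective (LocCoh.connecting 𝔞 hf hg hfg (q + 2)) :=
      (injective_iff_map_eq_zero _).2 fun y hy => by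
        obtain ⟨z, rfl⟩ := (LocCoh.Hmap_connecting_exact hf hg hfg (q + 2) y).1 hy
        rw [Subsingleton.elim z 0, map_zero]
    have : Module.Finite R (_root_.LocCoh.H 𝔞 (q + 2) S.X₃) := Module.Finite.of_injective _ hc
    have : Module.Finite R (HA φU (S.map (T 𝔞)).X₃ ⊤ (q + 1)) := ih S.X₃ this
    have : Subsingleton (HA φU (S.map (T 𝔞)).X₂ ⊤ (q + 1 + 1)) := subsingleton_HA_T 𝔞 (ModuleCat.of R J) (q + 1)
    exact Module.Finite.of_surjective (deltaA φU (shortExact_T 𝔞 hS) ⊤ (q + 1)) fun y =>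
      (exact_deltaA_postA φU (shortExact_T 𝔞 hS) ⊤ (q + 1) y).1 (Subsingleton.elim _ _)

/-- Cohomology of a model is finite when the local cohomology is. -/
theorem finite_HH_model (M : ModuleCat.{u} R) [Module.Finite R M] {G : (US 𝔞).Modules} (e : (T 𝔞).obj M ≅ G)
    (q : ℕ) (h : Module.Finite R (_root_.LocCoh.H 𝔞 (q + 1) M)) :
    Module.Finite R (Coh.HH (US 𝔞) G q) := by
  refine (finite_HH_iff R G q).2 ?_
  have : Module.Finite R (HA φU ((T 𝔞).obj M) ⊤ q) := match q, h with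
    | 0, h => finite_HA_zero 𝔞 M h
    | _ + 1, h => finite_HA_succ 𝔞 _ M h
  exact Module.Finite.equiv (isoA φU e ⊤ q)

end Groth.Agent.Formal2Lib.Punct
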