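import Groth.Agent.LocCoh.IdealTransform
import Mathlib.RingTheory.Finiteness.Basic

/-!
# Modules which are their own ideal transform, and finiteness of cokernels of `toDT`
-/

set_option autoImplicit false

universe u

namespace Groth.Agent.Formal2Lib.Sat

open Groth.Agent.LocCoh

variable {A : Type u} [CommRing A] [IsNoetherianRing A] {𝔞 : Ideal A}
variable {M N P : Type u} [AddCommGroup M] [Module A M] [AddCommGroup N] [Module A N]
  [AddCommGroup P] [Module A P]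

/-- `x` lies in `S` up to `𝔞`-power torsion. -/
def TorsMem (𝔞 : Ideal A) (S : Submodule A M) (x : M) : Prop := ∀ a ∈ 𝔞, ∃ k : ℕ, a ^ k • x ∈ S

omit [IsNoetherianRing A] in
theorem TorsMem.of_mem {S : Submodule A M} {x : M} (h : x ∈ S) : TorsMem 𝔞 S x := fun a _ =>
  ⟨0, by rwa [pow_zero, one_smul]⟩

omit [IsNoetherianRing A] in
theorem TorsMem.trans {S T : Submodule A M} {x : M} (h : TorsMem 𝔞 S x)
    (h' : ∀ y ∈ S, TorsMem 𝔞 T y) : TorsMem 𝔞 T x := fun a ha => by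
  obtain ⟨k, hk⟩ := h a ha
  obtain ⟨l, hl⟩ := h' _ hk a ha
  exact ⟨l + k, by rwa [pow_add, mul_smul]⟩

theorem TorsMem.exists_pow {S : Submodule A M} {x : M} (h : TorsMem 𝔞 S x) :
    ∃ m : ℕ, ∀ b ∈ 𝔞 ^ m, b • x ∈ S := by
  have hrad : 𝔞 ≤ Ideal.radical (S.comap (LinearMap.toSpanSingleton A M x) : Ideal A) := fun a ha => h a ha
  obtain ⟨m, hm⟩ := Ideal.exists_pow_le_of_le_radical_of_fg hrad (IsNoetherian.noetherian 𝔞)
  exact ⟨m, fun b hb => hm hb⟩

omit [IsNoetherianRing A] in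
theorem TorsMem.of_pow {S : Submodule A M} {x : M} {m : ℕ} (h : ∀ b ∈ 𝔞 ^ m, b • x ∈ S) :
    TorsMem 𝔞 S x := fun _ ha => ⟨m, h _ (Ideal.pow_mem_pow ha m)⟩

theorem mem_powTorsion_iff {x : M} : x ∈ powTorsion 𝔞 M ↔ TorsMem 𝔞 (⊥ : Submodule A M) x := by
  refine ⟨fun ⟨m, hm⟩ => TorsMem.of_pow (m := m) fun b hb => by rw [Submodule.mem_bot]; exact hm b hb, fun h => ?_⟩
  obtain ⟨m, hm⟩ := h.exists_pow
  exact ⟨m, fun b hb => (Submodule.mem_bot A).1 (hm b hb)⟩

/-- A module without torsion on which maps from powers of `𝔞` extend. -/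
structure IsSat (𝔞 : Ideal A) (N : Type u) [AddCommGroup N] [Module A N] : Prop where
  sep : ∀ x : N, x ∈ powTorsion 𝔞 N → x = 0
  ext : ∀ (m : ℕ) (φ : ↥(𝔞 ^ m) →ₗ[A] N), ∃ y : N, ∀ b, φ b = (b : A) • y

omit [IsNoetherianRing A] in
theorem IsSat.bijective (h : IsSat 𝔞 N) : Function.Bijective (_root_.LocCoh.toDT 𝔞 N) := by
  refine ⟨(injective_iff_map_eq_zero _).2 fun x hx => h.sep x ((toDT_eq_zero_iff x).1 hx), fun x => ?_⟩
  obtain ⟨n, φ, rfl⟩ := exists_τ x
  obtain ⟨y, hy⟩ := h.ext n φ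
  exact ⟨y, (τ_eq_toDT φ y hy).symm⟩

theorem isSat_DT : IsSat 𝔞 (_root_.LocCoh.DT 𝔞 M) where
  sep x hx := by
    rw [powTorsion_DT_eq_bot] at hx
    exact (Submodule.mem_bot A).1 hx
  ext m φ := by
    obtain ⟨y, hy⟩ := toDT_DT_bijective.2 (τ m φ)
    refine ⟨y, fun b => (toDT_DT_bijective (I := 𝔞) (M := M)).1 ?_⟩
    rw [← smul_τ φ b, map_smul, hy]

/-- Maps into a saturated module extend along maps with torsion kernel and cokernel. -/
theorem IsSat.exists_extend (hN : IsSat 𝔞 N) (i : M →ₗ[A] P)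
    (hker : ∀ x, i x = 0 → TorsMem 𝔞 (⊥ : Submodule A M) x)
    (hcok : ∀ y, TorsMem 𝔞 (LinearMap.range i) y) (φ : M →ₗ[A] N) :
    ∃ Φ : P →ₗ[A] N, ∀ x, Φ (i x) = φ x := by
  have hb : Function.Bijective (DTmap (I := 𝔞) i) := by
    refine DTmap_bijective _ (fun x hx => mem_powTorsion_iff.2 (hker x hx)) fun q => ?_
    obtain ⟨y, rfl⟩ := Submodule.Quotient.mk_surjective _ q
    obtain ⟨m, hm⟩ := (hcok y).exists_pow
    exact ⟨m, fun b hb => by
      rw [← Submodule.Quotient.mk_smul]; exact (Submodule.Quotient.mk_eq_zero _).2 (hm b hb)⟩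
  let e := LinearEquiv.ofBijective _ hb
  let d := LinearEquiv.ofBijective _ hN.bijective
  refine ⟨d.symm.toLinearMap ∘ₗ DTmap φ ∘ₗ e.symm.toLinearMap ∘ₗ _root_.LocCoh.toDT 𝔞 P, fun x => ?_⟩
  show d.symm (DTmap φ (e.symm (_root_.LocCoh.toDT 𝔞 P (i x)))) = φ x
  rw [show e.symm (_root_.LocCoh.toDT 𝔞 P (i x)) = _root_.LocCoh.toDT 𝔞 M x from
    e.symm_apply_eq.2 (toDT_natural i x).symm, toDT_natural]
  exact d.symm_apply_apply _

theorem IsSat.hom_ext (hN : IsSat 𝔞 N) (i : M →ₗ[A] P) (hcok : ∀ y, TorsMem 𝔞 (LinearMap.range i) y)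
    {Φ Ψ : P →ₗ[A] N} (h : ∀ x, Φ (i x) = Ψ (i x)) : Φ = Ψ := by
  refine LinearMap.ext fun y => sub_eq_zero.1 (hN.sep _ (mem_powTorsion_iff.2 fun a ha => ?_))
  obtain ⟨k, x, hx⟩ := hcok y a ha
  refine ⟨k, ?_⟩
  rw [Submodule.mem_bot, smul_sub, ← map_smul, ← map_smul, ← hx, h, sub_self]

/-- The image of a saturated module in a module without torsion is saturated. -/
theorem IsSat.mem_range (hN : IsSat 𝔞 N) (hP : ∀ x : P, x ∈ powTorsion 𝔞 P → x = 0) (ξ : N →ₗ[A] P)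
    (hξ : Function.Injective ξ) {x : P} (hx : TorsMem 𝔞 (LinearMap.range ξ) x) :
    x ∈ LinearMap.range ξ := by
  obtain ⟨m, hm⟩ := hx.exists_pow
  let χ : ↥(𝔞 ^ m) →ₗ[A] P := (LinearMap.toSpanSingleton A P x).comp (𝔞 ^ m).subtype
  obtain ⟨y, hy⟩ := hN.ext m ((LinearEquiv.ofInjective ξ hξ).symm.toLinearMap ∘ₗ
    χ.codRestrict _ fun b => hm b.1 b.2)
  refine ⟨y, sub_eq_zero.1 (hP _ ⟨m, fun b hb => ?_⟩)⟩
  have h1 : (b • x : P) = ξ (b • y) := by
    rw [← hy ⟨b, hb⟩]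
    exact (congrArg Subtype.val
      ((LinearEquiv.ofInjective ξ hξ).apply_symm_apply ⟨χ ⟨b, hb⟩, hm b hb⟩)).symm
  rw [smul_sub, h1, map_smul, sub_self]

theorem finite_H_pi {q : ℕ} {ι : Type u} [Fintype ι] (h : Module.Finite A (_root_.LocCoh.H 𝔞 q M)) :
    Module.Finite A (_root_.LocCoh.H 𝔞 q (ι → M)) := by
  classical
  let T : (ι → _root_.LocCoh.H 𝔞 q M) →ₗ[A] _root_.LocCoh.H 𝔞 q (ι → M) :=
    ∑ i, (Hmap 𝔞 q (LinearMap.single A (fun _ => M) i)).comp (LinearMap.proj i)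
  refine Module.Finite.of_surjective T fun x =>
    ⟨fun i => Hmap 𝔞 q (LinearMap.proj i) x, ?_⟩
  let H' : ((ι → M) →ₗ[A] (ι → M)) →+
      (_root_.LocCoh.H 𝔞 q (ι → M) →ₗ[A] _root_.LocCoh.H 𝔞 q (ι → M)) :=
    AddMonoidHom.mk' (fun g => Hmap 𝔞 q g) (Hmap_add q)
  have hid : (LinearMap.id : (ι → M) →ₗ[A] (ι → M)) =
      ∑ i, (LinearMap.single A (fun _ => M) i).comp (LinearMap.proj i) := by
    refine LinearMap.ext fun v => funext fun j => ?_
    simp [LinearMap.sum_apply, Finset.sum_apply, Pi.single_apply]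
  have := congrArg (fun g => H' g x) hid
  simp only [map_sum, LinearMap.sum_apply] at this
  rw [show H' LinearMap.id = LinearMap.id from Hmap_id q, LinearMap.id_apply] at this
  refine Eq.trans ?_ this.symm
  simp only [T, LinearMap.sum_apply, LinearMap.comp_apply, LinearMap.proj_apply, H', AddMonoidHom.mk'_apply]
  exact Finset.sum_congr rfl fun i _ => (LinearMap.congr_fun (Hmap_comp q _ _) x).symm

theorem finite_DT [Module.Finite A M] (h : Module.Finite A (_root_.LocCoh.H 𝔞 1 M)) :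
    Module.Finite A (_root_.LocCoh.DT 𝔞 M) := by
  obtain ⟨e⟩ := nonempty_coker_toDT_equiv 𝔞 M
  have := Module.Finite.equiv e.symm
  exact Module.Finite.of_submodule_quotient (LinearMap.range (_root_.LocCoh.toDT 𝔞 M))

/-- Finiteness of the cokernel of `toDT` for `J/g(c(M))`. -/
theorem finite_coker_toDT {Q Q' J : Type u} [AddCommGroup Q] [Module A Q] [AddCommGroup Q'] [Module A Q']
    [AddCommGroup J] [Module A J] [Module.Injective A J] (c : M →ₗ[A] Q) (e : Q →ₗ[A] Q')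
    (hec : ∀ m, e (c m) = 0) (hexact : ∀ q, e q = 0 → TorsMem 𝔞 (LinearMap.range c) q)
    (g : Q →ₗ[A] J) (hg : Function.Injective g) (hQ' : Module.Finite A (_root_.LocCoh.DT 𝔞 Q'))
    (hQ : Module.Finite A (_root_.LocCoh.H 𝔞 2 Q)) :
    Module.Finite A (_root_.LocCoh.DT 𝔞 (J ⧸ LinearMap.range (g.comp c)) ⧸
      LinearMap.range (_root_.LocCoh.toDT 𝔞 (J ⧸ LinearMap.range (g.comp c)))) := by
  let p : (J ⧸ LinearMap.range (g.comp c)) →ₗ[A] J ⧸ LinearMap.range g :=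
    Submodule.mapQ _ _ LinearMap.id (LinearMap.range_comp_le_range c g)
  have hp : Function.Surjective p := fun y => by
    obtain ⟨j, rfl⟩ := Submodule.Quotient.mk_surjective _ y
    exact ⟨Submodule.Quotient.mk j, rfl⟩
  let κ : Q →ₗ[A] LinearMap.ker p := ((LinearMap.range (g.comp c)).mkQ.comp g).codRestrict _ fun x =>
    (Submodule.Quotient.mk_eq_zero _).2 ⟨x, rfl⟩
  have hκ : Function.Surjective κ := by
    rintro ⟨z, hz⟩
    obtain ⟨j, rfl⟩ := Submodule.Quotient.mk_surjective _ z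
    obtain ⟨x, hx⟩ := (Submodule.Quotient.mk_eq_zero _).1 (LinearMap.mem_ker.1 hz)
    exact ⟨x, Subtype.ext (congrArg Submodule.Quotient.mk hx)⟩
  have hκ0 : LinearMap.ker κ ≤ LinearMap.ker e := fun x hx => by
    obtain ⟨m, hm⟩ := (Submodule.Quotient.mk_eq_zero (LinearMap.range (g.comp c))).1 (congrArg Subtype.val hx)
    rw [LinearMap.mem_ker, ← hg (show g (c m) = g x from hm), hec]
  let eb : LinearMap.ker p →ₗ[A] Q' :=
    (Submodule.liftQ (LinearMap.ker κ) e hκ0).comp (κ.quotKerEquivOfSurjective hκ).symm.toLinearMap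
  have heb : ∀ x, eb (κ x) = e x := fun x => by
    show Submodule.liftQ _ e hκ0 ((κ.quotKerEquivOfSurjective hκ).symm (κ x)) = e x
    rw [show (κ.quotKerEquivOfSurjective hκ).symm (κ x) = Submodule.Quotient.mk x from
      (κ.quotKerEquivOfSurjective hκ).symm_apply_eq.2 rfl]
    rfl
  have hK : Module.Finite A (_root_.LocCoh.DT 𝔞 (LinearMap.ker p)) := by
    refine Module.Finite.of_injective (DTmap eb) (DTmap_injective eb fun z hz => mem_powTorsion_iff.2 ?_)
    obtain ⟨x, rfl⟩ := hκ z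
    intro a ha
    obtain ⟨k, m, hm⟩ := hexact x (by rwa [← heb]) a ha
    refine ⟨k, ?_⟩
    rw [Submodule.mem_bot, ← map_smul, ← hm]
    exact Subtype.ext ((Submodule.Quotient.mk_eq_zero (LinearMap.range (g.comp c))).2 ⟨m, rfl⟩)
  have hC : Module.Finite A (_root_.LocCoh.DT 𝔞 (J ⧸ LinearMap.range g) ⧸
      LinearMap.range (_root_.LocCoh.toDT 𝔞 (J ⧸ LinearMap.range g))) := by
    obtain ⟨ee⟩ := nonempty_coker_toDT_equiv 𝔞 (J ⧸ LinearMap.range g)
    have hfg : Function.Exact g (LinearMap.range g).mkQ := LinearMap.exact_map_mkQ_range g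
    have := subsingleton_H_of_injective (I := 𝔞) J Nat.one_pos
    let δ := connecting 𝔞 hg (Submodule.mkQ_surjective (LinearMap.range g)) hfg 1
    have hδ : Function.Injective δ := (injective_iff_map_eq_zero _).2 fun y hy => by
      obtain ⟨z, rfl⟩ := (Hmap_connecting_exact hg (Submodule.mkQ_surjective _) hfg 1 y).1 hy
      rw [Subsingleton.elim z 0, map_zero]
    have := Module.Finite.of_injective δ hδ
    exact Module.Finite.equiv ee.symm
  let v : (_root_.LocCoh.DT 𝔞 (J ⧸ LinearMap.range (g.comp c)) ⧸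
      LinearMap.range (_root_.LocCoh.toDT 𝔞 (J ⧸ LinearMap.range (g.comp c)))) →ₗ[A]
      (_root_.LocCoh.DT 𝔞 (J ⧸ LinearMap.range g) ⧸
      LinearMap.range (_root_.LocCoh.toDT 𝔞 (J ⧸ LinearMap.range g))) :=
    Submodule.mapQ _ _ (DTmap p) (by
      rintro _ ⟨x, rfl⟩
      exact ⟨p x, (toDT_natural p x).symm⟩)
  let w : _root_.LocCoh.DT 𝔞 (LinearMap.ker p) →ₗ[A] (_root_.LocCoh.DT 𝔞 (J ⧸ LinearMap.range (g.comp c)) ⧸
      LinearMap.range (_root_.LocCoh.toDT 𝔞 (J ⧸ LinearMap.range (g.comp c)))) :=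
    (Submodule.mkQ _).comp (DTmap (LinearMap.ker p).subtype)
  have hle : LinearMap.ker v ≤ LinearMap.range w := by
    intro z hz
    obtain ⟨y, rfl⟩ := Submodule.Quotient.mk_surjective _ z
    obtain ⟨x', hx'⟩ := (Submodule.Quotient.mk_eq_zero _).1 (show Submodule.Quotient.mk (DTmap p y) = 0 from hz)
    obtain ⟨x, rfl⟩ := hp x'
    obtain ⟨t, ht⟩ := mem_range_DTmap (I := 𝔞) (LinearMap.ker p).injective_subtype
      (LinearMap.exact_subtype_ker_map p) (y := y - _root_.LocCoh.toDT 𝔞 _ x)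
      (by rw [map_sub, toDT_natural, hx', sub_self])
    refine ⟨t, ?_⟩
    show Submodule.Quotient.mk (DTmap _ t) = Submodule.Quotient.mk y
    rw [ht, Submodule.Quotient.eq, sub_sub_cancel_left]
    exact neg_mem ⟨x, rfl⟩
  have : Module.Finite A (LinearMap.ker v) :=
    Module.Finite.of_injective (Submodule.inclusion hle) (Submodule.inclusion_injective hle)
  have : Module.Finite A (_ ⧸ LinearMap.ker v) := Module.Finite.equiv v.quotKerEquivRange.symm
  exact Module.Finite.of_submodule_quotient (LinearMap.ker v)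

end Groth.Agent.Formal2Lib.Sat
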