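import Groth.Agent.Formal2Lib.PuncturedLimit
import Groth.Agent.LocCoh.IdealTransform
import Groth.Agent.LocCoh.Depth
import Groth.Agent.S2265
import Mathlib.Algebra.Module.FinitePresentation

/-!
# Invertible modules on a punctured spectrum trivialised by a faithfully flat extension
-/

set_option autoImplicit false
set_option backward.isDefEq.respectTransparency false
set_option linter.unusedSectionVars false

universe u

open CategoryTheory CategoryTheory.Limits AlgebraicGeometry Opposite TopologicalSpace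
open Groth.Agent.Coherent Groth.Agent.Coherent.Serre
open scoped TensorProduct

namespace Groth.Agent.Formal2Lib.Punct

variable {R : CommRingCat.{u}} [IsNoetherianRing R] (𝔞 : Ideal R)

/-- A map with torsion kernel and cokernel is an isomorphism on the punctured scheme. -/
theorem isIso_T_of_torsion {M N : ModuleCat.{u} R} (w : M →ₗ[R] N)
    (hker : ∀ x, w x = 0 → ∃ m : ℕ, ∀ b ∈ 𝔞 ^ m, b • x = 0)
    (hcok : ∀ y, ∃ m : ℕ, ∀ b ∈ 𝔞 ^ m, b • y ∈ LinearMap.range w) :
    IsIso ((T 𝔞).map (ModuleCat.ofHom w)) := by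
  let r : M ⟶ ModuleCat.of R (LinearMap.range w) := ModuleCat.ofHom w.rangeRestrict
  let k : ModuleCat.of R (LinearMap.ker w) ⟶ M := ModuleCat.ofHom (LinearMap.ker w).subtype
  let i : ModuleCat.of R (LinearMap.range w) ⟶ N := ModuleCat.ofHom (LinearMap.range w).subtype
  have hS : (ShortComplex.mk k r (ModuleCat.hom_ext (LinearMap.ext fun x => Subtype.ext x.2))).ShortExact :=
    { exact := (ShortComplex.ShortExact.moduleCat_exact_iff_function_exact _).2 fun x =>
        ⟨fun h => ⟨⟨x, congrArg Subtype.val h⟩, rfl⟩, fun ⟨y, hy⟩ => hy ▸ Subtype.ext y.2⟩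
      mono_f := (ModuleCat.mono_iff_injective _).2 (LinearMap.ker w).subtype_injective
      epi_g := (ModuleCat.epi_iff_surjective _).2 w.surjective_rangeRestrict }
  have hz : IsZero ((T 𝔞).obj (ModuleCat.of R (LinearMap.ker w))) := isZero_restrict_tilde 𝔞 _ fun x => by
    obtain ⟨m, hm⟩ := hker x.1 x.2
    exact ⟨m, fun b hb => Subtype.ext (hm b hb)⟩
  have h1 : IsIso ((T 𝔞).map r) := (shortExact_T 𝔞 hS).isIso_g_iff.2 hz
  have h2 : IsIso ((T 𝔞).map i) := isIso_restrict_tilde_subtype 𝔞 (LinearMap.range w) hcok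
  rw [show ModuleCat.ofHom w = r ≫ i from rfl, Functor.map_comp]
  infer_instance

/-- A saturated ring: the unit is bijective. -/
theorem unit_bijective (h : ∀ i : ℕ, i < 2 → Subsingleton (_root_.LocCoh.H 𝔞 i R)) :
    Function.Bijective ((adj 𝔞).unit.app (ModuleCat.of R R)).hom := by
  have := isQCoh_T 𝔞 (ModuleCat.of R R)
  obtain ⟨e, he⟩ := exists_DT_equiv 𝔞 (ModuleCat.of R R)
  have hinj : Function.Injective (_root_.LocCoh.toDT 𝔞 R) := (injective_iff_map_eq_zero _).2 fun x hx => by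
    have := h 0 (by omega)
    have hx' := (LocCoh.toDT_eq_zero_iff x).1 hx
    exact congrArg Subtype.val ((LocCoh.H0Equiv (I := 𝔞) (M := R)).symm.toEquiv.subsingleton.elim ⟨x, hx'⟩ 0)
  have hsurj : Function.Surjective (_root_.LocCoh.toDT 𝔞 R) := fun y => by
    have := h 1 (by omega)
    obtain ⟨c⟩ := LocCoh.nonempty_coker_toDT_equiv 𝔞 R
    exact (Submodule.Quotient.mk_eq_zero _).1 (c.toEquiv.subsingleton.elim (Submodule.Quotient.mk y) 0)
  have hfun : ⇑((adj 𝔞).unit.app (ModuleCat.of R R)).hom = e ∘ _root_.LocCoh.toDT 𝔞 R := funext fun x => (he x).symm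
  rw [hfun]
  exact e.bijective.comp ⟨hinj, hsurj⟩

/-- A trivialisation of `T Q` comes from a generator of the dual, unique up to scalars. -/
theorem exists_generator (h : Function.Bijective ((adj 𝔞).unit.app (ModuleCat.of R R)).hom)
    (Q : ModuleCat.{u} R) (ψ : (T 𝔞).obj Q ≅ (T 𝔞).obj (ModuleCat.of R R)) :
    ∃ w : Q →ₗ[R] R, (∀ x, w x = 0 → ∃ m : ℕ, ∀ b ∈ 𝔞 ^ m, b • x = 0) ∧
      (∀ y : R, ∃ m : ℕ, ∀ b ∈ 𝔞 ^ m, b • y ∈ LinearMap.range w) ∧
      (∀ η : Q →ₗ[R] R, ∃ c : R, η = c • w) ∧ ∀ c : R, c • w = w → c = 1 := by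
  let O : ModuleCat.{u} R := ModuleCat.of R R
  let U : R →ₗ[R] N 𝔞 ((T 𝔞).obj O) := ((adj 𝔞).unit.app O).hom
  let uE := LinearEquiv.ofBijective U h
  let w : Q →ₗ[R] R := uE.symm.toLinearMap.comp ((adj 𝔞).homEquiv Q _ ψ.hom).hom
  have hw : (T 𝔞).map (ModuleCat.ofHom (Y := O) w) = ψ.hom := by
    refine ((adj 𝔞).homEquiv Q _).injective (ModuleCat.hom_ext (LinearMap.ext fun x => ?_))
    rw [Adjunction.homEquiv_unit]
    refine (ConcreteCategory.congr_hom ((adj 𝔞).unit.naturality (ModuleCat.ofHom (Y := O) w)) x).symm.trans ?_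
    exact uE.apply_symm_apply _
  have hnat : ∀ x, U (w x) = (Nmap 𝔞 ψ.hom).hom (((adj 𝔞).unit.app Q).hom x) := fun x => by
    rw [← hw]
    exact ConcreteCategory.congr_hom ((adj 𝔞).unit.naturality (ModuleCat.ofHom (Y := O) w)) x
  have hN : ∀ x, (Nmap 𝔞 ψ.inv).hom ((Nmap 𝔞 ψ.hom).hom x) = x := fun x => by
    refine (ConcreteCategory.congr_hom (Functor.map_comp (Coh.push (jU 𝔞) ⋙ moduleSpecΓFunctor) ψ.hom ψ.inv) x).symm.trans ?_
    rw [ψ.hom_inv_id, CategoryTheory.Functor.map_id]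
    rfl
  have hN' : ∀ y, (Nmap 𝔞 ψ.hom).hom ((Nmap 𝔞 ψ.inv).hom y) = y := fun y => by
    refine (ConcreteCategory.congr_hom (Functor.map_comp (Coh.push (jU 𝔞) ⋙ moduleSpecΓFunctor) ψ.inv ψ.hom) y).symm.trans ?_
    rw [ψ.inv_hom_id, CategoryTheory.Functor.map_id]
    rfl
  have := isQCoh_T 𝔞 Q
  refine ⟨w, fun x hx => ?_, fun y => ?_, fun η => ?_, fun c hc => ?_⟩
  · have h0 : ((adj 𝔞).unit.app Q).hom x = 0 := by
      rw [← hN (((adj 𝔞).unit.app Q).hom x), ← hnat, hx, map_zero, map_zero]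
    obtain ⟨m, hm⟩ := (torsMem_ker_unit 𝔞 Q x h0).exists_pow
    exact ⟨m, fun b hb => (Submodule.mem_bot R).1 (hm b hb)⟩
  · obtain ⟨m, hm⟩ := (torsMem_range_unit 𝔞 Q ((Nmap 𝔞 ψ.inv).hom (U y))).exists_pow
    refine ⟨m, fun b hb => ?_⟩
    obtain ⟨x, hx⟩ := hm b hb
    refine ⟨x, h.1 ?_⟩
    show U (w x) = U (b • y)
    rw [hnat, hx, map_smul, hN', map_smul]
  · let θ' : O ⟶ N 𝔞 ((T 𝔞).obj O) := (adj 𝔞).homEquiv O _ (ψ.inv ≫ (T 𝔞).map (ModuleCat.ofHom (Y := O) η))
    refine ⟨uE.symm (θ'.hom (1 : R)), LinearMap.ext fun x => h.1 ?_⟩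
    show U (η x) = U (uE.symm (θ'.hom (1 : R)) * w x)
    have h1 : ∀ r : R, U (r * uE.symm (θ'.hom (1 : R))) = θ'.hom r := fun r => by
      rw [← smul_eq_mul, map_smul, show U (uE.symm (θ'.hom (1 : R))) = θ'.hom (1 : R) from uE.apply_symm_apply _,
        ← map_smul, smul_eq_mul, mul_one]
    rw [mul_comm, h1]
    have h2 : ModuleCat.ofHom (Y := O) w ≫ θ' = (adj 𝔞).homEquiv Q _ ((T 𝔞).map (ModuleCat.ofHom (Y := O) η)) := by
      rw [← Adjunction.homEquiv_naturality_left, hw, ψ.hom_inv_id_assoc]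
    refine Eq.trans ?_ (ConcreteCategory.congr_hom h2 x).symm
    rw [Adjunction.homEquiv_unit]
    exact ConcreteCategory.congr_hom ((adj 𝔞).unit.naturality (ModuleCat.ofHom (Y := O) η)) x
  · have h3 : (T 𝔞).map (ModuleCat.ofHom (c • LinearMap.id : O →ₗ[R] O)) = 𝟙 _ := by
      rw [← cancel_epi ψ.hom, Category.comp_id]
      conv_lhs => rw [← hw]
      rw [← Functor.map_comp, ← hw]
      exact congrArg (fun g => (T 𝔞).map (ModuleCat.ofHom (Y := O) g)) hc
    refine h.1 ?_
    show U c = U 1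
    have h4 := ConcreteCategory.congr_hom
      ((adj 𝔞).unit.naturality (ModuleCat.ofHom (c • LinearMap.id : O →ₗ[R] O))) (1 : R)
    refine Eq.trans ?_ (h4.trans ?_)
    · exact congrArg U (mul_one c).symm
    · show (Nmap 𝔞 ((T 𝔞).map (ModuleCat.ofHom (c • LinearMap.id : O →ₗ[R] O)))).hom (U 1) = U 1
      rw [h3]
      exact ConcreteCategory.congr_hom ((Coh.push (jU 𝔞) ⋙ moduleSpecΓFunctor).map_id _) (U 1)

section Ext

variable {A B : Type u} [CommRing A] [CommRing B] [IsNoetherianRing A] [IsLocalRing B] [Algebra A B]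
  [Module.FaithfullyFlat A B]

/-- Descent of a generator of the dual. -/
theorem exists_descend_generator (I : Ideal A) (M : Type u) [AddCommGroup M] [Module A M] [Module.Finite A M]
    (w : B ⊗[A] M →ₗ[B] B)
    (hker : ∀ x, w x = 0 → ∃ m : ℕ, ∀ b ∈ I.map (algebraMap A B) ^ m, b • x = 0)
    (hcok : ∀ y : B, ∃ m : ℕ, ∀ b ∈ I.map (algebraMap A B) ^ m, b • y ∈ LinearMap.range w)
    (hgen : ∀ η : B ⊗[A] M →ₗ[B] B, ∃ c : B, η = c • w) (hone : ∀ c : B, c • w = w → c = 1) :
    ∃ φ : M →ₗ[A] A, (∀ x, φ x = 0 → ∃ m : ℕ, ∀ a ∈ I ^ m, a • x = 0) ∧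
      ∀ y : A, ∃ m : ℕ, ∀ a ∈ I ^ m, a • y ∈ LinearMap.range φ := by
  classical
  have := Module.finitePresentation_of_finite A M
  let e : B ⊗[A] A ≃ₗ[B] B := TensorProduct.AlgebraTensorModule.rid A B B
  let ext : (M →ₗ[A] A) → (B ⊗[A] M →ₗ[B] B) := fun φ => e.toLinearMap.comp (φ.baseChange B)
  have hext : ∀ φ x, ext φ (1 ⊗ₜ x) = algebraMap A B (φ x) := fun φ x => by
    show e (1 ⊗ₜ φ x) = _
    simp [e, Algebra.algebraMap_eq_smul_one]
  have hgen1 : ∃ (φ : M →ₗ[A] A) (c : B), IsUnit c ∧ ext φ = c • w := by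
    by_contra hno
    push Not at hno
    have hmem : ∀ η : B ⊗[A] M →ₗ[B] B ⊗[A] A, ∀ c : B, e.toLinearMap.comp η = c • w →
        c ∈ IsLocalRing.maximalIdeal B := by
      intro η
      induction η using (Module.FinitePresentation.isBaseChange_map A M A B).inductionOn with
      | tmul φ => exact fun c hc hu => hno φ c hu hc
      | zero =>
        intro c hc
        have : (c + 1) • w = w := LinearMap.ext fun x => by
          have e0 := LinearMap.congr_fun hc x
          simp only [LinearMap.comp_apply, LinearMap.zero_apply, map_zero, LinearMap.smul_apply, smul_eq_mul] at e0 ⊢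
          linear_combination -e0
        rw [show c = 0 from by simpa using hone _ this]
        exact zero_mem _
      | add g g' ih ih' =>
        intro c hc
        obtain ⟨c1, hc1⟩ := hgen (e.toLinearMap.comp g)
        obtain ⟨c2, hc2⟩ := hgen (e.toLinearMap.comp g')
        have : (c + 1 - (c1 + c2)) • w = w := LinearMap.ext fun x => by
          have e0 := LinearMap.congr_fun hc x
          have e1 := LinearMap.congr_fun hc1 x
          have e2 := LinearMap.congr_fun hc2 x
          simp only [LinearMap.comp_apply, LinearMap.add_apply, map_add, LinearMap.smul_apply, smul_eq_mul] at e0 e1 e2 ⊢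
          linear_combination -e0 + e1 + e2
        rw [show c = c1 + c2 from by have := hone _ this; linear_combination this]
        exact add_mem (ih c1 hc1) (ih' c2 hc2)
      | smul a g ih =>
        intro c hc
        obtain ⟨c1, hc1⟩ := hgen (e.toLinearMap.comp g)
        have : (c + 1 - a * c1) • w = w := LinearMap.ext fun x => by
          have e0 := LinearMap.congr_fun hc x
          have e1 := LinearMap.congr_fun hc1 x
          simp only [LinearMap.comp_apply, LinearMap.smul_apply, map_smul, smul_eq_mul] at e0 e1 ⊢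
          linear_combination -e0 + a * e1
        rw [show c = a * c1 from by have := hone _ this; linear_combination this]
        exact Ideal.mul_mem_left _ a (ih c1 hc1)
    refine hmem (e.symm.toLinearMap.comp w) 1 (LinearMap.ext fun x => ?_) isUnit_one
    simp
  obtain ⟨φ, c, hc, hφ⟩ := hgen1
  have hmap : ∀ {m : ℕ} {a : A}, a ∈ I ^ m → algebraMap A B a ∈ I.map (algebraMap A B) ^ m := fun {m a} ha => by
    rw [← Ideal.map_pow]; exact Ideal.mem_map_of_mem _ ha
  refine ⟨φ, fun x hx => ?_, fun y => ?_⟩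
  · have h0 : w (1 ⊗ₜ x) = 0 := by
      refine hc.smul_eq_zero.1 ?_
      rw [← LinearMap.smul_apply, ← hφ, hext, hx, map_zero]
    obtain ⟨m, hm⟩ := hker _ h0
    refine ⟨m, fun a ha => Module.FaithfullyFlat.tensorProduct_mk_injective (A := A) (B := B) M ?_⟩
    show (1 : B) ⊗ₜ[A] (a • x) = (1 : B) ⊗ₜ[A] 0
    rw [TensorProduct.tmul_smul, TensorProduct.tmul_zero, ← algebraMap_smul B a]
    exact hm _ (hmap ha)
  · obtain ⟨m, hm⟩ := hcok (algebraMap A B y)
    refine ⟨m, fun a ha => ?_⟩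
    obtain ⟨z, hz⟩ := hm _ (hmap ha)
    let J : Ideal A := LinearMap.range φ
    have hr : ∀ z, ext φ z ∈ J.map (algebraMap A B) := fun z => by
      induction z using TensorProduct.induction_on with
      | zero => rw [map_zero]; exact zero_mem _
      | tmul b x =>
        rw [show b ⊗ₜ[A] x = b • ((1 : B) ⊗ₜ x) by rw [TensorProduct.smul_tmul', smul_eq_mul, mul_one],
          map_smul, hext, smul_eq_mul]
        exact Ideal.mul_mem_left _ _ (Ideal.mem_map_of_mem _ (show φ x ∈ J from ⟨x, rfl⟩))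
      | add z z' hz hz' => rw [map_add]; exact add_mem hz hz'
    have h2 : algebraMap A B (a • y) ∈ J.map (algebraMap A B) := by
      obtain ⟨c', hc'⟩ := hc.exists_left_inv
      have : algebraMap A B (a • y) = ext φ (c' • z) := by
        rw [hφ, LinearMap.smul_apply, map_smul w, smul_smul, mul_comm c c', hc', one_smul, hz, smul_eq_mul, smul_eq_mul,
          map_mul]
      rw [this]
      exact hr _
    show a • y ∈ J
    rw [← Ideal.comap_map_eq_self_of_faithfullyFlat (B := B) J]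
    exact h2

end Ext

end Groth.Agent.Formal2Lib.Punct

namespace Groth.Agent.Formal2Lib.Punct

/-- An invertible module on the punctured scheme, trivial after a faithfully flat extension with depth two, is trivial. -/
theorem nonempty_iso_of_pullback {A B : Type u} [CommRing A] [CommRing B] [IsNoetherianRing A] [IsNoetherianRing B]
    [IsLocalRing B] [Algebra A B] [Module.FaithfullyFlat A B] (𝔞 : Ideal A)
    (hB : ∀ i : ℕ, i < 2 → Subsingleton (_root_.LocCoh.H (𝔞.map (algebraMap A B)) i B))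
    (U : (Spec (CommRingCat.of A)).Opens) (hU : U = LocCoh.puncturedOpen A 𝔞)
    (L : (U : Scheme.{u}).Modules) (hL : Coh.IsCoh L)
    (h : Nonempty ((Scheme.Modules.pullback (Spec.map (CommRingCat.ofHom (algebraMap A B)) ∣_ U)).obj L ≅
      Coh.structureModule (↑(Spec.map (CommRingCat.ofHom (algebraMap A B)) ⁻¹ᵁ U) : Scheme.{u}))) :
    Nonempty (L ≅ Coh.structureModule (U : Scheme.{u})) := by
  subst hU
  obtain ⟨M, hfin, ⟨e⟩⟩ := exists_model (R := CommRingCat.of A) 𝔞 L hL
  obtain ⟨h⟩ := h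
  obtain ⟨a⟩ := Groth.Agent.S2265.result A B M
  let g := Spec.map (CommRingCat.ofHom (algebraMap A B))
  let U0 := LocCoh.puncturedOpen A 𝔞
  let V := g ⁻¹ᵁ U0
  let X : (Spec (CommRingCat.of A)).Modules := tilde (R := CommRingCat.of A) M
  let i1 : (Scheme.Modules.pullback V.ι).obj ((Scheme.Modules.pullback g).obj X) ≅
      (Scheme.Modules.pullback (g ∣_ U0)).obj ((Scheme.Modules.pullback U0.ι).obj X) :=
    (Scheme.Modules.pullbackComp V.ι g).app X ≪≫
      (Scheme.Modules.pullbackCongr (morphismRestrict_ι g U0).symm).app X ≪≫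
      ((Scheme.Modules.pullbackComp (g ∣_ U0) U0.ι).app X).symm
  let i2 : (Scheme.Modules.restrictFunctor V.ι).obj
        (tilde (R := CommRingCat.of B) (ModuleCat.of B (B ⊗[A] M))) ≅ Coh.structureModule (V : Scheme.{u}) :=
    (Scheme.Modules.restrictFunctorIsoPullback V.ι).app _ ≪≫
      (Scheme.Modules.pullback V.ι).mapIso a.symm ≪≫ i1 ≪≫
      (Scheme.Modules.pullback (g ∣_ U0)).mapIso
        (((Scheme.Modules.restrictFunctorIsoPullback U0.ι).app X).symm ≪≫ e) ≪≫ h
  have key : ∀ (W : (Spec (CommRingCat.of B)).Opens), W = LocCoh.puncturedOpen B (𝔞.map (algebraMap A B)) →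
      Nonempty ((Scheme.Modules.restrictFunctor W.ι).obj
        (tilde (R := CommRingCat.of B) (ModuleCat.of B (B ⊗[A] M))) ≅ Coh.structureModule (W : Scheme.{u})) →
      Nonempty ((T (R := CommRingCat.of B) (𝔞.map (algebraMap A B))).obj (ModuleCat.of B (B ⊗[A] M)) ≅
        (T (R := CommRingCat.of B) (𝔞.map (algebraMap A B))).obj (ModuleCat.of B B)) := by
    rintro W rfl ⟨i⟩
    exact ⟨i ≪≫ (Scheme.Modules.restrictUnitIso _).symm⟩
  have hV : V = LocCoh.puncturedOpen B (𝔞.map (algebraMap A B)) := Opens.ext (Set.ext fun (q : PrimeSpectrum B) => by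
    show (¬ (𝔞 : Set A) ⊆ (q.asIdeal.comap (algebraMap A B) : Set A)) ↔ ¬ ((𝔞.map (algebraMap A B) : Ideal B) : Set B) ⊆ (q.asIdeal : Set B)
    exact not_congr (Ideal.map_le_iff_le_comap (f := algebraMap A B)).symm)
  obtain ⟨ψ⟩ := key V hV ⟨i2⟩
  obtain ⟨w, hker, hcok, hgen, hone⟩ := exists_generator (R := CommRingCat.of B) _
    (unit_bijective (R := CommRingCat.of B) _ hB) _ ψ
  obtain ⟨φ, hk, hc⟩ := exists_descend_generator 𝔞 M w hker hcok hgen hone
  have := isIso_T_of_torsion (R := CommRingCat.of A) 𝔞 (M := M) (N := ModuleCat.of A A) φ hk hc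
  exact ⟨e.symm ≪≫ asIso ((T (R := CommRingCat.of A) 𝔞).map (ModuleCat.ofHom (Y := ModuleCat.of A A) φ)) ≪≫
    Scheme.Modules.restrictUnitIso _⟩

end Groth.Agent.Formal2Lib.Punct
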