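import Groth.Agent.Formal2Lib.SatBasic
import Mathlib.RingTheory.AdicCompletion.Basic
import Mathlib.RingTheory.Noetherian.Basic

/-!
# Algebraization of a principal tower of saturated modules
-/

set_option autoImplicit false

universe u

namespace Groth.Agent.Formal2Lib.Sat

open Groth.Agent.LocCoh

variable {A : Type u} [CommRing A] [IsNoetherianRing A] {𝔞 : Ideal A} {f : A}

/-- A tower of saturated modules which is locally the reduction of a module without `f`-torsion. -/
structure Tower (𝔞 : Ideal A) (f : A) where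
  N : ℕ → Type u
  [acg : ∀ n, AddCommGroup (N n)]
  [mod : ∀ n, Module A (N n)]
  q : ∀ n, N (n + 1) →ₗ[A] N n
  sat : ∀ n, IsSat 𝔞 (N n)
  killed : ∀ n (x : N n), f ^ (n + 1) • x = 0
  coker : ∀ n (y : N n), TorsMem 𝔞 (LinearMap.range (q n)) y
  ker : ∀ n (x : N (n + 1)), q n x = 0 →
    TorsMem 𝔞 (LinearMap.range (f ^ (n + 1) • LinearMap.id : N (n + 1) →ₗ[A] N (n + 1))) x
  tors : ∀ n (x : N (n + 1)), f • x = 0 →
    TorsMem 𝔞 (LinearMap.range (f ^ (n + 1) • LinearMap.id : N (n + 1) →ₗ[A] N (n + 1))) x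

attribute [instance] Tower.acg Tower.mod

namespace Tower

variable (T : Tower 𝔞 f)

theorem exists_ψ (n : ℕ) : ∃ ψ : T.N n →ₗ[A] T.N (n + 1),
    (∀ w, ψ (T.q n w) = f • w) ∧ (∀ y, T.q n (ψ y) = f • y) ∧ Function.Injective ψ := by
  have hz : ∀ x, T.q n x = 0 → f • x = 0 := fun x hx => (T.sat _).sep _ <| mem_powTorsion_iff.2 fun a ha => by
    obtain ⟨k, w, hw⟩ := T.ker n x hx a ha
    refine ⟨k, ?_⟩
    rw [Submodule.mem_bot, smul_comm, ← hw, LinearMap.smul_apply, LinearMap.id_apply, ← mul_smul,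
      ← pow_succ', T.killed]
  let φ : (T.N (n + 1) ⧸ LinearMap.ker (T.q n)) →ₗ[A] T.N (n + 1) :=
    Submodule.liftQ _ (f • LinearMap.id) fun x hx => LinearMap.mem_ker.2 (hz x (LinearMap.mem_ker.1 hx))
  let i : (T.N (n + 1) ⧸ LinearMap.ker (T.q n)) →ₗ[A] T.N n := Submodule.liftQ _ (T.q n) le_rfl
  have hi : Function.Injective i := LinearMap.ker_eq_bot.1 (Submodule.ker_liftQ_eq_bot' _ _ rfl)
  obtain ⟨ψ, hψ⟩ := (T.sat (n + 1)).exists_extend i
    (fun x hx => TorsMem.of_mem (by rw [Submodule.mem_bot]; exact hi (hx.trans (map_zero i).symm)))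
    (fun y a ha => by
      obtain ⟨k, w, hw⟩ := T.coker n y a ha
      exact ⟨k, Submodule.Quotient.mk w, hw⟩) φ
  have hψq : ∀ w, ψ (T.q n w) = f • w := fun w => hψ (Submodule.Quotient.mk w)
  have hqψ : ∀ y, T.q n (ψ y) = f • y := by
    refine fun y => LinearMap.congr_fun
      ((T.sat n).hom_ext (T.q n) (T.coker n) (Φ := (T.q n).comp ψ) (Ψ := f • LinearMap.id) fun w => ?_) y
    rw [LinearMap.comp_apply, hψq, map_smul]
    rfl
  refine ⟨ψ, hψq, hqψ, (injective_iff_map_eq_zero _).2 fun y hy => (T.sat n).sep y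
    (mem_powTorsion_iff.2 fun a ha => ?_)⟩
  obtain ⟨k, w, hw⟩ := T.coker n y a ha
  obtain ⟨l, v, hv⟩ := T.tors n w (by rw [← hψq, hw, map_smul, hy, smul_zero]) a ha
  refine ⟨l + k, ?_⟩
  rw [Submodule.mem_bot, pow_add, mul_smul, ← hw, ← map_smul, ← hv, LinearMap.smul_apply, LinearMap.id_apply,
    map_smul, T.killed]

/-- Multiplication by `f`, one level up. -/
noncomputable def ψ (n : ℕ) : T.N n →ₗ[A] T.N (n + 1) := (T.exists_ψ n).choose

theorem ψ_q (n : ℕ) (w : T.N (n + 1)) : T.ψ n (T.q n w) = f • w := (T.exists_ψ n).choose_spec.1 w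
theorem q_ψ (n : ℕ) (y : T.N n) : T.q n (T.ψ n y) = f • y := (T.exists_ψ n).choose_spec.2.1 y
theorem ψ_injective (n : ℕ) : Function.Injective (T.ψ n) := (T.exists_ψ n).choose_spec.2.2

theorem ψ_q_eq (n : ℕ) (y : T.N (n + 1)) : T.ψ n (T.q n y) = T.q (n + 1) (T.ψ (n + 1) y) := by
  rw [ψ_q, q_ψ]

/-- Down the tower. -/
noncomputable def down {k n : ℕ} (h : k ≤ n) : T.N n →ₗ[A] T.N k :=
  Nat.leRec (motive := fun m _ => T.N m →ₗ[A] T.N k) LinearMap.id (fun m _ r => r.comp (T.q m)) h

/-- Up the tower. -/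
noncomputable def up {k n : ℕ} (h : k ≤ n) : T.N k →ₗ[A] T.N n :=
  Nat.leRec (motive := fun m _ => T.N k →ₗ[A] T.N m) LinearMap.id (fun m _ r => (T.ψ m).comp r) h

theorem down_self (k : ℕ) (x : T.N k) : T.down le_rfl x = x := by
  simp [down]

theorem down_succ {k n : ℕ} (h : k ≤ n) (x : T.N (n + 1)) :
    T.down (h.trans (Nat.le_succ n)) x = T.down h (T.q n x) := by
  simp [down, Nat.leRec_succ _ _ h]

theorem up_self (k : ℕ) (x : T.N k) : T.up le_rfl x = x := by
  simp [up]

theorem up_succ {k n : ℕ} (h : k ≤ n) (x : T.N k) :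
    T.up (h.trans (Nat.le_succ n)) x = T.ψ n (T.up h x) := by
  simp [up, Nat.leRec_succ _ _ h]

theorem down_trans {j k n : ℕ} (h₁ : j ≤ k) (h₂ : k ≤ n) (x : T.N n) :
    T.down (h₁.trans h₂) x = T.down h₁ (T.down h₂ x) := by
  induction n, h₂ using Nat.le_induction with
  | base => rw [down_self]
  | succ n hn ih => rw [T.down_succ (h₁.trans hn), ih, T.down_succ hn]

theorem up_trans {j k n : ℕ} (h₁ : j ≤ k) (h₂ : k ≤ n) (x : T.N j) :
    T.up (h₁.trans h₂) x = T.up h₂ (T.up h₁ x) := by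
  induction n, h₂ using Nat.le_induction with
  | base => rw [up_self]
  | succ n hn ih => rw [T.up_succ (h₁.trans hn), ih, T.up_succ hn]

theorem down_up {k n : ℕ} (h : k ≤ n) (y : T.N k) : T.down h (T.up h y) = f ^ (n - k) • y := by
  induction n, h using Nat.le_induction with
  | base => rw [up_self, down_self, Nat.sub_self, pow_zero, one_smul]
  | succ n hn ih =>
    rw [T.up_succ hn, T.down_succ hn, q_ψ, map_smul, ih, ← mul_smul, ← pow_succ', Nat.succ_sub hn]

theorem up_down {k n : ℕ} (h : k ≤ n) (w : T.N n) : T.up h (T.down h w) = f ^ (n - k) • w := by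
  induction n, h using Nat.le_induction with
  | base => rw [down_self, up_self, Nat.sub_self, pow_zero, one_smul]
  | succ n hn ih =>
    rw [T.up_succ hn, T.down_succ hn, ih, map_smul, ψ_q, ← mul_smul, ← pow_succ, Nat.succ_sub hn]

theorem up_injective {k n : ℕ} (h : k ≤ n) : Function.Injective (T.up h) := by
  induction n, h using Nat.le_induction with
  | base => exact fun x y hxy => by rwa [up_self, up_self] at hxy
  | succ n hn ih => exact fun x y hxy => ih (T.ψ_injective n (by rwa [← T.up_succ hn, ← T.up_succ hn]))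

theorem q_up {k n : ℕ} (h : k ≤ n) (y : T.N (k + 1)) :
    T.q n (T.up (Nat.succ_le_succ h) y) = T.up h (T.q k y) := by
  induction n, h using Nat.le_induction with
  | base => rw [up_self, up_self]
  | succ n hn ih =>
    rw [T.up_succ (Nat.succ_le_succ hn), ← ψ_q_eq, ih, T.up_succ hn]

theorem ker_down {k n : ℕ} (h : k ≤ n) (x : T.N n) (hx : T.down h x = 0) :
    TorsMem 𝔞 (LinearMap.range (f ^ (k + 1) • LinearMap.id : T.N n →ₗ[A] T.N n)) x := by
  induction n, h using Nat.le_induction with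
  | base => exact TorsMem.of_mem ⟨0, by rw [map_zero]; exact (hx ▸ (T.down_self k x)).symm ▸ rfl⟩
  | succ n hn ih =>
    intro a ha
    obtain ⟨m, z, hz⟩ := ih (T.q n x) (by rw [← T.down_succ hn]; exact hx) a ha
    obtain ⟨m', w, hw⟩ := T.coker n z a ha
    obtain ⟨l, v, hv⟩ := T.ker n (a ^ (m' + m) • x - f ^ (k + 1) • w) (by
      rw [map_sub, map_smul, map_smul, hw, pow_add, mul_smul, ← hz, smul_comm]
      exact sub_self _) a ha
    refine ⟨l + (m' + m), a ^ l • w + f ^ (n - k) • v, ?_⟩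
    simp only [LinearMap.smul_apply, LinearMap.id_apply] at hv ⊢
    rw [smul_add, ← mul_smul (f ^ (k + 1)) (f ^ (n - k)), ← pow_add, show k + 1 + (n - k) = n + 1 by omega,
      hv, smul_sub, smul_comm (f ^ (k + 1)), pow_add a l, mul_smul]
    abel

theorem mem_range_up {j k n : ℕ} (h : k ≤ n) (hj : j ≤ n) (hjk : n - j = k + 1) (x : T.N n)
    (hx : T.down h x = 0) : x ∈ LinearMap.range (T.up hj) := by
  refine (T.sat j).mem_range (T.sat n).sep _ (T.up_injective hj) ((T.ker_down h x hx).trans ?_)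
  rintro _ ⟨w, rfl⟩
  exact TorsMem.of_mem ⟨T.down hj w, by rw [up_down, hjk]; rfl⟩

variable {J : Type u} [AddCommGroup J] [Module A J] [Module.Injective A J]

theorem exists_stab (M : Submodule A (T.N 0)) (hM : ∀ y, TorsMem 𝔞 M y) (ι : M →ₗ[A] J)
    (hι : Function.Injective ι)
    (hH : Module.Finite A (_root_.LocCoh.DT 𝔞 (J ⧸ LinearMap.range ι) ⧸
      LinearMap.range (_root_.LocCoh.toDT 𝔞 (J ⧸ LinearMap.range ι)))) :
    ∃ c, ∀ n (h : c ≤ n) (y : T.N n), ∃ z, y - T.up h z ∈ LinearMap.range (T.q n) := by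
  obtain ⟨e, he⟩ := Module.Injective.extension_property A J M (T.N 0) M.subtype M.injective_subtype ι
  have he' : ∀ m : M, e m.1 = ι m := fun m => LinearMap.congr_fun he m
  have hei : Function.Injective e := (injective_iff_map_eq_zero _).2 fun x hx => (T.sat 0).sep x
    (mem_powTorsion_iff.2 fun a ha => by
      obtain ⟨k, hk⟩ := hM x a ha
      refine ⟨k, (Submodule.mem_bot A).2 ?_⟩
      exact congrArg Subtype.val (hι (a₁ := ⟨_, hk⟩) (a₂ := 0) (by
        rw [← he', map_zero]; show e (a ^ k • x) = 0; rw [map_smul, hx, smul_zero])))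
  have key : ∀ n (l : T.N n →ₗ[A] J), ∃ l' : T.N (n + 1) →ₗ[A] J, l'.comp (T.ψ n) = l := fun n l =>
    Module.Injective.extension_property A J (T.N n) (T.N (n + 1)) (T.ψ n) (T.ψ_injective n) l
  choose step hstep using key
  let l : ∀ n, T.N n →ₗ[A] J := fun n => Nat.rec (motive := fun n => T.N n →ₗ[A] J) e step n
  have hl : ∀ n y, l (n + 1) (T.ψ n y) = l n y := fun n y => LinearMap.congr_fun (hstep n (l n)) y
  have hl0 : ∀ n y, l n (T.up (Nat.zero_le n) y) = e y := fun n y => by
    induction n with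
    | zero => rw [up_self]; rfl
    | succ n ih => rw [T.up_succ (Nat.zero_le n), hl, ih]
  let D := _root_.LocCoh.DT 𝔞 (J ⧸ LinearMap.range ι)
  let u : J →ₗ[A] D := (_root_.LocCoh.toDT 𝔞 (J ⧸ LinearMap.range ι)).comp (LinearMap.range ι).mkQ
  have hu : ∀ z, u (e z) = 0 := fun z => (isSat_DT (M := J ⧸ LinearMap.range ι)).sep _
    (mem_powTorsion_iff.2 fun a ha => by
      obtain ⟨k, hk⟩ := hM z a ha
      refine ⟨k, (Submodule.mem_bot A).2 ?_⟩
      rw [← map_smul, ← map_smul, show e (a ^ k • z) = ι ⟨_, hk⟩ from he' ⟨_, hk⟩]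
      exact (congrArg (_root_.LocCoh.toDT 𝔞 _)
        ((Submodule.Quotient.mk_eq_zero (LinearMap.range ι)).2 (LinearMap.mem_range_self ι _))).trans (map_zero _))
  have key : ∀ n, ∃ Φ : T.N n →ₗ[A] D, ∀ w, Φ (T.q n w) = u (l (n + 1) w) := fun n => by
    have hz : LinearMap.ker (T.q n) ≤ LinearMap.ker (u.comp (l (n + 1))) := fun x hx => by
      obtain ⟨y, rfl⟩ := T.mem_range_up (j := 0) (Nat.le_add_right n 1) (Nat.zero_le (n + 1)) rfl x (by
        rw [T.down_succ le_rfl, down_self]; exact hx)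
      rw [LinearMap.mem_ker, LinearMap.comp_apply]; exact (congrArg u (hl0 (n + 1) y)).trans (hu y)
    obtain ⟨Φ, hΦ⟩ := (isSat_DT (M := J ⧸ LinearMap.range ι)).exists_extend
      (Submodule.liftQ (LinearMap.ker (T.q n)) (T.q n) le_rfl)
      (fun x hx => TorsMem.of_mem (by
        rw [Submodule.mem_bot]
        exact LinearMap.ker_eq_bot.1 (Submodule.ker_liftQ_eq_bot' _ _ rfl) (hx.trans (map_zero _).symm)))
      (fun y a ha => by
        obtain ⟨k, w, hw⟩ := T.coker n y a ha
        exact ⟨k, Submodule.Quotient.mk w, hw⟩)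
      (Submodule.liftQ _ (u.comp (l (n + 1))) hz)
    exact ⟨Φ, fun w => hΦ (Submodule.Quotient.mk w)⟩
  choose Φ hΦ using key
  have hΦψ : ∀ n y, Φ (n + 1) (T.ψ n y) = Φ n y := fun n y => LinearMap.congr_fun
    ((isSat_DT (M := J ⧸ LinearMap.range ι)).hom_ext (T.q n) (T.coker n)
      (Φ := (Φ (n + 1)).comp (T.ψ n)) (Ψ := Φ n) fun w => by
        rw [LinearMap.comp_apply, ψ_q_eq, hΦ, hΦ, hl]) y
  let d : ∀ n, T.N n →ₗ[A] (D ⧸ LinearMap.range (_root_.LocCoh.toDT 𝔞 (J ⧸ LinearMap.range ι))) := fun n =>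
    (Submodule.mkQ _).comp (Φ n)
  have hdψ : ∀ {k n} (h : k ≤ n) y, d n (T.up h y) = d k y := fun {k n} h y => by
    induction n, h using Nat.le_induction with
    | base => rw [up_self]
    | succ n hn ih =>
      rw [T.up_succ hn]
      exact (congrArg Submodule.Quotient.mk (hΦψ n _)).trans ih
  have hker : ∀ n y, d n y = 0 → y ∈ LinearMap.range (T.q n) := fun n y hy => by
    obtain ⟨x, hx⟩ := (Submodule.Quotient.mk_eq_zero _).1 hy
    obtain ⟨j, rfl⟩ := Submodule.Quotient.mk_surjective _ x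
    let ξ : T.N (n + 1) →ₗ[A] T.N n × _root_.LocCoh.DT 𝔞 J :=
      (T.q n).prod ((_root_.LocCoh.toDT 𝔞 J).comp (l (n + 1)))
    have hξ : Function.Injective ξ := (injective_iff_map_eq_zero _).2 fun w hw => by
      obtain ⟨z, rfl⟩ := T.mem_range_up (j := 0) (Nat.le_add_right n 1) (Nat.zero_le (n + 1)) rfl w (by
        rw [T.down_succ le_rfl, down_self]; exact congrArg Prod.fst hw)
      have h2 : _root_.LocCoh.toDT 𝔞 J (e z) = 0 := by
        rw [← hl0 (n + 1)]; exact congrArg Prod.snd hw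
      rw [(T.sat 0).sep z (mem_powTorsion_iff.2 fun a ha => ?_), map_zero]
      obtain ⟨k, hk⟩ := mem_powTorsion_iff.1 ((toDT_eq_zero_iff _).1 h2) a ha
      exact ⟨k, (Submodule.mem_bot A).2 (hei (by rw [map_smul, map_zero]; exact (Submodule.mem_bot A).1 hk))⟩
    have hP : ∀ x : T.N n × _root_.LocCoh.DT 𝔞 J, x ∈ powTorsion 𝔞 _ → x = 0 := fun x ⟨m, hm⟩ =>
      Prod.ext ((T.sat n).sep _ ⟨m, fun b hb => congrArg Prod.fst (hm b hb)⟩)
        ((isSat_DT (M := J)).sep _ ⟨m, fun b hb => congrArg Prod.snd (hm b hb)⟩)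
    obtain ⟨w, hw⟩ := (T.sat (n + 1)).mem_range hP ξ hξ (x := (y, _root_.LocCoh.toDT 𝔞 J j)) fun a ha => by
      obtain ⟨k, w, hwk⟩ := T.coker n y a ha
      have h0 : u (l (n + 1) w - a ^ k • j) = 0 := by
        rw [map_sub, map_smul, ← hΦ, hwk, map_smul, ← hx]
        exact sub_self _
      obtain ⟨k', hk'⟩ := mem_powTorsion_iff.1 ((toDT_eq_zero_iff _).1 h0) a ha
      obtain ⟨m, hm⟩ := (Submodule.Quotient.mk_eq_zero (LinearMap.range ι)).1
        (show Submodule.Quotient.mk (a ^ k' • (l (n + 1) w - a ^ k • j)) = 0 from (Submodule.mem_bot A).1 hk')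
      refine ⟨k' + k, a ^ k' • w - T.up (Nat.zero_le (n + 1)) m.1, Prod.ext ?_ ?_⟩
      · show T.q n (a ^ k' • w - _) = a ^ (k' + k) • y
        rw [map_sub, map_smul, hwk, pow_add, mul_smul, sub_eq_self]
        rw [← T.down_self n (T.q n _), ← T.down_succ le_rfl, T.up_trans (Nat.zero_le n) (Nat.le_succ n),
          T.up_succ le_rfl, up_self, T.down_succ le_rfl, down_self, q_ψ]
        induction n with
        | zero => rw [up_self]; exact (pow_one f ▸ T.killed 0 _ :)
        | succ n _ =>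
          rw [← map_smul, show f • m.1 = f ^ (0 + 1) • m.1 by rw [zero_add, pow_one], T.killed, map_zero]
      · show _root_.LocCoh.toDT 𝔞 J (l (n + 1) _) = a ^ (k' + k) • _root_.LocCoh.toDT 𝔞 J j
        rw [map_sub (l (n + 1)), show l (n + 1) (T.up (Nat.zero_le (n + 1)) m.1) = e m.1 from hl0 (n + 1) m.1, he', hm, map_smul (l (n + 1)), ← map_smul (_root_.LocCoh.toDT 𝔞 J),
          pow_add, mul_smul, smul_sub, sub_sub_cancel]
    exact ⟨w, congrArg Prod.fst hw⟩
  haveI : IsNoetherian A (D ⧸ LinearMap.range (_root_.LocCoh.toDT 𝔞 (J ⧸ LinearMap.range ι))) :=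
    isNoetherian_of_isNoetherianRing_of_finite A _
  obtain ⟨c, hc⟩ := monotone_stabilizes_iff_noetherian.2 inferInstance
    ⟨fun n => LinearMap.range (d n), monotone_nat_of_le_succ fun n => by
      rintro _ ⟨y, rfl⟩
      exact ⟨T.up (Nat.le_succ n) y, hdψ _ y⟩⟩
  refine ⟨c, fun n h y => ?_⟩
  obtain ⟨z, hz⟩ : d n y ∈ LinearMap.range (d c) :=
    (SetLike.ext_iff.1 (hc n h) (d n y)).2 ⟨y, rfl⟩
  exact ⟨z, hker n _ (by rw [map_sub, hdψ, hz, sub_self])⟩

/-- The algebraization. -/
theorem exists_module [IsPrecomplete (Ideal.span {f}) A] (hN₀ : Module.Finite A (T.N 0))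
    (hstab : ∃ c, ∀ n (h : c ≤ n) (y : T.N n), ∃ z, y - T.up h z ∈ LinearMap.range (T.q n)) :
    ∃ (M : Type u) (_ : AddCommGroup M) (_ : Module A M) (p : ∀ k, M →ₗ[A] T.N k),
      Module.Finite A M ∧ (∀ k x, T.q k (p (k + 1) x) = p k x) ∧
      (∀ k x, p k x = 0 → ∃ y, f ^ (k + 1) • y = x) ∧
      ∀ k y, TorsMem 𝔞 (LinearMap.range (p k)) y := by
  obtain ⟨c, hc⟩ := hstab
  let M : Submodule A (∀ n, T.N n) :=
    { carrier := {x | ∀ n, T.q n (x (n + 1)) = x n}
      add_mem' := fun hx hy n => by simp only [Pi.add_apply, map_add, hx n, hy n]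
      zero_mem' := fun n => map_zero _
      smul_mem' := fun a x hx n => by simp only [Pi.smul_apply, map_smul, hx n] }
  let p : ∀ k, M →ₗ[A] T.N k := fun k => (LinearMap.proj k).comp M.subtype
  have hcomp : ∀ k (x : M), T.q k (p (k + 1) x) = p k x := fun k x => x.2 k
  have hdown : ∀ {k n} (h : k ≤ n) (x : M), T.down h (p n x) = p k x := fun {k n} h x => by
    induction n, h using Nat.le_induction with
    | base => rw [down_self]
    | succ n hn ih => rw [T.down_succ hn, hcomp, ih]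
  have hlift : ∀ k n (h : k + c + 1 ≤ n) (y : T.N n), ∃ w : T.N (n + 1),
      T.down (show k ≤ n + 1 by omega) w = T.down (show k ≤ n by omega) y := fun k n h y => by
    obtain ⟨z, w, hw⟩ := hc n (by omega) y
    have h0 : T.down (show k ≤ n by omega) (T.up (show c ≤ n by omega) z) = 0 := by
      rcases le_total c k with hck | hck
      · rw [T.up_trans hck (show k ≤ n by omega), down_up, ← map_smul,
          show n - k = (n - k - (c + 1)) + (c + 1) by omega, pow_add, mul_smul, T.killed, smul_zero, map_zero]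
      · rw [T.down_trans hck (show c ≤ n by omega), down_up, map_smul,
          show n - c = (n - c - (k + 1)) + (k + 1) by omega, pow_add, mul_smul, T.killed, smul_zero]
    refine ⟨w, ?_⟩
    rw [T.down_succ (show k ≤ n by omega), hw, map_sub, h0, sub_zero]
  have hstep : ∀ j (w : T.N (j + c + 1)), ∃ w' : T.N (j + 1 + c + 1),
      T.q j (T.down (show j + 1 ≤ j + 1 + c + 1 by omega) w') = T.down (show j ≤ j + c + 1 by omega) w := by
    intro j w
    obtain ⟨w₁, hw₁⟩ := hlift j (j + c + 1) le_rfl w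
    have e : j + c + 1 + 1 = j + 1 + c + 1 := by omega
    have : ∀ {a b : ℕ} (hab : a = b) (h₁ : j ≤ a) (v : T.N a), ∃ v' : T.N b,
        T.down (show j ≤ b by omega) v' = T.down h₁ v := by
      rintro a b rfl h₁ v
      exact ⟨v, rfl⟩
    obtain ⟨w', hw'⟩ := this e (by omega) w₁
    refine ⟨w', ?_⟩
    rw [← hw₁, ← hw', T.down_trans (Nat.le_succ j) (show j + 1 ≤ j + 1 + c + 1 by omega),
      T.down_succ le_rfl, down_self]
  choose step hstep using hstep
  have hsurj : ∀ k (y : T.N (k + c + 1)), ∃ x : M, p k x = T.down (show k ≤ k + c + 1 by omega) y := by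
    intro k y
    have aux : ∀ i, ∃ w : T.N (k + i + c + 1), T.down (show k ≤ k + i by omega)
        (T.down (show k + i ≤ k + i + c + 1 by omega) w) = T.down (show k ≤ k + c + 1 by omega) y := by
      intro i
      induction i with
      | zero => exact ⟨y, down_self _ _ _⟩
      | succ i ih =>
        obtain ⟨w, hw⟩ := ih
        refine ⟨step (k + i) w, ?_⟩
        rw [T.down_succ (show k ≤ k + i by omega)]
        exact (congrArg (T.down _) (hstep (k + i) w)).trans hw
    let g : ∀ i, T.N (k + i + c + 1) := fun i =>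
      Nat.rec (motive := fun i => T.N (k + i + c + 1)) y (fun i w => step (k + i) w) i
    let v : ∀ i, T.N (k + i) := fun i => T.down (show k + i ≤ k + i + c + 1 by omega) (g i)
    have hv : ∀ i, T.q (k + i) (v (i + 1)) = v i := fun i => hstep (k + i) (g i)
    have hvd : ∀ {m i i'} (h : m ≤ k + i) (hi : i ≤ i'), T.down (h.trans (show k + i ≤ k + i' by omega)) (v i') =
        T.down h (v i) := fun {m i i'} h hi => by
      induction i', hi using Nat.le_induction with
      | base => rfl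
      | succ i' hi ih => rw [← ih, T.down_succ (h.trans (show k + i ≤ k + i' by omega)), hv]
    refine ⟨⟨fun m => T.down (show m ≤ k + m by omega) (v m), fun m => ?_⟩, ?_⟩
    · rw [← T.down_self m (T.q m _), ← T.down_succ le_rfl,
        ← T.down_trans (Nat.le_succ m) (show m + 1 ≤ k + (m + 1) by omega)]
      exact hvd (show m ≤ k + m by omega) (Nat.le_succ m)
    · show T.down _ (v k) = _
      exact hvd (show k ≤ k + 0 by omega) (Nat.zero_le k) |>.trans (T.down_self k _)
  have hcoker : ∀ k y, TorsMem 𝔞 (LinearMap.range (p k)) y := fun k y a ha => by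
    have hex : ∀ {n} (h : k ≤ n), ∃ (m : ℕ) (w : T.N n), T.down h w = a ^ m • y := fun {n} h => by
      induction n, h using Nat.le_induction with
      | base => exact ⟨0, y, by rw [down_self, pow_zero, one_smul]⟩
      | succ n hn ih =>
        obtain ⟨m, w, hw⟩ := ih
        obtain ⟨m', w', hw'⟩ := T.coker n w a ha
        exact ⟨m' + m, w', by rw [T.down_succ hn, hw', map_smul, hw, pow_add, mul_smul]⟩
    obtain ⟨m, w, hw⟩ := hex (show k ≤ k + c + 1 by omega)
    obtain ⟨x, hx⟩ := hsurj k w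
    exact ⟨m, x, hx.trans hw⟩
  have hkerp : ∀ k (x : M), p k x = 0 → ∃ y : M, f ^ (k + 1) • y = x := fun k x hx => by
    have h1 : ∀ j, ∃ y : T.N j, T.up (show j ≤ j + (k + 1) by omega) y = p (j + (k + 1)) x := fun j =>
      T.mem_range_up (k := k) (show k ≤ j + (k + 1) by omega) _ (by omega) _ (by rw [hdown]; exact hx)
    choose y hy using h1
    have hyc : ∀ j, T.q j (y (j + 1)) = y j := fun j => by
      apply T.up_injective (show j ≤ j + (k + 1) by omega)
      rw [← T.q_up, hy, ← hcomp]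
      have : ∀ {a b : ℕ} (hab : a = b) (h₁ : j + 1 ≤ a) (h₂ : j + 1 ≤ b + 0)
          (v : T.N (j + 1)) (hv : T.up h₁ v = p a x), T.up (show j + 1 ≤ b by omega) v = p b x := by
        rintro a b rfl h₁ h₂ v hv
        exact hv
      rw [this (show j + 1 + (k + 1) = j + (k + 1) + 1 by omega) _ (by omega) _ (hy (j + 1))]
    refine ⟨⟨y, hyc⟩, Subtype.ext (funext fun j => ?_)⟩
    show f ^ (k + 1) • y j = p j x
    rw [← hdown (show j ≤ j + (k + 1) by omega), ← hy, down_up, Nat.add_sub_cancel_left]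
  refine ⟨M, inferInstance, inferInstance, p, ?_, hcomp, hkerp, hcoker⟩
  obtain ⟨R, g, hg⟩ := Submodule.fg_iff_exists_fin_generating_family.1
    ((isNoetherian_def.1 (isNoetherian_of_isNoetherianRing_of_finite A (T.N 0))) (LinearMap.range (p 0)))
  choose γ hγ using fun i => (show g i ∈ LinearMap.range (p 0) from hg ▸ Submodule.subset_span ⟨i, rfl⟩)
  have hdiv : ∀ x : M, ∃ (a : Fin R → A) (x' : M), x = (∑ i, a i • γ i) + f • x' := fun x => by
    obtain ⟨a, ha⟩ := (Submodule.mem_span_range_iff_exists_fun A).1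
      (show p 0 x ∈ Submodule.span A (Set.range g) from hg ▸ ⟨x, rfl⟩)
    obtain ⟨x', hx'⟩ := hkerp 0 (x - ∑ i, a i • γ i) (by
      simp only [map_sub, map_sum, map_smul, hγ, ha, sub_self])
    have h : f • x' = f ^ (0 + 1) • x' := by rw [zero_add, pow_one]
    exact ⟨a, x', by rw [h, hx']; abel⟩
  choose co nx hnx using hdiv
  classical
  refine Module.finite_def.2 ⟨Finset.univ.image γ, eq_top_iff.2 fun x _ => ?_⟩
  let seq : ℕ → M := fun j => Nat.rec x (fun _ y => nx y) j
  let S : ℕ → Fin R → A := fun j i => ∑ l ∈ Finset.range j, f ^ l * co (seq l) i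
  have hseq : ∀ j, x = (∑ i, S j i • γ i) + f ^ j • seq j := fun j => by
    induction j with
    | zero => simp [S, seq]
    | succ j ih =>
      conv_lhs => rw [ih, hnx (seq j)]
      simp only [S, Finset.sum_range_succ, add_smul, Finset.sum_add_distrib, smul_add, Finset.smul_sum,
        mul_smul, pow_succ]
      rw [show seq (j + 1) = nx (seq j) from rfl]
      abel
  have hlim : ∀ i, ∃ L : A, ∀ j, f ^ j ∣ S j i - L := fun i => by
    obtain ⟨L, hL⟩ := IsPrecomplete.prec (I := Ideal.span {f}) inferInstance (f := fun j => S j i)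
      fun {m n} h => by
        rw [SModEq.sub_mem, smul_eq_mul, Ideal.mul_top, Ideal.span_singleton_pow, Ideal.mem_span_singleton]
        have : S n i - S m i = ∑ l ∈ Finset.Ico m n, f ^ l * co (seq l) i :=
          (Finset.sum_Ico_eq_sub _ h).symm
        rw [← neg_sub (S n i), this, dvd_neg]
        exact Finset.dvd_sum fun l hl => Dvd.dvd.mul_right (pow_dvd_pow f (Finset.mem_Ico.1 hl).1) _
    refine ⟨L, fun j => ?_⟩
    have := hL j
    rwa [SModEq.sub_mem, smul_eq_mul, Ideal.mul_top, Ideal.span_singleton_pow, Ideal.mem_span_singleton] at this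
  choose L hL using hlim
  have hx : x = ∑ i, L i • γ i := Subtype.ext (funext fun k => by
    show p k x = p k (∑ i, L i • γ i)
    conv_lhs => rw [hseq (k + 1)]
    rw [map_add, map_smul, T.killed, add_zero, map_sum, map_sum]
    refine Finset.sum_congr rfl fun i _ => ?_
    obtain ⟨d, hd⟩ := hL i (k + 1)
    rw [map_smul, map_smul, sub_eq_iff_eq_add.1 hd, add_smul, mul_comm, mul_smul, T.killed, smul_zero, zero_add])
  rw [hx]
  exact Submodule.sum_mem _ fun i _ => Submodule.smul_mem _ _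
    (Submodule.subset_span (Finset.mem_image_of_mem _ (Finset.mem_univ i)))

end Tower

end Groth.Agent.Formal2Lib.Sat
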