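import Groth.Agent.Formal2Lib.KerSys
import Groth.Agent.Misc15.KoszulTilde
import Groth.Agent.AffSchLib.TildeExact
import Groth.Prelude.Def_Wider
import Groth.Prelude.Def_Formal2

/-!
# Coherent modules on a punctured affine scheme as modules of sections
-/

set_option autoImplicit false
set_option backward.isDefEq.respectTransparency false

universe u

open CategoryTheory CategoryTheory.Limits AlgebraicGeometry Opposite TopologicalSpace
open Groth.Agent.Coherent Groth.Agent.Coherent.Serre Groth.Agent.Coherent.Existence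

namespace Groth.Agent.Formal2Lib.Punct

variable {R : CommRingCat.{u}} (𝔞 : Ideal R)

/-- The punctured scheme. -/
noncomputable abbrev US : Scheme.{u} := ↑(LocCoh.puncturedOpen R 𝔞)

/-- The inclusion in the spectrum. -/
noncomputable abbrev jU : US 𝔞 ⟶ Spec R := (LocCoh.puncturedOpen R 𝔞).ι

/-- The basic open of `a`. -/
abbrev D (a : R) : (Spec R).Opens := PrimeSpectrum.basicOpen a

theorem D_le {a : R} (ha : a ∈ 𝔞) : D a ≤ LocCoh.puncturedOpen R 𝔞 :=
  fun _ hx h => hx (h ha)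

theorem le_iSup_D {t : Set R} (ht : 𝔞 ≤ Ideal.span t) :
    LocCoh.puncturedOpen R 𝔞 ≤ ⨆ a : t, D (a : R) := by
  intro x hx
  by_contra hc
  exact hx fun b hb => Ideal.span_le.2 (fun a ha => not_not.1 fun hn =>
    hc (Opens.mem_iSup.2 ⟨⟨a, ha⟩, hn⟩)) (ht hb)

/-- Direct image on the spectrum. -/
noncomputable abbrev P (G : (US 𝔞).Modules) : (Spec R).Modules := (Coh.push (jU 𝔞)).obj G

/-- The module of sections. -/
noncomputable abbrev N (G : (US 𝔞).Modules) : ModuleCat.{u} R := moduleSpecΓFunctor.obj (P 𝔞 G)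

/-- The map on modules of sections. -/
noncomputable abbrev Nmap {G H : (US 𝔞).Modules} (φ : G ⟶ H) : N 𝔞 G ⟶ N 𝔞 H :=
  moduleSpecΓFunctor.map ((Coh.push (jU 𝔞)).map φ)

/-- Restriction to an open. -/
noncomputable def ρ (G : (US 𝔞).Modules) (V : (Spec R).Opens) :
    N 𝔞 G →ₗ[R] Γ(P 𝔞 G, V) :=
  ((modulesSpecToSheaf.obj (P 𝔞 G)).obj.map (homOfLE (le_top : V ≤ ⊤)).op).hom

/-- R map on sections over an open, linearly. -/
noncomputable def pApp {G H : (US 𝔞).Modules} (φ : G ⟶ H) (V : (Spec R).Opens) :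
    Γ(P 𝔞 G, V) →ₗ[R] Γ(P 𝔞 H, V) :=
  ((modulesSpecToSheaf.map ((Coh.push (jU 𝔞)).map φ)).hom.app (op V)).hom

theorem pApp_eq {G H : (US 𝔞).Modules} (φ : G ⟶ H) (V : (Spec R).Opens) (x : Γ(P 𝔞 G, V)) :
    pApp 𝔞 φ V x = φ.app (jU 𝔞 ⁻¹ᵁ V) x := rfl

theorem ρ_map {G H : (US 𝔞).Modules} (φ : G ⟶ H) (V : (Spec R).Opens) (x : N 𝔞 G) :
    ρ 𝔞 H V ((Nmap 𝔞 φ).hom x) = pApp 𝔞 φ V (ρ 𝔞 G V x) :=
  (ConcreteCategory.congr_hom
    ((modulesSpecToSheaf.map ((Coh.push (jU 𝔞)).map φ)).hom.naturality (homOfLE (le_top : V ≤ ⊤)).op) x).symm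

theorem smul_app (G : (US 𝔞).Modules) (c : R) (V : (Spec R).Opens) (x : Γ(P 𝔞 G, V)) :
    (Formal.smulMod R G c).app (jU 𝔞 ⁻¹ᵁ V) x = c • x := by
  rw [smulMod_app, Scheme.Modules.smul_Spec_def]
  change _ = (jU 𝔞).app V _ • (show Γ(G, jU 𝔞 ⁻¹ᵁ V) from x)
  congr 1

variable [IsNoetherianRing R]

instance isNoetherian_US : IsNoetherian (US 𝔞) := by
  have : IsLocallyNoetherian (US 𝔞) := isLocallyNoetherian_of_isOpenImmersion (jU 𝔞)
  have : CompactSpace (US 𝔞) :=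
    isCompact_iff_compactSpace.1
      (PrimeSpectrum.isRetrocompact_zeroLocus_compl_of_fg (IsNoetherian.noetherian 𝔞)).isCompact
  exact {}

theorem isQCoh_P (G : (US 𝔞).Modules) [Coh.IsQCoh G] : Coh.IsQCoh (P 𝔞 G) :=
  isQCoh_push (jU 𝔞) G

theorem exists_num (G : (US 𝔞).Modules) [Coh.IsQCoh G] (a : R) (z : Γ(P 𝔞 G, D a)) :
    ∃ (k : ℕ) (x : N 𝔞 G), ρ 𝔞 G (D a) x = a ^ k • z := by
  have := isQCoh_P 𝔞 G
  exact spec_exists_pow_smul (R := R) (P 𝔞 G) a z

theorem exists_pow_zero (G : (US 𝔞).Modules) [Coh.IsQCoh G] (a : R) (x : N 𝔞 G)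
    (hx : ρ 𝔞 G (D a) x = 0) : ∃ k : ℕ, a ^ k • x = 0 := by
  have := isQCoh_P 𝔞 G
  exact spec_exists_pow_smul_eq_zero (R := R) (P 𝔞 G) a x hx

/-- Torsion modulo a submodule follows from torsion at generators. -/
theorem torsion_of_gens {M : Type*} [AddCommGroup M] [Module R M] {t : Set R} (ht : 𝔞 ≤ Ideal.span t)
    (S : Submodule R M) (x : M) (h : ∀ a ∈ t, ∃ k : ℕ, a ^ k • x ∈ S) :
    ∃ m : ℕ, ∀ b ∈ 𝔞 ^ m, b • x ∈ S := by
  let K : Ideal R := S.comap (LinearMap.toSpanSingleton R M x)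
  have hrad : 𝔞 ≤ K.radical := ht.trans (Ideal.span_le.2 fun a ha => h a ha)
  obtain ⟨m, hm⟩ := Ideal.exists_pow_le_of_le_radical_of_fg hrad (IsNoetherian.noetherian 𝔞)
  exact ⟨m, fun b hb => hm hb⟩

/-- R finite submodule with torsion quotient. -/
theorem exists_fg_torsion (G : (US 𝔞).Modules) (hG : Coh.IsCoh G) :
    ∃ S : Submodule R (N 𝔞 G), S.FG ∧ ∀ x, ∃ m : ℕ, ∀ b ∈ 𝔞 ^ m, b • x ∈ S := by
  classical
  obtain ⟨t, ht⟩ := IsNoetherian.noetherian 𝔞
  have := hG.1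
  have key : ∀ a : t, ∃ S : Submodule R (N 𝔞 G), S.FG ∧ ∀ x, ∃ k : ℕ, (a : R) ^ k • x ∈ S := by
    intro a
    have ha : (a : R) ∈ 𝔞 := ht ▸ Submodule.subset_span a.2
    have hle : D (a : R) ≤ (jU 𝔞).opensRange := by
      rw [Scheme.Opens.opensRange_ι]; exact D_le 𝔞 ha
    have hDa : IsAffineOpen (D (a : R)) := by
      have := (isAffineOpen_top (Spec R)).basicOpen
        ((Scheme.ΓSpecIso R).inv (a : R))
      rwa [basicOpen_eq_of_affine] at this
    have hW : IsAffineOpen (jU 𝔞 ⁻¹ᵁ D (a : R)) := hDa.preimage_of_isOpenImmersion _ hle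
    have := ((isCoh_iff_finite_sections G).1 hG).2 _ hW
    obtain ⟨w, hw⟩ := Module.Finite.fg_top (R := Γ(US 𝔞, jU 𝔞 ⁻¹ᵁ D (a : R)))
      (M := Γ(G, jU 𝔞 ⁻¹ᵁ D (a : R)))
    choose e y hy using fun z : w => exists_num 𝔞 G (a : R) z.1
    refine ⟨Submodule.span R (Set.range y), Submodule.fg_span (Set.finite_range y), fun x => ?_⟩
    let T := (Submodule.span R (Set.range y)).map (ρ 𝔞 G (D (a : R)))
    have hT : ∀ z : Γ(G, jU 𝔞 ⁻¹ᵁ D (a : R)), ∃ k : ℕ, (a : R) ^ k • (show Γ(P 𝔞 G, D (a : R)) from z) ∈ T := by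
      intro z
      have hz : z ∈ Submodule.span Γ(US 𝔞, jU 𝔞 ⁻¹ᵁ D (a : R)) (w : Set _) := by rw [hw]; exact Submodule.mem_top
      induction hz using Submodule.span_induction with
      | mem z hz => exact ⟨e ⟨z, hz⟩, hy ⟨z, hz⟩ ▸ Submodule.mem_map_of_mem (Submodule.subset_span ⟨_, rfl⟩)⟩
      | zero => exact ⟨0, by
          change (a : R) ^ 0 • (0 : Γ(P 𝔞 G, D (a : R))) ∈ T
          rw [smul_zero]; exact zero_mem _⟩
      | add z z' _ _ ih ih' =>
        obtain ⟨k, hk⟩ := ih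
        obtain ⟨k', hk'⟩ := ih'
        refine ⟨k + k', ?_⟩
        change (a : R) ^ (k + k') • ((show Γ(P 𝔞 G, D (a : R)) from z) + (show Γ(P 𝔞 G, D (a : R)) from z')) ∈ T
        rw [smul_add]
        refine add_mem ?_ ?_
        · rw [add_comm, pow_add, mul_smul]; exact T.smul_mem _ hk
        · rw [pow_add, mul_smul]; exact T.smul_mem _ hk'
      | smul s z _ ih =>
        obtain ⟨k, hk⟩ := ih
        have := (jU 𝔞).isIso_app (D (a : R)) hle
        obtain ⟨s', rfl⟩ := (ConcreteCategory.bijective_of_isIso ((jU 𝔞).app (D (a : R)))).2 s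
        obtain ⟨⟨c, ⟨_, m, rfl⟩⟩, hc⟩ := IsLocalization.surj (M := Submonoid.powers (a : R))
          (S := Γ(Spec R, D (a : R))) s'
        refine ⟨k + m, ?_⟩
        change (a : R) ^ (k + m) • (s' • (show Γ(P 𝔞 G, D (a : R)) from z)) ∈ T
        have hc' : ((a : R) ^ m) • s' = algebraMap R Γ(Spec R, D (a : R)) c := by
          rw [Algebra.smul_def, mul_comm]; exact hc
        rw [pow_add, mul_smul, ← smul_assoc ((a : R) ^ m), hc', algebraMap_smul, smul_comm]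
        exact T.smul_mem _ hk
    obtain ⟨k, u, hu, hku⟩ := hT (ρ 𝔞 G (D (a : R)) x)
    obtain ⟨l, hl⟩ := exists_pow_zero 𝔞 G (a : R) ((a : R) ^ k • x - u) (by
      rw [map_sub, map_smul, hku]; exact sub_self _)
    refine ⟨l + k, ?_⟩
    rw [pow_add, mul_smul, sub_eq_zero.1 ((smul_sub _ _ _).symm.trans hl)]
    exact Submodule.smul_mem _ _ hu
  choose S hS hS' using key
  refine ⟨⨆ a, S a, Submodule.fg_iSup _ hS, fun x => torsion_of_gens 𝔞 (t := (t : Set R)) (le_of_eq ht.symm) _ x fun a ha => ?_⟩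
  obtain ⟨k, hk⟩ := hS' ⟨a, ha⟩ x
  exact ⟨k, le_iSup S ⟨a, ha⟩ hk⟩

/-- Restriction of a torsion module to the punctured scheme vanishes. -/
theorem isZero_restrict_tilde (Q : ModuleCat.{u} R) (hQ : ∀ x : Q, ∃ m : ℕ, ∀ b ∈ 𝔞 ^ m, b • x = 0) :
    IsZero ((Scheme.Modules.restrictFunctor (jU 𝔞)).obj (tilde (R := R) Q)) := by
  rw [IsZero.iff_id_eq_zero]
  refine Scheme.Modules.hom_ext _ _ fun W => ConcreteCategory.hom_ext _ _ fun s => ?_
  show (show Γ(tilde (R := R) Q, jU 𝔞 ''ᵁ W) from s) = 0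
  let V := jU 𝔞 ''ᵁ W
  have key : ∀ x : V, ∃ (b : R) (hle : specBasicOpen (R := R) b ≤ V),
      x.1 ∈ specBasicOpen (R := R) b ∧
        resM (tilde (R := R) Q) hle s = 0 := by
    intro x
    have hxU : x.1 ∈ LocCoh.puncturedOpen R 𝔞 := by
      obtain ⟨y, -, hy⟩ := x.2
      exact hy ▸ y.2
    obtain ⟨a, ha, hax⟩ : ∃ a ∈ 𝔞, a ∉ x.1.asIdeal := Set.not_subset.1 hxU
    obtain ⟨_, ⟨b, rfl⟩, hxb, hb⟩ := PrimeSpectrum.isTopologicalBasis_basic_opens.exists_subset_of_mem_open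
      (show x.1 ∈ V ⊓ D a from ⟨x.2, hax⟩) (V ⊓ D a).2
    refine ⟨b, fun y hy => (hb hy).1, hxb, ?_⟩
    obtain ⟨n, q, hq⟩ := Misc15.Koszul.exists_rho_eq (R := R) Q b
      (resM (tilde (R := R) Q) (fun y hy => (hb hy).1) s)
    obtain ⟨m, hm⟩ := hQ q
    have h0 := Misc15.Koszul.rho_eq_zero_of_pow (R := R) Q a
      (U := specBasicOpen (R := R) b) (fun y hy => (hb hy).2) (hm _ (Ideal.pow_mem_pow ha m))
    refine (Scheme.Modules.isSMulRegular_of_le_basicOpen (M := tilde (R := R) Q)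
      (U := specBasicOpen (R := R) b) (f := b) le_rfl).pow n ?_
    show b ^ n • resM (tilde (R := R) Q) (fun y hy => (hb hy).1) s = b ^ n • 0
    rw [← hq, smul_zero]
    exact h0
  choose b hle hb hs using key
  exact Misc15.Koszul.sections_ext (R := R) _ (fun x : V => specBasicOpen (R := R) (b x))
    hle (fun x hx => Opens.mem_iSup.2 ⟨⟨x, hx⟩, hb ⟨x, hx⟩⟩) _ _ fun x => by rw [hs, map_zero]

/-- R submodule with torsion quotient gives the same sheaf on the punctured scheme. -/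
theorem isIso_restrict_tilde_subtype {M : ModuleCat.{u} R} (S : Submodule R M)
    (hS : ∀ x, ∃ m : ℕ, ∀ b ∈ 𝔞 ^ m, b • x ∈ S) :
    IsIso ((Scheme.Modules.restrictFunctor (jU 𝔞)).map
      (tilde.map (R := R) (ModuleCat.ofHom S.subtype))) := by
  let Rf := Scheme.Modules.restrictFunctor (jU 𝔞)
  let T := tilde.functor R
  let i : ModuleCat.of R S ⟶ M := ModuleCat.ofHom S.subtype
  have := AffSchLib.preservesFiniteLimits_tilde R
  have : Mono i := (ModuleCat.mono_iff_injective _).2 S.subtype_injective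
  have hm : Mono (tilde.map (R := R) i) := (inferInstance : Mono (T.map i))
  have : Mono (Rf.map (tilde.map (R := R) i)) := Preadditive.mono_of_cancel_zero _ fun {Z} g hg =>
    Scheme.Modules.hom_ext _ _ fun W => ConcreteCategory.hom_ext _ _ fun x =>
      app_injective_of_mono (tilde.map (R := R) i) (jU 𝔞 ''ᵁ W) (a₁ := g.app W x) (a₂ := 0) <| by
        have h0 : (g ≫ Rf.map (tilde.map (R := R) i)).app W x = 0 := by
          rw [show g ≫ Rf.map (tilde.map (R := R) i) = 0 from hg]; rfl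
        exact h0.trans (map_zero _).symm
  have hz : IsZero (Rf.obj (T.obj (cokernel i))) := isZero_restrict_tilde 𝔞 _ fun q => by
    obtain ⟨x, rfl⟩ := (ModuleCat.epi_iff_surjective (cokernel.π i)).1 inferInstance q
    obtain ⟨m, hm⟩ := hS x
    refine ⟨m, fun b hb => ?_⟩
    rw [← map_smul]
    exact ConcreteCategory.congr_hom (cokernel.condition i) ⟨b • x, hm b hb⟩
  have := (tilde.adjunction (R := R)).leftAdjoint_preservesColimits
  have : Epi (Rf.map (tilde.map (R := R) i)) := Preadditive.epi_of_isZero_cokernel _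
    (hz.of_iso ((PreservesCokernel.iso (T ⋙ Rf) i).symm))
  exact isIso_of_mono_of_epi (Rf.map (tilde.map (R := R) i))

/-- The restriction of the module of sections recovers the module. -/
noncomputable def θ (G : (US 𝔞).Modules) :
    (Scheme.Modules.restrictFunctor (jU 𝔞)).obj (tilde (R := R) (N 𝔞 G)) ⟶ G :=
  (Scheme.Modules.restrictFunctor (jU 𝔞)).map (P 𝔞 G).fromTildeΓ ≫
    (Scheme.Modules.restrictFunctorAdjCounitIso (jU 𝔞)).hom.app G

theorem isIso_θ (G : (US 𝔞).Modules) [Coh.IsQCoh G] : IsIso (θ 𝔞 G) := by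
  have := isQCoh_P 𝔞 G
  have : IsIso (P 𝔞 G).fromTildeΓ := (isQuasicoherent_iff_isIso_fromTildeΓ _).1 inferInstance
  unfold θ
  infer_instance

theorem θ_natural {G H : (US 𝔞).Modules} (φ : G ⟶ H) :
    (Scheme.Modules.restrictFunctor (jU 𝔞)).map (tilde.map (R := R) (Nmap 𝔞 φ)) ≫ θ 𝔞 H =
      θ 𝔞 G ≫ φ := by
  have h1 := (Scheme.Modules.fromTildeΓNatTrans (R := R)).naturality ((Coh.push (jU 𝔞)).map φ)
  have h2 := (Scheme.Modules.restrictFunctorAdjCounitIso (jU 𝔞)).hom.naturality φ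
  dsimp at h1 h2
  simp only [θ, ← Category.assoc, ← Functor.map_comp]
  rw [show tilde.map (R := R) (Nmap 𝔞 φ) ≫ (P 𝔞 H).fromTildeΓ =
    (P 𝔞 G).fromTildeΓ ≫ (Coh.push (jU 𝔞)).map φ from h1, Functor.map_comp, Category.assoc, Category.assoc]
  exact congrArg (_ ≫ ·) h2

end Groth.Agent.Formal2Lib.Punct
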