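import Groth.Agent.Formal2Lib.PuncturedSat
import Groth.Agent.Formal2Lib.SatTower
import Groth.Agent.AffSchLib.CohRestrict
import Groth.Agent.LocCoh.Injectives
import Groth.Agent.S0841

/-!
# Algebraization of locally free formal modules on a punctured affine scheme, principal case
-/

set_option autoImplicit false
set_option backward.isDefEq.respectTransparency false

universe u

open CategoryTheory CategoryTheory.Limits AlgebraicGeometry Opposite TopologicalSpace
open Groth.Agent.Coherent Groth.Agent.Coherent.Serre Groth.Agent.Coherent.Existence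

namespace Groth.Agent.Formal2Lib.Punct

open Sat (TorsMem)

variable {R : CommRingCat.{u}} [IsNoetherianRing R] (𝔞 : Ideal R) {f : R}

omit [IsNoetherianRing R] in
theorem mem_radical_of_D_le {b : R} (hb : D b ≤ LocCoh.puncturedOpen R 𝔞) : b ∈ 𝔞.radical := by
  rw [Ideal.radical_eq_sInf, Submodule.mem_sInf]
  intro p hp
  by_contra hbp
  exact hb (show (⟨p, hp.2⟩ : PrimeSpectrum R) ∈ D b from hbp) hp.1

omit [IsNoetherianRing R] in
/-- Torsion membership may be checked locally. -/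
theorem torsMem_of_local {M : Type u} [AddCommGroup M] [Module R M] (S : Submodule R M) (x : M)
    (h : ∀ y : US 𝔞, ∃ b : R, jU 𝔞 y ∈ D b ∧ ∃ k : ℕ, b ^ k • x ∈ S) : TorsMem 𝔞 S x := by
  intro a ha
  let K : Ideal R := S.comap (LinearMap.toSpanSingleton R M x)
  show a ∈ K.radical
  rw [Ideal.radical_eq_sInf, Submodule.mem_sInf]
  intro p hp
  by_contra hap
  have hy : (⟨p, hp.2⟩ : PrimeSpectrum R) ∈ LocCoh.puncturedOpen R 𝔞 := fun hle => hap (hle ha)
  obtain ⟨b, hb, k, hk⟩ := h ⟨⟨p, hp.2⟩, hy⟩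
  exact hb (hp.2.mem_of_pow_mem k (hp.1 hk))

omit [IsNoetherianRing R] in
theorem torsMem_radical {M : Type u} [AddCommGroup M] [Module R M] {S : Submodule R M} {x : M}
    (h : TorsMem 𝔞 S x) {b : R} (hb : b ∈ 𝔞.radical) : ∃ k : ℕ, b ^ k • x ∈ S := by
  obtain ⟨e, he⟩ := hb
  obtain ⟨k, hk⟩ := h _ he
  exact ⟨e * k, by rwa [pow_mul]⟩

theorem map_units_D (G : (US 𝔞).Modules) (b : R) : IsUnit (algebraMap R (Module.End R Γ(P 𝔞 G, D b)) b) :=
  Scheme.Modules.isUnit_algebraMap_end_of_le_basicOpen b le_rfl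

/-- A finite torsion-cokernel submodule is, near a point, a free module modulo `f`. -/
theorem exists_split (G : (US 𝔞).Modules) [Coh.IsQCoh G] (hkill : ∀ x : N 𝔞 G, f ^ 1 • x = 0)
    (M : Submodule R (N 𝔞 G)) [Module.Finite R M] (hM : ∀ x, TorsMem 𝔞 M x)
    {b : R} (hb : D b ≤ LocCoh.puncturedOpen R 𝔞) {r : ℕ}
    (l : (Fin r → R ⧸ Ideal.span ({f ^ 1} : Set R)) →ₗ[R] Γ(P 𝔞 G, D b)) [IsLocalizedModule (.powers b) l] :
    ∃ (c : M →ₗ[R] Fin r → R ⧸ Ideal.span ({f ^ 1} : Set R))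
      (d : (Fin r → R ⧸ Ideal.span ({f ^ 1} : Set R)) →ₗ[R] M) (E : ℕ), ∀ m, d (c m) = b ^ E • m := by
  classical
  let B := R ⧸ Ideal.span ({f ^ 1} : Set R)
  have hm : ∀ i, ∃ (K : ℕ) (m : M), ρ 𝔞 G (D b) m.1 = b ^ K • l (Pi.single i (1 : B)) := fun i => by
    obtain ⟨k, x, hx⟩ := exists_num 𝔞 G b (l (Pi.single i (1 : B)))
    obtain ⟨k', hk'⟩ := torsMem_radical 𝔞 (hM x) (mem_radical_of_D_le 𝔞 hb)
    refine ⟨k' + k, ⟨_, hk'⟩, ?_⟩
    rw [map_smul, hx, ← mul_smul, ← pow_add]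
  choose K m hKm using hm
  let K0 := Finset.univ.sup K
  have hf : ∀ i, Ideal.span ({f ^ 1} : Set R) ≤
      LinearMap.ker (LinearMap.toSpanSingleton R M (b ^ (K0 - K i) • m i)) := fun i => by
    rw [Ideal.span_le]
    rintro _ rfl
    exact Subtype.ext (hkill _)
  let d : (Fin r → B) →ₗ[R] M :=
    ∑ i, (Submodule.liftQ _ (LinearMap.toSpanSingleton R M (b ^ (K0 - K i) • m i)) (hf i)).comp (LinearMap.proj i)
  have hd : ∀ q, ρ 𝔞 G (D b) (d q).1 = b ^ K0 • l q := by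
    have : (ρ 𝔞 G (D b)).comp (M.subtype.comp d) = b ^ K0 • l := by
      refine LinearMap.pi_ext fun i z => ?_
      obtain ⟨z, rfl⟩ := Submodule.Quotient.mk_surjective _ z
      have hsum : d (Pi.single i (Submodule.Quotient.mk z)) = z • b ^ (K0 - K i) • m i := by
        simp only [d, LinearMap.sum_apply, LinearMap.comp_apply, LinearMap.proj_apply]
        rw [Finset.sum_eq_single i]
        · show (Submodule.liftQ _ _ (hf i)) ((Pi.single i (Submodule.Quotient.mk z) : Fin r → B) i) = _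
          rw [Pi.single_eq_same]
          rfl
        · intro j _ hj
          show (Submodule.liftQ _ _ (hf j)) ((Pi.single i (Submodule.Quotient.mk z) : Fin r → B) j) = 0
          rw [Pi.single_eq_of_ne hj, map_zero]
        · exact fun h => absurd (Finset.mem_univ i) h
      have hz : Pi.single i (Submodule.Quotient.mk z : B) = z • (Pi.single i (1 : B) : Fin r → B) := by
        rw [← Pi.single_smul]
        congr 1
        show Submodule.Quotient.mk z = z • (Submodule.Quotient.mk (1 : R) : B)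
        rw [← Submodule.Quotient.mk_smul, smul_eq_mul, mul_one]
      show ρ 𝔞 G (D b) (d (Pi.single i (Submodule.Quotient.mk z))).1 = b ^ K0 • l (Pi.single i (Submodule.Quotient.mk z))
      rw [hsum, hz, map_smul l, Submodule.coe_smul, Submodule.coe_smul, map_smul, map_smul, hKm,
        ← mul_smul (b ^ (K0 - K i)), ← pow_add, Nat.sub_add_cancel (Finset.le_sup (Finset.mem_univ i)),
        smul_comm]
    exact fun q => LinearMap.congr_fun this q
  have : Module.FinitePresentation R M := Module.finitePresentation_of_finite R M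
  obtain ⟨c, ⟨_, e, rfl⟩, hc⟩ := Module.FinitePresentation.exists_lift_of_isLocalizedModule (.powers b) l
    ((ρ 𝔞 G (D b)).comp M.subtype)
  have hker : ∀ x : M, ∃ t : ℕ, b ^ t • (d (c x) - b ^ (K0 + e) • x) = 0 := fun x => by
    obtain ⟨t, ht⟩ := exists_pow_zero 𝔞 G b ((d (c x)).1 - b ^ (K0 + e) • x.1) (by
      rw [map_sub, map_smul, hd, show l (c x) = b ^ e • ρ 𝔞 G (D b) x.1 from LinearMap.congr_fun hc x,
        ← mul_smul, ← pow_add, sub_self])
    exact ⟨t, Subtype.ext ht⟩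
  choose t ht using hker
  obtain ⟨s, hs⟩ := Module.Finite.fg_top (R := R) (M := M)
  refine ⟨c, b ^ s.sup t • d, s.sup t + (K0 + e), fun x => ?_⟩
  have hx : x ∈ Submodule.span R (s : Set M) := by rw [hs]; exact Submodule.mem_top
  let δ : M →ₗ[R] M := d.comp c - b ^ (K0 + e) • LinearMap.id
  have h0 : b ^ s.sup t • δ x = 0 := by
    induction hx using Submodule.span_induction with
    | mem y hy =>
      obtain ⟨j, hj⟩ := Nat.exists_eq_add_of_le (Finset.le_sup (f := t) hy)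
      rw [hj, add_comm, pow_add, mul_smul]
      show b ^ j • b ^ t y • (d (c y) - b ^ (K0 + e) • y) = 0
      rw [ht, smul_zero]
    | zero => rw [map_zero, smul_zero]
    | add y z _ _ hy hz => rw [map_add, smul_add, hy, hz, add_zero]
    | smul a y _ hy => rw [map_smul, smul_comm, hy, smul_zero]
  show b ^ s.sup t • d (c x) = _
  rw [pow_add, mul_smul]
  exact sub_eq_zero.1 ((smul_sub _ _ _).symm.trans h0)

variable {G : ℕᵒᵖ ⥤ (US 𝔞).Modules} (hG : Formal.IsCohFormal (Ideal.span ({f} : Set R)) G)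
  (hfree : ∀ n : ℕ, Formal2.IsFinLocFreeMod (Ideal.span ({f} : Set R)) (n + 1) (G.obj (op n)))
  (hnzd : f ∈ nonZeroDivisors R)

include hG hfree hnzd

theorem exists_tower : ∃ T : Sat.Tower 𝔞 f, ∃ (e : ∀ n, T.N n ≃ₗ[R] N 𝔞 (G.obj (op n))),
    ∀ n w, e n (T.q n w) = (Nmap 𝔞 (Serre.tr G n)).hom (e (n + 1) w) := by
  have hI : ∀ (M : Type u) [AddCommGroup M] [Module R M] (k : ℕ), Ideal.span ({f} : Set R) ^ k •
      (⊤ : Submodule R M) ≤ LinearMap.range (f ^ k • LinearMap.id : M →ₗ[R] M) := fun M _ _ k => by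
    rw [Ideal.span_singleton_pow, Submodule.ideal_span_singleton_smul]
    rintro _ ⟨x, -, rfl⟩
    exact ⟨x, rfl⟩
  have hkill : ∀ n (x : N 𝔞 (G.obj (op n))), f ^ (n + 1) • x = 0 := fun n x =>
    S0841.smul_eq_zero 𝔞 hG n (Principal.pow_mem_span_pow f (n + 1)) x
  refine ⟨{
    N := fun n => N 𝔞 (G.obj (op n))
    q := fun n => (Nmap 𝔞 (Serre.tr G n)).hom
    sat := fun n => isSat_N 𝔞 _
    killed := hkill
    coker := fun n y a ha => ?_
    ker := fun n x hx a ha => ?_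
    tors := fun n x hx => ?_ }, fun n => LinearEquiv.refl R _, fun n w => rfl⟩
  · obtain ⟨k, z, -, hz⟩ := S0841.exists_pow_mem_range (M := fun _ => ⊤) 𝔞
      (fun _ _ => ⟨0, fun _ _ => Submodule.mem_top⟩) ha n hG y
    exact ⟨k, z, hz⟩
  · obtain ⟨k, hk⟩ := S0841.exists_pow_mem_smul (M := fun _ => ⊤) 𝔞
      (fun _ _ => ⟨0, fun _ _ => Submodule.mem_top⟩) ha n hG hx
    exact ⟨k, hI _ _ hk⟩
  · refine torsMem_of_local 𝔞 _ x fun y => ?_
    have := (hG.1 (n + 1)).1
    obtain ⟨b, -, hy, r, l, hl⟩ := exists_localModel 𝔞 f (n + 1 + 1) _ (hfree (n + 1)) y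
    refine ⟨b, hy, ?_⟩
    let ρb := ρ 𝔞 (G.obj (op (n + 1))) (D b)
    obtain ⟨⟨q, ⟨_, k, rfl⟩⟩, hq⟩ := IsLocalizedModule.surj (.powers b) l (ρb x)
    have hq' : b ^ k • ρb x = l q := hq
    obtain ⟨⟨_, k', rfl⟩, hk'⟩ := IsLocalizedModule.exists_of_eq (S := .powers b) (f := l) (x₁ := f • q) (x₂ := 0)
      (by rw [map_smul, ← hq', smul_comm, ← map_smul, hx, map_zero, smul_zero, map_zero])
    have hcomp : ∀ i, ∃ w, (b ^ k' • q) i = f ^ (n + 1) • (Submodule.Quotient.mk w : R ⧸ Ideal.span ({f ^ (n + 1 + 1)} : Set R)) := fun i => by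
      obtain ⟨v, hv⟩ := Submodule.Quotient.mk_surjective _ (q i)
      have h0 : (Submodule.Quotient.mk (b ^ k' * (f * v)) : R ⧸ Ideal.span ({f ^ (n + 1 + 1)} : Set R)) = 0 := by
        have := congrFun (hk'.trans (smul_zero _)) i
        rw [← smul_eq_mul, ← smul_eq_mul, Submodule.Quotient.mk_smul, Submodule.Quotient.mk_smul, hv]
        exact this
      obtain ⟨w, hw⟩ := Ideal.mem_span_singleton'.1 ((Submodule.Quotient.mk_eq_zero _).1 h0)
      refine ⟨w, ?_⟩
      have hw' : b ^ k' * v = f ^ (n + 1) * w := by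
        refine (mul_left_cancel₀_of_mem hnzd ?_)
        rw [pow_succ] at hw
        linear_combination -hw
      rw [Pi.smul_apply, ← hv, ← Submodule.Quotient.mk_smul, ← Submodule.Quotient.mk_smul, smul_eq_mul,
        smul_eq_mul, hw']
    choose w hw using hcomp
    obtain ⟨k₂, z, hz⟩ := exists_num 𝔞 (G.obj (op (n + 1))) b (l fun i => Submodule.Quotient.mk (w i))
    have hbq : b ^ k' • q = f ^ (n + 1) •
        (fun i => (Submodule.Quotient.mk (w i) : R ⧸ Ideal.span ({f ^ (n + 1 + 1)} : Set R))) := funext hw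
    obtain ⟨k₃, hk₃⟩ := exists_pow_zero 𝔞 (G.obj (op (n + 1))) b (b ^ (k₂ + k' + k) • x - f ^ (n + 1) • z) (by
      rw [map_sub, map_smul, map_smul, hz, pow_add, pow_add, mul_smul, mul_smul, hq', ← map_smul l, hbq,
        map_smul, smul_comm]
      exact sub_self _)
    refine ⟨k₃ + (k₂ + k' + k), b ^ k₃ • z, ?_⟩
    rw [LinearMap.smul_apply, LinearMap.id_apply, smul_comm, pow_add b k₃, mul_smul]
    exact (sub_eq_zero.1 ((smul_sub _ _ _).symm.trans hk₃)).symm
where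
  mul_left_cancel₀_of_mem {f a b : R} (hf : f ∈ nonZeroDivisors R) (h : f * a = f * b) : a = b :=
    sub_eq_zero.1 ((mem_nonZeroDivisors_iff.1 hf).1 _ (by rw [mul_sub, h, sub_self]))

/-- The main theorem. -/
theorem exists_algebraization [IsAdicComplete (Ideal.span ({f} : Set R)) R]
    (h₁ : Module.Finite R (LocCoh.H 𝔞 1 (R ⧸ Ideal.span ({f} : Set R))))
    (h₂ : Module.Finite R (LocCoh.H 𝔞 2 (R ⧸ Ideal.span ({f} : Set R)))) :
    ∃ F : (US 𝔞).Modules, Coh.IsCoh F ∧ Nonempty (Formal.completion (Ideal.span ({f} : Set R)) F ≅ G) := by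
  classical
  have hkill : ∀ n (x : N 𝔞 (G.obj (op n))), f ^ (n + 1) • x = 0 := fun n x =>
    S0841.smul_eq_zero 𝔞 hG n (Principal.pow_mem_span_pow f (n + 1)) x
  obtain ⟨T', e, he⟩ := exists_tower 𝔞 hG hfree hnzd
  have := (hG.1 0).1
  obtain ⟨M, hMfg, hM⟩ := exists_fg_torsion 𝔞 (G.obj (op 0)) (hG.1 0)
  haveI : Module.Finite R M := Module.Finite.iff_fg.2 hMfg
  have hM' : ∀ x, TorsMem 𝔞 M x := fun x => by obtain ⟨m, hm⟩ := hM x; exact TorsMem.of_pow hm
  have hloc : ∀ y : US 𝔞, ∃ (b : R) (r : ℕ) (c : M →ₗ[R] Fin r → R ⧸ Ideal.span ({f ^ 1} : Set R))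
      (d : (Fin r → R ⧸ Ideal.span ({f ^ 1} : Set R)) →ₗ[R] M) (E : ℕ),
      jU 𝔞 y ∈ D b ∧ ∀ m, d (c m) = b ^ E • m := fun y => by
    obtain ⟨b, hbU, hy, r, l, hl⟩ := exists_localModel 𝔞 f 1 _ (hfree 0) y
    obtain ⟨c, d, E, h⟩ := exists_split 𝔞 (G.obj (op 0)) (fun x => hkill 0 x) M hM' hbU l
    exact ⟨b, r, c, d, E, hy, h⟩
  choose b r c d E hy hdc using hloc
  obtain ⟨s, hs⟩ := isCompact_univ.elim_finite_subcover (fun y : US 𝔞 => ((jU 𝔞 ⁻¹ᵁ D (b y) : (US 𝔞).Opens) : Set (US 𝔞)))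
    (fun y => (jU 𝔞 ⁻¹ᵁ D (b y)).2) fun y _ => Set.mem_iUnion.2 ⟨y, hy y⟩
  have hcov : ∀ y : US 𝔞, ∃ j : s, jU 𝔞 y ∈ D (b j.1) := fun y => by
    obtain ⟨j, hj, hyj⟩ := Set.mem_iUnion₂.1 (hs (Set.mem_univ y))
    exact ⟨⟨j, hj⟩, hyj⟩
  let B := R ⧸ Ideal.span ({f ^ 1} : Set R)
  let ι := Σ j : s, ULift.{u} (Fin (r j.1))
  let C : M →ₗ[R] ι → B := LinearMap.pi fun p => (LinearMap.proj p.2.down).comp (c p.1.1)
  let pr : ∀ j : s, (ι → B) →ₗ[R] (Fin (r j.1) → B) := fun j => LinearMap.pi fun i => LinearMap.proj ⟨j, ⟨i⟩⟩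
  have hpr : ∀ j m, pr j (C m) = c j.1 m := fun j m => rfl
  let Ee : (ι → B) →ₗ[R] (s × ι → B) := LinearMap.pi fun p => (LinearMap.proj p.2).comp
    (b p.1.1 ^ E p.1.1 • LinearMap.id - C.comp ((d p.1.1).comp (pr p.1)))
  have hEC : ∀ m, Ee (C m) = 0 := fun m => funext fun p => by
    show (b p.1.1 ^ E p.1.1 • C m - C (d p.1.1 (pr p.1 (C m)))) p.2 = 0
    rw [hpr, hdc, map_smul, sub_self]
    rfl
  have hexact : ∀ q, Ee q = 0 → TorsMem 𝔞 (LinearMap.range C) q := fun q hq =>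
    torsMem_of_local 𝔞 _ q fun y => by
      obtain ⟨j, hj⟩ := hcov y
      exact ⟨b j.1, hj, E j.1, d j.1 (pr j q), (sub_eq_zero.1 (funext fun i => congrFun hq (j, i))).symm⟩
  have hCinj : Function.Injective C := (injective_iff_map_eq_zero _).2 fun m hm =>
    Subtype.ext ((isSat_N 𝔞 _).sep m.1 (Sat.mem_powTorsion_iff.2 (torsMem_of_local 𝔞 _ m.1 fun y => by
      obtain ⟨j, hj⟩ := hcov y
      refine ⟨b j.1, hj, E j.1, (Submodule.mem_bot R).2 ?_⟩
      have h := hdc j.1 m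
      rw [← hpr, hm, map_zero, map_zero] at h
      exact (congrArg Subtype.val h).symm)))
  have h₁' : Module.Finite R (LocCoh.H 𝔞 1 B) := by
    show Module.Finite R (LocCoh.H 𝔞 1 (R ⧸ Ideal.span ({f ^ 1} : Set R)))
    rw [pow_one]; exact h₁
  have h₂' : Module.Finite R (LocCoh.H 𝔞 2 B) := by
    show Module.Finite R (LocCoh.H 𝔞 2 (R ⧸ Ideal.span ({f ^ 1} : Set R)))
    rw [pow_one]; exact h₂
  obtain ⟨J, _, _, g, hJ, hg⟩ := Groth.Agent.LocCoh.exists_injective_embedding (R := R) (ι → B)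
  have hH := Sat.finite_coker_toDT (𝔞 := 𝔞) C Ee hEC hexact g hg (Sat.finite_DT (Sat.finite_H_pi h₁'))
    (Sat.finite_H_pi h₂')
  have hN₀ : Module.Finite R (N 𝔞 (G.obj (op 0))) := by
    have := Sat.finite_DT (M := ι → B) (𝔞 := 𝔞) (Sat.finite_H_pi h₁')
    have hCd : Module.Finite R (_root_.LocCoh.DT 𝔞 M) :=
      Module.Finite.of_injective (Groth.Agent.LocCoh.DTmap C)
        (Groth.Agent.LocCoh.DTmap_injective C (by rw [LinearMap.ker_eq_bot.2 hCinj]; exact bot_le))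
    have hb : Function.Bijective (Groth.Agent.LocCoh.DTmap (I := 𝔞) M.subtype) := by
      refine Groth.Agent.LocCoh.DTmap_bijective _ (by rw [Submodule.ker_subtype]; exact bot_le) fun q => ?_
      obtain ⟨x, rfl⟩ := Submodule.Quotient.mk_surjective _ q
      obtain ⟨m, hm⟩ := hM x
      exact ⟨m, fun a ha => by
        rw [← Submodule.Quotient.mk_smul, Submodule.Quotient.mk_eq_zero, Submodule.range_subtype]
        exact hm a ha⟩
    have := Module.Finite.equiv (LinearEquiv.ofBijective _ hb)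
    exact Module.Finite.equiv (LinearEquiv.ofBijective _ (isSat_N 𝔞 (G.obj (op 0))).bijective).symm
  have hN₀' : Module.Finite R (T'.N 0) := Module.Finite.equiv (e 0).symm
  have hstab := T'.exists_stab (J := J) (M.comap (e 0).toLinearMap)
    (fun y a ha => by obtain ⟨k, hk⟩ := hM' (e 0 y) a ha; exact ⟨k, by rwa [Submodule.mem_comap, map_smul]⟩)
    ((g.comp C).comp (((e 0).toLinearMap.restrict fun _ hx => hx) : M.comap (e 0).toLinearMap →ₗ[R] M))
    (by
      refine (hg.comp hCinj).comp fun x y hxy => Subtype.ext ((e 0).injective (congrArg Subtype.val hxy)))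
    (by
      have hr : LinearMap.range ((g.comp C).comp
          (((e 0).toLinearMap.restrict fun _ hx => hx) : M.comap (e 0).toLinearMap →ₗ[R] M)) =
          LinearMap.range (g.comp C) :=
        LinearMap.range_comp_of_range_eq_top _ (LinearMap.range_eq_top.2 fun m =>
          ⟨⟨(e 0).symm m.1, by show e 0 _ ∈ M; rw [LinearEquiv.apply_symm_apply]; exact m.2⟩,
            Subtype.ext ((e 0).apply_symm_apply _)⟩)
      rw [hr]
      exact hH)
  obtain ⟨Mlim, _, _, p, hfin, hcomp, hker, hcok⟩ := T'.exists_module hN₀' hstab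
  let Mo : ModuleCat.{u} R := ModuleCat.of R Mlim
  let F := (T 𝔞).obj Mo
  refine ⟨F, AffSchLib.isCoh_restrict_tilde _ Mo hfin F (Iso.refl _), ?_⟩
  let pm : ∀ k, Mo ⟶ N 𝔞 (G.obj (op k)) := fun k =>
    ModuleCat.ofHom (Y := ↥(N 𝔞 (G.obj (op k)))) ((e k).toLinearMap.comp (p k))
  let ψ : ∀ k, F ⟶ G.obj (op k) := fun k =>
    (Scheme.Modules.restrictFunctor (jU 𝔞)).map (tilde.map (pm k)) ≫ θ 𝔞 (G.obj (op k))
  have hψ : ∀ k, ψ (k + 1) ≫ Serre.tr G k = ψ k := fun k => by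
    show (_ ≫ _) ≫ _ = _ ≫ _
    rw [Category.assoc, ← θ_natural, ← Category.assoc, ← Functor.map_comp, ← tilde.map_comp]
    congr 3
    exact ModuleCat.hom_ext (LinearMap.ext fun x => (he k (p (k + 1) x)).symm.trans (congrArg (e k) (hcomp k x)))
  have hiso : ∀ k, ∃ u, IsIso u ∧ cπ (Ideal.span ({f} : Set R)) F k ≫ u = ψ k := fun k => by
    have := (hG.1 k).1
    obtain ⟨eM, heM⟩ := exists_modPowT 𝔞 f (k + 1) Mo
    let K := LinearMap.range (f ^ (k + 1) • LinearMap.id : Mo →ₗ[R] Mo)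
    have hK : K = LinearMap.ker (pm k).hom := le_antisymm (by
      rintro _ ⟨x, rfl⟩
      show e k (p k (f ^ (k + 1) • x)) = 0
      rw [map_smul, T'.killed, map_zero]) (fun x hx => by
      obtain ⟨y, hy⟩ := hker k x ((e k).injective (hx.trans (map_zero (e k)).symm))
      exact ⟨y, hy⟩)
    let eq' : (Mo ⧸ K) ≃ₗ[R] LinearMap.range (pm k).hom :=
      (Submodule.quotEquivOfEq _ _ hK).trans (pm k).hom.quotKerEquivRange
    have h1 := isIso_restrict_tilde_subtype 𝔞 (LinearMap.range (pm k).hom) fun y => by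
      refine TorsMem.exists_pow fun a ha => ?_
      obtain ⟨m, z, hz⟩ := hcok k ((e k).symm y) a ha
      exact ⟨m, z, (congrArg (e k) hz).trans (by rw [map_smul, LinearEquiv.apply_symm_apply])⟩
    have h2 := isIso_θ 𝔞 (G.obj (op k))
    refine ⟨eM.hom ≫ ((T 𝔞).mapIso eq'.toModuleIso).hom ≫
      (Scheme.Modules.restrictFunctor (jU 𝔞)).map
        (tilde.map (ModuleCat.ofHom (LinearMap.range (pm k).hom).subtype)) ≫ θ 𝔞 (G.obj (op k)),
      inferInstance, ?_⟩
    rw [← Category.assoc, show cπ (Ideal.span ({f} : Set R)) F k ≫ eM.hom =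
      (T 𝔞).map (ModuleCat.ofHom K.mkQ) from heM, ← Category.assoc, ← Category.assoc]
    refine congrArg (· ≫ θ 𝔞 (G.obj (op k))) ?_
    show ((T 𝔞).map _ ≫ (T 𝔞).map eq'.toModuleIso.hom) ≫ (T 𝔞).map _ = (T 𝔞).map (pm k)
    rw [← Functor.map_comp, ← Functor.map_comp]
    exact congrArg (T 𝔞).map (ModuleCat.hom_ext (LinearMap.ext fun x => rfl))
  choose u hu hπu using hiso
  have huc : Compat u := fun n => by
    refine (cancel_epi (cπ (Ideal.span ({f} : Set R)) F (n + 1))).1 ?_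
    rw [← Category.assoc, ← Category.assoc, hπu, hψ]
    exact (congrArg (· ≫ u n) (cπ_trLE _ _ (Nat.le_succ n))).trans (hπu n)
  obtain ⟨iso, -⟩ := exists_iso_of_compat huc hu
  exact ⟨iso⟩

end Groth.Agent.Formal2Lib.Punct
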