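import Groth.Agent.Formal2Lib.PuncturedFinite

/-!
# Cohomology of quasi-coherent modules on the complement of `V(𝔞)`, over the spectrum
-/

set_option autoImplicit false
set_option backward.isDefEq.respectTransparency false

universe u

open CategoryTheory CategoryTheory.Limits AlgebraicGeometry Opposite TopologicalSpace
open Groth.Agent.Coherent Groth.Agent.Coherent.Serre

namespace Groth.Agent.Formal2Lib.SecU

/-- The connecting map is natural, on any open. -/
theorem deltaA_natural_open {X : Scheme.{u}} {A : Type u} [CommRing A] (φ : A →+* Γ(X, ⊤))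
    {S S' : ShortComplex X.Modules} (hS : S.ShortExact) (hS' : S'.ShortExact)
    (τ : S ⟶ S') (U : X.Opens) (q : ℕ) (x : HA φ S.X₃ U q) :
    postA φ τ.τ₁ U (q + 1) (deltaA φ hS U q x) = deltaA φ hS' U q (postA φ τ.τ₃ U q x) := by
  have hnat := ShortComplex.ShortExact.extClass_naturality (toAb_shortExact hS)
    (toAb_shortExact hS') ((toAbFunctor X).mapShortComplex.map τ)
  let x' : CategoryTheory.Abelian.Ext (freeSh (X := X.toTopCat) U) (Coh.toAb S.X₃) q := x
  exact (CategoryTheory.Abelian.Ext.comp_assoc_of_third_deg_zero x' (toAb_shortExact hS).extClass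
      (CategoryTheory.Abelian.Ext.mk₀ ((toAbFunctor X).map τ.τ₁)) (rfl : q + 1 = q + 1)).trans
    ((congrArg (fun z => x'.comp z (rfl : q + 1 = q + 1)) hnat).trans
      (CategoryTheory.Abelian.Ext.comp_assoc_of_second_deg_zero x' (CategoryTheory.Abelian.Ext.mk₀ ((toAbFunctor X).map τ.τ₃))
        (toAb_shortExact hS').extClass (rfl : q + 1 = q + 1)).symm)

variable {R : CommRingCat.{u}}

/-- The structure map. -/
noncomputable abbrev φ0 (R : CommRingCat.{u}) : R →+* Γ(Spec R, ⊤) := (Scheme.ΓSpecIso R).inv.hom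

local notation "φS" => φ0 R

/-- Multiplication by a scalar is `tilde` of multiplication. -/
theorem map_smul_id (M : ModuleCat.{u} R) (c : R) :
    tilde.map (R := R) (ModuleCat.ofHom (c • LinearMap.id : M →ₗ[R] M)) =
      Formal.smulModΓ (tilde M) (φS c) := by
  refine ((tilde.adjunction (R := R)).homEquiv M (tilde M)).injective (ModuleCat.hom_ext (LinearMap.ext fun x => ?_))
  rw [Adjunction.homEquiv_unit, Adjunction.homEquiv_unit]
  show (tilde.map (R := R) (ModuleCat.ofHom (c • LinearMap.id : M →ₗ[R] M))).app ⊤ ((tilde.toOpen M ⊤).hom x) =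
    (Formal.smulModΓ (tilde M) (φS c)).app ⊤ ((tilde.toOpen M ⊤).hom x)
  refine (Misc15.Koszul.rho_map (ModuleCat.ofHom (c • LinearMap.id : M →ₗ[R] M)) ⊤ x).trans ?_
  exact (map_smul (tilde.toOpen M ⊤).hom c x).trans
    (Scheme.Modules.smul_Spec_def (M := tilde M) (U := ⊤) c _)

theorem map_smul_hom {M N : ModuleCat.{u} R} (g : M →ₗ[R] N) (c : R) :
    tilde.map (R := R) (ModuleCat.ofHom (c • g)) =
      tilde.map (R := R) (ModuleCat.ofHom g) ≫ Formal.smulModΓ (tilde N) (φS c) := by
  rw [← map_smul_id, ← tilde.map_comp]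
  rfl

/-- Tilde of a short exact sequence. -/
theorem shortExact_tilde {S : ShortComplex (ModuleCat.{u} R)} (hS : S.ShortExact) :
    (S.map (tilde.functor R)).ShortExact := by
  have := AffSchLib.preservesFiniteLimits_tilde R
  have : PreservesFiniteColimits (tilde.functor R) := by
    have := (tilde.adjunction (R := R)).leftAdjoint_preservesColimits
    infer_instance
  exact hS.map_of_exact (tilde.functor R)

variable (V : (Spec R).Opens)

/-- Cohomology on an open. -/
abbrev F (M : ModuleCat.{u} R) (q : ℕ) : Type u := HA φS (tilde (R := R) M) V q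

/-- Functoriality. -/
noncomputable def Fmap {M N : ModuleCat.{u} R} (g : M →ₗ[R] N) (q : ℕ) : F V M q →ₗ[R] F V N q :=
  postA φS (tilde.map (R := R) (ModuleCat.ofHom g)) V q

theorem Fmap_smul {M N : ModuleCat.{u} R} (g : M →ₗ[R] N) (c : R) (q : ℕ) (x : F V M q) :
    Fmap V (c • g) q x = c • Fmap V g q x := by
  show postA φS _ V q x = _
  rw [map_smul_hom]
  exact postHM_comp _ _ q V x

theorem Fmap_id (M : ModuleCat.{u} R) (q : ℕ) (x : F V M q) :
    Fmap V (LinearMap.id : M →ₗ[R] M) q x = x := by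
  show postA φS (tilde.map (R := R) (𝟙 M)) V q x = x
  rw [tilde.map_id]
  exact postHM_id _ q V x

theorem Fmap_comp {M N L : ModuleCat.{u} R} (g : M →ₗ[R] N) (h : N →ₗ[R] L) (q : ℕ) (x : F V M q) :
    Fmap V (h.comp g) q x = Fmap V h q (Fmap V g q x) := by
  show postA φS (tilde.map (R := R) (ModuleCat.ofHom g ≫ ModuleCat.ofHom h)) V q x = _
  rw [tilde.map_comp]
  exact postHM_comp _ _ q V x

theorem Fmap_zero {M N : ModuleCat.{u} R} (q : ℕ) (x : F V M q) :
    Fmap V (0 : M →ₗ[R] N) q x = 0 := by
  have h := Fmap_smul V (0 : M →ₗ[R] N) (0 : R) q x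
  rwa [smul_zero, zero_smul] at h

/-- Degree zero is sections. -/
noncomputable def secV (M : (Spec R).Modules) : HA φS M V 0 ≃ₗ[R] Γ(M, V) :=
  { (secH (X := (Spec R).toTopCat) (Coh.toAb M) V : HA φS M V 0 ≃+ Γ(M, V)) with
    map_smul' := fun a x => by
      refine (secH_postH (X := (Spec R).toTopCat) (smulEndAb M (φS a)) V x).trans ?_
      refine (smulEndAb_app M (φS a) V _).trans ?_
      exact (Scheme.Modules.smul_Spec_def (M := M) (U := V) a _).symm }

theorem secV_natural {M N : (Spec R).Modules} (g : M ⟶ N) (x : HA φS M V 0) :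
    secV V N (postA φS g V 0 x) = g.app V (secV V M x) :=
  secH_postH (X := (Spec R).toTopCat) ((toAbFunctor (Spec R)).map g) V x

/-- The canonical map from the module. -/
noncomputable def unit (M : ModuleCat.{u} R) : M →ₗ[R] F V M 0 :=
  (secV V (tilde M)).symm.toLinearMap ∘ₗ (tilde.toOpen M V).hom

theorem unit_natural {M N : ModuleCat.{u} R} (g : M →ₗ[R] N) (x : M) :
    Fmap V g 0 (unit V M x) = unit V N (g x) := by
  refine (secV V (tilde N)).injective ((secV_natural V _ _).trans ?_)
  show (tilde.map (R := R) (ModuleCat.ofHom g)).app V (secV V (tilde M) ((secV V (tilde M)).symm _)) =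
    secV V (tilde N) ((secV V (tilde N)).symm _)
  rw [LinearEquiv.apply_symm_apply, LinearEquiv.apply_symm_apply]
  exact Misc15.Koszul.rho_map (ModuleCat.ofHom g) V x

variable {A B C : ModuleCat.{u} R} {f : A →ₗ[R] B} {g : B →ₗ[R] C}
  (hf : Function.Injective f) (hg : Function.Surjective g) (hfg : Function.Exact f g)

include hf hg hfg

/-- The short complex. -/
theorem ses : (ShortComplex.mk (ModuleCat.ofHom f) (ModuleCat.ofHom g)
    (ModuleCat.hom_ext hfg.linearMap_comp_eq_zero)).ShortExact :=
  { exact := (ShortComplex.ShortExact.moduleCat_exact_iff_function_exact _).2 hfg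
    mono_f := (ModuleCat.mono_iff_injective _).2 hf
    epi_g := (ModuleCat.epi_iff_surjective _).2 hg }

/-- Connecting map. -/
noncomputable def delta (q : ℕ) : F V C q →ₗ[R] F V A (q + 1) :=
  deltaA φS (shortExact_tilde (ses hf hg hfg)) V q

theorem exact_map (q : ℕ) : Function.Exact (Fmap V f q) (Fmap V g q) :=
  exact_postA φS (shortExact_tilde (ses hf hg hfg)) V q

theorem exact_map_delta (q : ℕ) : Function.Exact (Fmap V g q) (delta V hf hg hfg q) :=
  exact_postA_deltaA φS (shortExact_tilde (ses hf hg hfg)) V q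

theorem exact_delta_map (q : ℕ) : Function.Exact (delta V hf hg hfg q) (Fmap V f (q + 1)) :=
  exact_deltaA_postA φS (shortExact_tilde (ses hf hg hfg)) V q

theorem Fmap_zero_injective : Function.Injective (Fmap V f 0) := fun x y hxy => by
  refine (secV V (tilde (R := R) A)).injective ?_
  refine sections_injective (shortExact_tilde (ses hf hg hfg)) V ?_
  exact ((secV_natural V _ x).symm.trans (congrArg (secV V _) hxy)).trans (secV_natural V _ y)

theorem delta_natural {A' B' C' : ModuleCat.{u} R} {f' : A' →ₗ[R] B'} {g' : B' →ₗ[R] C'}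
    (hf' : Function.Injective f') (hg' : Function.Surjective g') (hfg' : Function.Exact f' g')
    (a : A →ₗ[R] A') (b : B →ₗ[R] B') (c : C →ₗ[R] C') (h1 : b.comp f = f'.comp a) (h2 : c.comp g = g'.comp b)
    (q : ℕ) (x : F V C q) :
    Fmap V a (q + 1) (delta V hf hg hfg q x) = delta V hf' hg' hfg' q (Fmap V c q x) := by
  let τ : ShortComplex.mk (ModuleCat.ofHom f) (ModuleCat.ofHom g) (ModuleCat.hom_ext hfg.linearMap_comp_eq_zero) ⟶
      ShortComplex.mk (ModuleCat.ofHom f') (ModuleCat.ofHom g') (ModuleCat.hom_ext hfg'.linearMap_comp_eq_zero) :=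
    { τ₁ := ModuleCat.ofHom a
      τ₂ := ModuleCat.ofHom b
      τ₃ := ModuleCat.ofHom c
      comm₁₂ := ModuleCat.hom_ext h1.symm
      comm₂₃ := ModuleCat.hom_ext h2.symm }
  exact deltaA_natural_open φS (shortExact_tilde (ses hf hg hfg)) (shortExact_tilde (ses hf' hg' hfg'))
    ((tilde.functor R).mapShortComplex.map τ) V q x

end Groth.Agent.Formal2Lib.SecU
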