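import Groth.Agent.Formal2Lib.ModSysAlgz
import Groth.Agent.Coherent.ClosedEquiv
import Groth.Agent.Coherent.Existence.NoSep
import Groth.Agent.Coherent.Existence.FullFaithful
import Groth.Agent.Coherent.FormalFunctions

/-!
# Completion of coherent modules on a proper scheme is fully faithful, in the language of systems
-/

set_option autoImplicit false
set_option backward.isDefEq.respectTransparency false
set_option linter.unusedSectionVars false

universe u

open CategoryTheory CategoryTheory.Limits AlgebraicGeometry Opposite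
open Groth.Agent.Coherent Groth.Agent.Coherent.Serre Groth.Agent.Coherent.Existence

namespace Groth.Agent.Formal2Lib.ModSysAlgz

section Level

variable {A : Type u} [CommRing A] {X Z : Scheme.{u}} [X.Over (Spec (CommRingCat.of A))] (J : Ideal A) (k : ℕ)
  (i : Z ⟶ X) [IsClosedImmersion i]

/-- Morphisms into a module killed by the ideal are determined by their inverse image. -/
theorem pullback_map_injective {F Q : X.Modules} (hk : ClSub.KilledByIdeal i.ker Q) {f g : F ⟶ Q}
    (h : (Scheme.Modules.pullback i).map f = (Scheme.Modules.pullback i).map g) : f = g := by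
  have := isIso_clUnit i hk
  refine (cancel_mono (clUnit i Q)).1 ?_
  refine ((Scheme.Modules.pullbackPushforwardAdjunction i).unit.naturality f).trans ?_
  refine Eq.trans ?_ ((Scheme.Modules.pullbackPushforwardAdjunction i).unit.naturality g).symm
  show _ ≫ (Coh.push i).map ((Scheme.Modules.pullback i).map f) = _ ≫ (Coh.push i).map ((Scheme.Modules.pullback i).map g)
  rw [h]

/-- Morphisms of inverse images into a module killed by the ideal lift. -/
theorem pullback_map_surjective {F Q : X.Modules} (hk : ClSub.KilledByIdeal i.ker Q)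
    (φ : (Scheme.Modules.pullback i).obj F ⟶ (Scheme.Modules.pullback i).obj Q) :
    ∃ f : F ⟶ Q, (Scheme.Modules.pullback i).map f = φ := by
  have := isIso_clUnit i hk
  let ad := Scheme.Modules.pullbackPushforwardAdjunction i
  refine ⟨(ad.homEquiv F _) φ ≫ inv (clUnit i Q), (ad.homEquiv F _).injective ?_⟩
  rw [Adjunction.homEquiv_unit, Adjunction.homEquiv_unit]
  refine (ad.unit.naturality _).symm.trans ?_
  show (ad.homEquiv F _ φ ≫ inv (clUnit i Q)) ≫ clUnit i Q = _
  rw [Category.assoc, IsIso.inv_hom_id, Category.comp_id, Adjunction.homEquiv_unit]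

/-- The projection modulo the ideal becomes invertible on the closed subscheme. -/
theorem isIso_pullback_modPowπ (hkill : ∀ N : Z.Modules, Formal.KilledBy (J ^ k) ((Coh.push i).obj N))
    (F : X.Modules) : IsIso ((Scheme.Modules.pullback i).map (Formal.modPowπ J k F)) := by
  let P := Scheme.Modules.pullback i
  let ad := Scheme.Modules.pullbackPushforwardAdjunction i
  let d : Formal.modPow J k F ⟶ (Coh.push i).obj (P.obj F) := modPowDesc J (ad.unit.app F) (hkill _)
  let b : P.obj (Formal.modPow J k F) ⟶ P.obj F := (ad.homEquiv _ (P.obj F)).symm d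
  have hb : P.map (Formal.modPowπ J k F) ≫ b = 𝟙 (P.obj F) := by
    refine (ad.homEquiv_naturality_left_symm _ d).symm.trans ?_
    rw [Equiv.symm_apply_eq, Adjunction.homEquiv_id]
    exact π_modPowDesc J _ _
  have : Epi (P.map (Formal.modPowπ J k F)) := by
    have := Adjunction.leftAdjoint_preservesColimits.{0, 0} ad
    infer_instance
  have : IsSplitMono (P.map (Formal.modPowπ J k F)) := ⟨⟨⟨b, hb⟩⟩⟩
  exact isIso_of_epi_of_isSplitMono _

end Level

/-- Naturality on a lower level. -/
theorem map_eq_of_natIso {X Z₀ Z₁ : Scheme.{u}} (P₀ : X.Modules ⥤ Z₀.Modules) (P₁ : X.Modules ⥤ Z₁.Modules)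
    (L : Z₁.Modules ⥤ Z₀.Modules) (c : P₁ ⋙ L ≅ P₀) {F G Q : X.Modules} (h : F ⟶ Q) (π : G ⟶ Q)
    (φ₁ : P₁.obj F ⟶ P₁.obj G) (φ₀ : P₀.obj F ⟶ P₀.obj G)
    (hcomm : L.map φ₁ ≫ c.hom.app G = c.hom.app F ≫ φ₀) (hh : P₁.map h = φ₁ ≫ P₁.map π) :
    P₀.map h = φ₀ ≫ P₀.map π := by
  rw [← cancel_epi (c.hom.app F), ← c.hom.naturality, ← reassoc_of% hcomm, ← c.hom.naturality]
  show L.map (P₁.map h) ≫ _ = L.map φ₁ ≫ L.map (P₁.map π) ≫ _
  rw [hh, Functor.map_comp, Category.assoc]

variable {A : Type u} [CommRing A] [IsNoetherianRing A] (J : Ideal A) [IsAdicComplete J A] {X : Scheme.{u}}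
  [X.Over (Spec (CommRingCat.of A))] [LocallyOfFiniteType (X ↘ Spec (CommRingCat.of A))] [QuasiCompact (X ↘ Spec (CommRingCat.of A))] (I : X.IdealSheafData)
  (hI : I = (FSch.idealSpec A J).comap (X ↘ Spec (CommRingCat.of A)))

include hI in
theorem ker_toX_le (n : ℕ) (V : X.affineOpens) :
    (FSch.completionToX X I n).ker.ideal V ≤ (J ^ (n + 1)).map (baseFun (X ↘ Spec (CommRingCat.of A)) V.1) := by
  rw [Scheme.IdealSheafData.ker_subschemeι, pow_eq_comap J I hI (n + 1), ideal_comap_idealSpec]

include hI in
/-- Full faithfulness, given formal functions for the internal homomorphisms. -/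
theorem bijective_complModMap_of_bijective {F G : X.Modules} (hF : Coh.IsCoh F) (hG : Coh.IsCoh G)
    (hbij : Function.Bijective (Formal.toHHlim J (internalHom F G) 0)) :
    Function.Bijective (fun u : F ⟶ G => FSch.complModMap I u) := by
  have : IsLocallyNoetherian X := LocallyOfFiniteType.isLocallyNoetherian (X ↘ Spec (CommRingCat.of A))
  have : CompactSpace X := QuasiCompact.compactSpace_of_compactSpace (X ↘ Spec (CommRingCat.of A))
  let S := sys J I hI
  have hci : ∀ n, IsClosedImmersion (FSch.completionToX X I n) := fun n => sys_closedImm I n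
  have hkill : ∀ (n : ℕ) (N : ((FSch.completionAlong X I).X n).Modules),
      Formal.KilledBy (J ^ (n + 1)) ((Coh.push (FSch.completionToX X I n)).obj N) := fun n N =>
    killedBy_push' (A := A) (X' := S.X n) (p := (FSch.completionToX X I n : S.X n ⟶ X)) rfl (S.killedBy n N)
  have hk : ∀ n, ClSub.KilledByIdeal (FSch.completionToX X I n).ker (Formal.modPow J (n + 1) G) := fun n =>
    killedByIdeal_of_le_map _ _ (ker_toX_le J I hI n) (killedBy_modPow J (n + 1) G)
  have hfull : ∀ n (φ : (Scheme.Modules.pullback (FSch.completionToX X I n)).obj F ⟶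
      (Scheme.Modules.pullback (FSch.completionToX X I n)).obj G), ∃ h : F ⟶ Formal.modPow J (n + 1) G,
      (Scheme.Modules.pullback (FSch.completionToX X I n)).map h =
        φ ≫ (Scheme.Modules.pullback (FSch.completionToX X I n)).map (Formal.modPowπ J (n + 1) G) := fun n φ =>
    pullback_map_surjective _ (hk n) _
  refine ⟨fun u v huv => ?_, fun φ => ?_⟩
  · obtain ⟨w, -, huniq⟩ := NoSep.existsUnique_hom_of_bijective J hF hG hbij
      (NatTrans.ofOpSequence (F := Formal.completion J F) (G := Formal.completion J G)
        (fun n => modPowMap J (n + 1) u) (compat_modPowMap J u))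
    have h1 : u = w := huniq u fun n => by
      rw [NatTrans.ofOpSequence_app]
      exact π_modPowMap J (n + 1) u
    refine h1.trans (huniq v fun n => ?_).symm
    rw [NatTrans.ofOpSequence_app]
    refine (π_modPowMap J (n + 1) u).trans (pullback_map_injective _ (hk n) ?_)
    rw [Functor.map_comp, Functor.map_comp]
    exact congrArg (· ≫ _) (congrArg (fun ψ : FSch.complMod I F ⟶ FSch.complMod I G => ψ.app n) huv)
  · choose h hh using fun n => hfull n (φ.app n)
    have htr : ∀ n, h (n + 1) ≫ Formal.modPowTrans J (n + 1) G = h n := fun n => by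
      refine pullback_map_injective _ (hk n) ?_
      have h1 := map_eq_of_natIso _ _ _ (FSch.complTransIso I n) (h (n + 1)) (Formal.modPowπ J (n + 1 + 1) G)
        (φ.app (n + 1)) (φ.app n) (φ.comm n) (hh (n + 1))
      rw [Functor.map_comp, h1, Category.assoc, ← Functor.map_comp, Formal.modPowπ_trans, hh]
    let τ := fun n => modPowDesc J (h n) (killedBy_modPow J (n + 1) G)
    obtain ⟨u, hu, -⟩ := NoSep.existsUnique_hom_of_bijective J hF hG hbij
      (NatTrans.ofOpSequence (F := Formal.completion J F) (G := Formal.completion J G) τ fun n => by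
        refine (cancel_epi (Formal.modPowπ J (n + 1 + 1) F)).1 ?_
        refine (π_tr_completion_assoc J F n _).trans ((π_modPowDesc J _ _).trans ?_)
        refine Eq.trans ?_ (Category.assoc _ _ _)
        refine Eq.trans ?_ (congrArg (· ≫ tr (Formal.completion J G) n) (π_modPowDesc J (h (n + 1)) _).symm)
        exact (htr n).symm.trans (congrArg (h (n + 1) ≫ ·) (completion_map_succ J G n).symm))
    refine ⟨u, FSch.ModSys.Hom.ext (funext fun n => ?_)⟩
    have := isIso_pullback_modPowπ J (n + 1) (FSch.completionToX X I n) (hkill n) G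
    show (Scheme.Modules.pullback (FSch.completionToX X I n)).map u = φ.app n
    refine (cancel_mono ((Scheme.Modules.pullback (FSch.completionToX X I n)).map (Formal.modPowπ J (n + 1) G))).1 ?_
    have h2 := hu n
    rw [NatTrans.ofOpSequence_app] at h2
    rw [← Functor.map_comp, ← h2, π_modPowDesc, hh]

/-- Full faithfulness for coherent modules with supports meeting in a proper closed subset. -/
theorem bijective_complModMap_of_isProperOver {A : Type u} [CommRing A] [IsNoetherianRing A] (J : Ideal A)
    [IsAdicComplete J A] {X : Scheme.{u}} [X.Over (Spec (CommRingCat.of A))]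
    [LocallyOfFiniteType (X ↘ Spec (CommRingCat.of A))] [QuasiCompact (X ↘ Spec (CommRingCat.of A))]
    (I : X.IdealSheafData) (hI : I = (FSch.idealSpec A J).comap (X ↘ Spec (CommRingCat.of A)))
    {F G : X.Modules} (hF : Coh.IsCoh F) (hG : Coh.IsCoh G)
    (hs : ClSub.IsProperOver (X ↘ Spec (CommRingCat.of A)) (CohB1.support F ∩ CohB1.support G)) :
    Function.Bijective (fun u : F ⟶ G => FSch.complModMap I u) := by
  have : IsLocallyNoetherian X := LocallyOfFiniteType.isLocallyNoetherian (X ↘ Spec (CommRingCat.of A))
  have : CompactSpace X := QuasiCompact.compactSpace_of_compactSpace (X ↘ Spec (CommRingCat.of A))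
  have hcl : ∀ {F : X.Modules}, Coh.IsCoh F → IsClosed (CohB1.support F) := fun {F} hF =>
    isClosed_support F (locallyFinGen_of_isFT F hF.2)
  have := finiteOnSupp_of_isProperOver (A := A) (M := internalHom F G)
    (Et18.IsProperOver.of_subset hs (hcl (isCoh_internalHom hF hG))
      (Set.subset_inter (support_internalHom_subset F G (hcl hF)) (NoSep.support_internalHom_subset' F G (hcl hG))))
  exact bijective_complModMap_of_bijective J I hI hF hG (toHHlim_bijective J (isCoh_internalHom hF hG) 0)

/-- Full faithfulness. -/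
theorem bijective_complModMap {A : Type u} [CommRing A] [IsNoetherianRing A] (J : Ideal A) [IsAdicComplete J A]
    {X : Scheme.{u}} [X.Over (Spec (CommRingCat.of A))] [IsProper (X ↘ Spec (CommRingCat.of A))]
    (I : X.IdealSheafData) (hI : I = (FSch.idealSpec A J).comap (X ↘ Spec (CommRingCat.of A)))
    {F G : X.Modules} (hF : Coh.IsCoh F) (hG : Coh.IsCoh G) :
    Function.Bijective (fun u : F ⟶ G => FSch.complModMap I u) := by
  have : IsLocallyNoetherian X := LocallyOfFiniteType.isLocallyNoetherian (X ↘ Spec (CommRingCat.of A))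
  have : CompactSpace X := QuasiCompact.compactSpace_of_compactSpace (X ↘ Spec (CommRingCat.of A))
  have : X.IsSeparated := isSeparated_of_isProper (X ↘ Spec (CommRingCat.of A))
  exact bijective_complModMap_of_bijective J I hI hF hG (toHHlim_bijective J (isCoh_internalHom hF hG) 0)

end Groth.Agent.Formal2Lib.ModSysAlgz
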