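import Groth.Agent.Coherent.FormalFunctions
import Groth.Agent.Coherent.Existence.TwoStep
import Groth.Prelude.Def_Formal2

/-!
# Formal functions for finite cohomology, without properness
-/

set_option autoImplicit false
set_option backward.isDefEq.respectTransparency false

universe u

open CategoryTheory CategoryTheory.Limits AlgebraicGeometry Opposite TopologicalSpace
open Groth.Agent.Coherent Groth.Agent.Coherent.Serre Groth.Agent.Coherent.Existence

namespace Groth.Agent.Formal2Lib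

attribute [local instance 20000] Groth.Agent.Coherent.hhMod Groth.Agent.Coherent.hhGrp

variable {A : Type u} [CommRing A] {X : Scheme.{u}} [X.Over (Spec (CommRingCat.of A))]

local notation "φ" => baseHom A X

/-- Sums of finitely many principal ideals with exponent `n`. -/
def powsIdeal (s : List A) (n : ℕ) : Ideal A := match s with
  | [] => ⊥
  | f :: s => powsIdeal s n ⊔ Ideal.span {f ^ n}

theorem powsIdeal_antitone (s : List A) : Antitone (powsIdeal s) := fun m k h => by
  induction s with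
  | nil => exact le_rfl
  | cons f s ih =>
    exact sup_le_sup ih (Ideal.span_singleton_le_span_singleton.2 (pow_dvd_pow f h))

theorem powsIdeal_le {I : Ideal A} (s : List A) (hs : ∀ f ∈ s, f ∈ I) (n : ℕ) :
    powsIdeal s n ≤ I ^ n := by
  induction s with
  | nil => exact bot_le
  | cons f s ih =>
    exact sup_le (ih fun g hg => hs g (List.mem_cons_of_mem _ hg))
      (Ideal.span_le.2 (by simpa using Ideal.pow_mem_pow (hs f List.mem_cons_self) n))

theorem le_radical_powsIdeal (s : List A) (n : ℕ) :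
    Ideal.span {f | f ∈ s} ≤ (powsIdeal s n).radical := by
  induction s with
  | nil => simp
  | cons f s ih =>
    refine Ideal.span_le.2 fun g hg => ?_
    rcases List.mem_cons.1 hg with rfl | hg
    · exact ⟨n, Ideal.mem_sup_right (Ideal.mem_span_singleton_self _)⟩
    · exact Ideal.radical_mono le_sup_left (ih (Ideal.subset_span hg))

theorem exists_pow_mem_of_smul [IsNoetherianRing A] {M : Type*} [AddCommGroup M] [Module A M]
    [Module.Finite A M] (N : Submodule A M) (f : A) :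
    ∃ s, ∀ (t : ℕ) (x : M), f ^ t • x ∈ N → f ^ s • x ∈ N := by
  let C : ℕ →o Submodule A M :=
    ⟨fun t => N.comap (LinearMap.lsmul A M (f ^ t)), fun t k h x hx => by
      change f ^ k • x ∈ N
      rw [← Nat.sub_add_cancel h, pow_add, mul_smul]
      exact N.smul_mem _ hx⟩
  obtain ⟨s, hs⟩ := monotone_stabilizes_iff_noetherian.2 (inferInstance : IsNoetherian A M) C
  refine ⟨s, fun t x hx => ?_⟩
  rcases le_total t s with h | h
  · exact C.mono h hx
  · exact (hs t h).ge hx

variable [IsNoetherianRing A]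

omit [IsNoetherianRing A] in
theorem smulMod_pow_app (D : X.Modules) (f : A) (t : ℕ) (U : X.Opens) (x : Γ(D, U)) :
    (Formal.smulMod A D (f ^ t)).app U x =
      (X.presheaf.map (homOfLE (le_top (a := U))).op (φ f) : Γ(X, U)) ^ t • x := by
  rw [smulMod_app]
  exact congrArg (· • x) (((congrArg _ (map_pow φ f t))).trans (map_pow _ _ _))

omit [IsNoetherianRing A] in
/-- The torsion of a coherent sheaf is bounded. -/
theorem exists_torsion_bound [IsNoetherian X] {D : X.Modules} (hD : Coh.IsCoh D) (f : A) :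
    ∃ s, ∀ t, kernel.ι (Formal.smulMod A D (f ^ t)) ≫ Formal.smulMod A D (f ^ s) = 0 := by
  obtain ⟨S, hS⟩ := Groth.Agent.H8Top.exists_finite_affine_cover X
  have hs : ∀ U : S, ∃ s, ∀ (t : ℕ) (x : Γ(D, U.1.1)),
      (Formal.smulMod A D (f ^ t)).app U.1.1 x = 0 → (Formal.smulMod A D (f ^ s)).app U.1.1 x = 0 := by
    intro U
    have := IsLocallyNoetherian.component_noetherian (X := X) U.1
    have := hD.1
    have := finite_sections D (locallyFinGen_of_isFT D hD.2) U.1.2
    obtain ⟨s, hs⟩ := exists_pow_mem_of_smul (⊥ : Submodule Γ(X, U.1.1) Γ(D, U.1.1))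
      (X.presheaf.map (homOfLE (le_top (a := U.1.1))).op (φ f) : Γ(X, U.1.1))
    refine ⟨s, fun t x hx => ?_⟩
    rw [smulMod_pow_app] at hx ⊢
    exact (Submodule.mem_bot _).1 (hs t x ((Submodule.mem_bot _).2 hx))
  choose s hs using hs
  refine ⟨Finset.univ.sup s, fun t => ?_⟩
  have := hD.1
  have := isQCoh_kernel (Formal.smulMod A D (f ^ t))
  refine hom_eq_zero_of_cover (fun U : S => U.1.1) (fun U => U.1.2)
    (fun x => Opens.mem_iSup.1 (hS.ge (Opens.mem_top x))) _ fun U a => ?_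
  have h := hs U t _ (kernel_ι_app_zero (Formal.smulMod A D (f ^ t)) U.1.1 a)
  rw [smulMod_pow_app] at h
  rw [comp_app_eq, smulMod_pow_app, ← Nat.sub_add_cancel (Finset.le_sup (f := s) (Finset.mem_univ U)),
    pow_add, mul_smul, h, smul_zero]

variable (F : X.Modules) (J : ℕ → Ideal A)

/-- The levels `F/J_n F`. -/
noncomputable abbrev lvl (n : ℕ) : X.Modules := Formal.modPow (J n) 1 F

noncomputable abbrev lvlπ (n : ℕ) : F ⟶ lvl F J n := Formal.modPowπ (J n) 1 F

variable {F J} (hJ : Antitone J)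

/-- The transition maps. -/
noncomputable def lvlTr {m k : ℕ} (h : m ≤ k) : lvl F J k ⟶ lvl F J m :=
  modPowDesc (J k) (lvlπ F J m)
    (killedBy_of_le (Ideal.pow_right_mono (hJ h) 1) (killedBy_modPow (J m) 1 F))

omit [IsNoetherianRing A] in
theorem π_lvlTr {m k : ℕ} (h : m ≤ k) : lvlπ F J k ≫ lvlTr hJ h = lvlπ F J m := π_modPowDesc _ _ _

omit [IsNoetherianRing A] in
theorem lvlTr_comp {i m k : ℕ} (h₁ : i ≤ m) (h₂ : m ≤ k) :
    lvlTr hJ h₂ ≫ lvlTr hJ h₁ = (lvlTr hJ (h₁.trans h₂) : lvl F J k ⟶ _) := by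
  rw [← cancel_epi (lvlπ F J k), ← Category.assoc, π_lvlTr, π_lvlTr, π_lvlTr]

variable (F J)

/-- Image in the levels is eventually that of `H^q(X, F)`. -/
def ProSurj (q : ℕ) : Prop :=
  ∀ m, ∃ k, ∃ h : m ≤ k, ∀ x : HA φ (lvl F J k) (⊤ : X.Opens) q,
    ∃ y, postA φ (lvlTr hJ h) ⊤ q x = postA φ (lvlπ F J m) ⊤ q y

/-- The kernels are eventually small. -/
def ProInj (q : ℕ) : Prop :=
  ∀ m, ∃ k, ∀ y : HA φ F (⊤ : X.Opens) q, postA φ (lvlπ F J k) ⊤ q y = 0 →
    y ∈ J m • (⊤ : Submodule A (HA φ F (⊤ : X.Opens) q))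

variable {F J}

omit [IsNoetherianRing A] in
theorem postA_lvlπ_eq_zero {m q : ℕ} {y : HA φ F (⊤ : X.Opens) q}
    (hy : y ∈ J m • (⊤ : Submodule A (HA φ F (⊤ : X.Opens) q))) :
    postA φ (lvlπ F J m) ⊤ q y = 0 := by
  refine Submodule.smul_induction_on hy (fun a ha z _ => ?_) fun a b ha hb => by
    rw [map_add, ha, hb, add_zero]
  rw [map_smul, ← postA_smulMod, killedBy_modPow (J m) 1 F a (by rwa [pow_one]), postA_zero]

omit [IsNoetherianRing A] in
theorem proSurj_bot (q : ℕ) (hJ : Antitone fun _ : ℕ => (⊥ : Ideal A)) :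
    ProSurj F (fun _ => (⊥ : Ideal A)) hJ q := fun m => ⟨m, le_rfl, fun x => by
  have hk : Formal.KilledBy ((⊥ : Ideal A) ^ 1) F := fun a ha => by
    rw [pow_one, Submodule.mem_bot] at ha
    rw [ha, smulMod_zero]
  refine ⟨postA φ (modPowDesc (⊥ : Ideal A) (𝟙 F) hk) ⊤ q x, ?_⟩
  rw [← postA_comp]
  congr 2
  rw [← cancel_epi (lvlπ F (fun _ => (⊥ : Ideal A)) m), π_lvlTr, ← Category.assoc, π_modPowDesc,
    Category.id_comp]⟩

omit [IsNoetherianRing A] in
theorem proInj_bot (q : ℕ) : ProInj F (fun _ => (⊥ : Ideal A)) q := fun m => ⟨m, fun y hy => by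
  have hk : Formal.KilledBy ((⊥ : Ideal A) ^ 1) F := fun a ha => by
    rw [pow_one, Submodule.mem_bot] at ha
    rw [ha, smulMod_zero]
  have := congrArg (postA φ (modPowDesc (⊥ : Ideal A) (𝟙 F) hk) ⊤ q) hy
  rw [← postA_comp, π_modPowDesc, postA_id, map_zero] at this
  rw [this]
  exact zero_mem _⟩

section Step

variable (f : A) {J' : ℕ → Ideal A} (hJ' : Antitone J') (hJJ' : ∀ n, J' n = J n ⊔ Ideal.span {f ^ n})

/-- Multiplication by `f^n` on level `n`. -/
noncomputable abbrev mulF (J : ℕ → Ideal A) (f : A) (n : ℕ) : lvl F J n ⟶ lvl F J n :=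
  Formal.smulMod A _ (f ^ n)

/-- The transition maps of images. -/
noncomputable def imTr {m k : ℕ} (h : m ≤ k) :
    Abelian.image (mulF (F := F) J f k) ⟶ Abelian.image (mulF (F := F) J f m) :=
  kernel.lift _ (Abelian.image.ι _ ≫ lvlTr hJ h) (by
    rw [← cancel_epi (Abelian.factorThruImage (mulF (F := F) J f k)), comp_zero, ← Category.assoc,
      ← Category.assoc, Abelian.image.fac]
    have e : Formal.smulMod A (lvl F J m) (f ^ k) =
        Formal.smulMod A (lvl F J m) (f ^ (k - m)) ≫ mulF J f m := by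
      rw [← smulMod_mul, ← pow_add, Nat.add_sub_cancel' h]
    rw [mulF, smulMod_natural, e, Category.assoc, Category.assoc, cokernel.condition, comp_zero,
      comp_zero])

omit [IsNoetherianRing A] in
theorem imTr_ι {m k : ℕ} (h : m ≤ k) :
    imTr (F := F) hJ f h ≫ Abelian.image.ι _ = Abelian.image.ι _ ≫ lvlTr hJ h := kernel.lift_ι _ _ _

omit [IsNoetherianRing A] in
theorem fac_imTr {m k : ℕ} (h : m ≤ k) :
    Abelian.factorThruImage (mulF (F := F) J f k) ≫ imTr hJ f h =
      (lvlTr hJ h ≫ Formal.smulMod A (lvl F J m) (f ^ (k - m))) ≫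
        Abelian.factorThruImage (mulF J f m) := by
  rw [← cancel_mono (Abelian.image.ι (mulF (F := F) J f m)), Category.assoc, imTr_ι, ← Category.assoc,
    Abelian.image.fac, mulF, smulMod_natural, Category.assoc _ (Abelian.factorThruImage _),
    Abelian.image.fac, Category.assoc, ← smulMod_mul, ← pow_add, Nat.add_sub_cancel' h]

omit [IsNoetherianRing A] in
theorem kerSeq_zero {M N : X.Modules} (t : M ⟶ N) : kernel.ι t ≫ Abelian.factorThruImage t = 0 := by
  rw [← cancel_mono (Abelian.image.ι t), Category.assoc, Abelian.image.fac, zero_comp, kernel.condition]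

/-- Classes in the image which die in the level come from classes killed by `f^n`. -/
theorem exists_preimage [IsNoetherian X] (hF : Coh.IsCoh F) (q k₁ : ℕ) : ∃ t, ∀ (k : ℕ) (h : k₁ ≤ k),
    t ≤ k → ∀ w : HA φ (Abelian.image (mulF (F := F) J f k)) (⊤ : X.Opens) q,
      ∃ z, postA φ (imTr hJ f h) ⊤ q w = postA φ (Abelian.factorThruImage (mulF J f k₁)) ⊤ q z := by
  obtain ⟨s, hs⟩ := exists_torsion_bound (isCoh_modPow (J k₁) hF 1) f
  refine ⟨k₁ + s, fun k h hk w => ?_⟩
  have h0 : kernel.ι (mulF (F := F) J f k) ≫ lvlTr hJ h ≫ Formal.smulMod A (lvl F J k₁) (f ^ (k - k₁)) = 0 := by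
    have hk0 : (kernel.ι (mulF (F := F) J f k) ≫ lvlTr hJ h) ≫ Formal.smulMod A (lvl F J k₁) (f ^ k) = 0 := by
      rw [Category.assoc, ← smulMod_natural, ← Category.assoc, kernel.condition, zero_comp]
    have h1 := congrArg (fun g => kernel.lift _ _ hk0 ≫ g ≫ Formal.smulMod A (lvl F J k₁) (f ^ (k - k₁ - s)))
      (hs k)
    simp only [zero_comp, comp_zero] at h1
    rw [Category.assoc, kernel.lift_ι_assoc, ← smulMod_mul, ← pow_add,
      Nat.sub_add_cancel (by omega : s ≤ k - k₁), Category.assoc] at h1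
    exact h1
  let τ : ShortComplex.mk (kernel.ι (mulF (F := F) J f k)) (Abelian.factorThruImage (mulF J f k))
      (kerSeq_zero _) ⟶
      ShortComplex.mk (kernel.ι (mulF (F := F) J f k₁)) (Abelian.factorThruImage (mulF J f k₁))
      (kerSeq_zero _) :=
    { τ₁ := 0
      τ₂ := lvlTr hJ h ≫ Formal.smulMod A (lvl F J k₁) (f ^ (k - k₁))
      τ₃ := imTr hJ f h
      comm₁₂ := by simp only [zero_comp]; exact h0.symm
      comm₂₃ := (fac_imTr hJ f h).symm }
  have h2 : deltaA φ (kerSeq_shortExact (mulF (F := F) J f k₁)) ⊤ q (postA φ (imTr hJ f h) ⊤ q w) = 0 := by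
    refine (deltaA_natural φ (kerSeq_shortExact _) (kerSeq_shortExact _) τ q w).symm.trans ?_
    exact postA_zero φ _ _
  obtain ⟨z, hz⟩ := (exact_postA_deltaA φ (kerSeq_shortExact _) ⊤ q _).1 h2
  exact ⟨z, hz.symm⟩

include hJJ' in
omit [IsNoetherianRing A] in
/-- The next level is the cokernel of multiplication. -/
theorem exists_iso_coker (n : ℕ) : ∃ e : cokernel (mulF (F := F) J f n) ≅ lvl F J' n,
    lvlπ F J n ≫ cokernel.π (mulF J f n) ≫ e.hom = lvlπ F J' n := by
  have hle : J n ≤ J' n := hJJ' n ▸ le_sup_left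
  have hk₁ : Formal.KilledBy (J n ^ 1) (lvl F J' n) :=
    killedBy_of_le (Ideal.pow_right_mono hle 1) (killedBy_modPow (J' n) 1 F)
  let g := modPowDesc (J n) (lvlπ F J' n) hk₁
  have hf : f ^ n ∈ J' n ^ 1 := by
    rw [pow_one, hJJ']; exact Ideal.mem_sup_right (Ideal.mem_span_singleton_self _)
  have hg : mulF J f n ≫ g = 0 := by
    rw [mulF, smulMod_natural, killedBy_modPow (J' n) 1 F _ hf, comp_zero]
  have hk₂ : Formal.KilledBy (J' n ^ 1) (cokernel (mulF (F := F) J f n)) := fun a ha => by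
    rw [← cancel_epi (cokernel.π (mulF (F := F) J f n)), comp_zero, ← smulMod_natural]
    rw [pow_one, hJJ', Submodule.mem_sup] at ha
    obtain ⟨b, hb, c, hc, rfl⟩ := ha
    obtain ⟨d, rfl⟩ := Ideal.mem_span_singleton'.1 hc
    rw [smulMod_add, Preadditive.add_comp, killedBy_modPow (J n) 1 F b (by rwa [pow_one]), zero_comp,
      zero_add, mul_comm, smulMod_mul, Category.assoc, cokernel.condition, comp_zero]
  let h := modPowDesc (J' n) (lvlπ F J n ≫ cokernel.π (mulF J f n)) hk₂
  have hdesc : lvlπ F J n ≫ g = lvlπ F J' n := π_modPowDesc _ _ _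
  have hh : lvlπ F J' n ≫ h = lvlπ F J n ≫ cokernel.π (mulF J f n) := π_modPowDesc _ _ _
  refine ⟨⟨cokernel.desc _ g hg, h, ?_, ?_⟩, ?_⟩
  · rw [← cancel_epi (cokernel.π (mulF (F := F) J f n)), cokernel.π_desc_assoc,
      ← cancel_epi (lvlπ F J n), ← Category.assoc, hdesc, hh, Category.comp_id]
  · rw [← cancel_epi (lvlπ F J' n), ← Category.assoc, hh, Category.assoc, cokernel.π_desc, hdesc,
      Category.comp_id]
  · show lvlπ F J n ≫ cokernel.π (mulF J f n) ≫ cokernel.desc _ g hg = _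
    rw [cokernel.π_desc, hdesc]

variable [IsNoetherian X] (hF : Coh.IsCoh F) (hfin : ∀ q : ℕ, Module.Finite A (HA (baseHom A X) F (⊤ : X.Opens) q))
include hF hfin hJJ'

theorem proSurj_step (hS : ∀ q, ProSurj F J hJ q) (hI : ∀ q, ProInj F J q) (q : ℕ) :
    ProSurj F J' hJ' q := by
  intro m₀
  obtain ⟨m, hm₀, hSm⟩ := hS q m₀
  obtain ⟨k₂, hk₂⟩ := hI (q + 1) m
  have := hfin (q + 1)
  obtain ⟨s, hs⟩ := exists_pow_mem_of_smul (J m • (⊤ : Submodule A (HA φ F (⊤ : X.Opens) (q + 1)))) f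
  obtain ⟨k₁', hk₁', hSk⟩ := hS (q + 1) (max k₂ (m + s))
  obtain ⟨t, ht⟩ := exists_preimage hJ f hF (q + 1) k₁'
  let k₁ := k₁'
  let k := max k₁' t
  have hk1k : k₁ ≤ k := le_max_left _ _
  have hmk₁ : m ≤ k₁ := le_trans (by omega : m ≤ max k₂ (m + s)) hk₁'
  have hmk : m ≤ k := hmk₁.trans hk1k
  refine ⟨k, hm₀.trans hmk, fun x => ?_⟩
  obtain ⟨ek, hek⟩ := exists_iso_coker (F := F) f hJJ' k
  obtain ⟨em, hem⟩ := exists_iso_coker (F := F) f hJJ' m
  let x' := postA φ ek.inv ⊤ q x
  let w := deltaA φ (imSeq_shortExact (mulF (F := F) J f k)) ⊤ q x'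
  obtain ⟨z, hz⟩ := ht k hk1k (le_max_right _ _) w
  have hz0 : f ^ k₁ • z = 0 := by
    rw [← postA_smulMod]
    show postA φ (mulF (F := F) J f k₁) ⊤ (q + 1) z = 0
    rw [← Abelian.image.fac (mulF (F := F) J f k₁), postA_comp, ← hz, ← postA_comp,
      imTr_ι, postA_comp]
    rw [(exact_deltaA_postA φ (imSeq_shortExact (mulF (F := F) J f k)) ⊤ q w).2 ⟨x', rfl⟩, map_zero]
  obtain ⟨h, hh⟩ := hSk z
  have hh' : postA φ (lvlπ F J k₂) ⊤ (q + 1) (f ^ k₁ • h) = 0 := by
    have e := congrArg (postA φ (lvlTr hJ (le_max_left k₂ (m + s))) ⊤ (q + 1)) hh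
    rw [← postA_comp, ← postA_comp, π_lvlTr, lvlTr_comp] at e
    rw [map_smul, ← e, ← map_smul, hz0, map_zero]
  have hfs : f ^ s • h ∈ J m • (⊤ : Submodule A (HA φ F (⊤ : X.Opens) (q + 1))) :=
    hs k₁ h (hk₂ _ hh')
  have hzm : f ^ (k₁ - m) • postA φ (lvlTr hJ hmk₁) ⊤ (q + 1) z = 0 := by
    have e := congrArg (postA φ (lvlTr hJ (show m ≤ max k₂ (m + s) by omega)) ⊤ (q + 1)) hh
    rw [← postA_comp, ← postA_comp, π_lvlTr, lvlTr_comp] at e
    rw [e, ← map_smul, ← Nat.sub_add_cancel (show s ≤ k₁ - m by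
      have : m + s ≤ k₁ := le_trans (le_max_right _ _) hk₁'
      omega), pow_add, mul_smul, map_smul, postA_lvlπ_eq_zero hfs, smul_zero]
  have hw : postA φ (imTr hJ f hmk) ⊤ (q + 1) w = 0 := by
    have e : imTr (F := F) hJ f hmk = imTr hJ f hk1k ≫ imTr hJ f hmk₁ := by
      rw [← cancel_mono (Abelian.image.ι _), Category.assoc, imTr_ι, imTr_ι, ← Category.assoc, imTr_ι,
        Category.assoc, lvlTr_comp]
    rw [e, postA_comp, hz, ← postA_comp, fac_imTr, postA_comp, postA_comp, postA_smulMod, hzm, map_zero]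
  let τ : ShortComplex.mk (Abelian.image.ι (mulF (F := F) J f k)) (cokernel.π _)
      (kernel.condition (cokernel.π (mulF (F := F) J f k))) ⟶
      ShortComplex.mk (Abelian.image.ι (mulF (F := F) J f m)) (cokernel.π _)
      (kernel.condition (cokernel.π (mulF (F := F) J f m))) :=
    { τ₁ := imTr hJ f hmk
      τ₂ := lvlTr hJ hmk
      τ₃ := ek.hom ≫ lvlTr hJ' hmk ≫ em.inv
      comm₁₂ := imTr_ι hJ f hmk
      comm₂₃ := by
        change lvlTr hJ hmk ≫ cokernel.π _ = cokernel.π _ ≫ _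
        rw [← cancel_mono em.hom, ← cancel_epi (lvlπ F J k)]
        simp only [Category.assoc, Iso.inv_hom_id, Category.comp_id]
        rw [← Category.assoc, π_lvlTr, hem, reassoc_of% hek, π_lvlTr] }
  have h0 := (deltaA_natural φ (imSeq_shortExact (mulF (F := F) J f k))
    (imSeq_shortExact (mulF (F := F) J f m)) τ q x').symm.trans hw
  obtain ⟨y, hy⟩ := (exact_postA_deltaA φ (imSeq_shortExact _) ⊤ q _).1 h0
  obtain ⟨y', hy'⟩ := hSm y
  refine ⟨y', ?_⟩
  have e : lvlTr hJ' (hm₀.trans hmk) =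
      (lvlTr hJ' hmk ≫ lvlTr hJ' hm₀ : lvl F J' k ⟶ _) := (lvlTr_comp hJ' _ _).symm
  obtain ⟨e₀, he₀⟩ := exists_iso_coker (F := F) f hJJ' m₀
  have hsq : cokernel.π (mulF (F := F) J f m) ≫ em.hom ≫ lvlTr hJ' hm₀ =
      lvlTr hJ hm₀ ≫ cokernel.π (mulF (F := F) J f m₀) ≫ e₀.hom := by
    rw [← cancel_epi (lvlπ F J m), reassoc_of% hem, π_lvlTr, ← Category.assoc, π_lvlTr, he₀]
  rw [e, postA_comp]
  have hx : postA φ (lvlTr hJ' hmk) ⊤ q x = postA φ em.hom ⊤ q (postA φ τ.τ₃ ⊤ q x') := by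
    simp only [x', τ, ← postA_comp, Category.assoc, Iso.inv_hom_id, Category.comp_id,
      Iso.inv_hom_id_assoc]
  rw [hx, ← hy, ← postA_comp, ← postA_comp, hsq, postA_comp, hy', ← postA_comp, he₀]

omit hfin in
theorem proInj_step (hS : ∀ q, ProSurj F J hJ q) (hI : ∀ q, ProInj F J q) (q : ℕ) :
    ProInj F J' q := by
  intro m
  obtain ⟨k₂, hk₂⟩ := hI q m
  obtain ⟨k₁, hk₁, hSk⟩ := hS q (max k₂ m)
  obtain ⟨t, ht⟩ := exists_preimage hJ f hF q k₁
  refine ⟨max k₁ t, fun y hy => ?_⟩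
  obtain ⟨ek, hek⟩ := exists_iso_coker (F := F) f hJJ' (max k₁ t)
  rw [← hek, ← Category.assoc, postA_comp, postA_comp] at hy
  have hy' := congrArg (postA φ ek.inv ⊤ q) hy
  rw [← postA_comp, ek.hom_inv_id, postA_id, map_zero] at hy'
  obtain ⟨w, hw⟩ := (exact_postA φ (imSeq_shortExact _) ⊤ q _).1 hy'
  obtain ⟨z, hz⟩ := ht _ (le_max_left _ _) (le_max_right _ _) w
  have h1 : postA φ (lvlπ F J k₁) ⊤ q y = f ^ k₁ • z := by
    rw [← postA_smulMod]
    show _ = postA φ (mulF (F := F) J f k₁) ⊤ q z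
    rw [← Abelian.image.fac (mulF (F := F) J f k₁), postA_comp, ← hz, ← postA_comp,
      imTr_ι, postA_comp, hw, ← postA_comp, π_lvlTr]
  obtain ⟨h, hh⟩ := hSk z
  have hd : postA φ (lvlπ F J k₂) ⊤ q (y - f ^ k₁ • h) = 0 := by
    have e := congrArg (postA φ (lvlTr hJ (le_max_left k₂ m)) ⊤ q) hh
    rw [← postA_comp, ← postA_comp, π_lvlTr, lvlTr_comp] at e
    have e₁ := congrArg (postA φ (lvlTr hJ ((le_max_left k₂ m).trans hk₁)) ⊤ q) h1
    rw [← postA_comp, π_lvlTr, map_smul, e] at e₁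
    rw [map_sub, map_smul, e₁, sub_self]
  have hm : f ^ k₁ ∈ J' m := by
    rw [hJJ']
    exact Ideal.mem_sup_right (Ideal.mem_span_singleton.2
      (pow_dvd_pow f ((le_max_right k₂ m).trans hk₁)))
  rw [← sub_add_cancel y (f ^ k₁ • h)]
  exact add_mem (Submodule.smul_mono_left (hJJ' m ▸ le_sup_left) (hk₂ _ hd))
    (Submodule.smul_mem_smul hm trivial)

end Step

variable [IsNoetherian X] (hF : Coh.IsCoh F) (hfin : ∀ q : ℕ, Module.Finite A (HA (baseHom A X) F (⊤ : X.Opens) q))
include hF hfin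

theorem pro_powsIdeal (s : List A) :
    (∀ q, ProSurj F (powsIdeal s) (powsIdeal_antitone s) q) ∧ ∀ q, ProInj F (powsIdeal s) q := by
  induction s with
  | nil => exact ⟨fun q => proSurj_bot q _, fun q => proInj_bot q⟩
  | cons f s ih =>
    exact ⟨fun q => proSurj_step (powsIdeal_antitone s) f _ (fun n => rfl) hF hfin ih.1 ih.2 q,
      fun q => proInj_step (powsIdeal_antitone s) f (fun n => rfl) hF ih.1 ih.2 q⟩

omit [AlgebraicGeometry.IsNoetherian X] hF hfin in
theorem exists_gens (I : Ideal A) : ∃ s : List A, (∀ f ∈ s, f ∈ I) ∧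
    ∀ n, ∃ N, I ^ N ≤ powsIdeal s n := by
  obtain ⟨S, hS⟩ := (IsNoetherian.noetherian I : I.FG)
  refine ⟨S.toList, fun f hf => hS.le (Submodule.subset_span (Finset.mem_toList.1 hf)), fun n => ?_⟩
  refine Ideal.exists_pow_le_of_le_radical_of_fg ?_ (IsNoetherian.noetherian I)
  refine hS.ge.trans (le_trans ?_ (le_radical_powsIdeal S.toList n))
  exact Submodule.span_mono fun f hf => Finset.mem_toList.2 hf

/-- The kernels to the levels are eventually in `Iᵏ H`. -/
theorem exists_toHHmodPow_ker_le (I : Ideal A) (p k : ℕ) : ∃ N, ∀ x : Coh.HH X F p,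
    Formal.toHHmodPow I F p N x = 0 → x ∈ I ^ k • (⊤ : Submodule A (Coh.HH X F p)) := by
  obtain ⟨s, hs, hpow⟩ := exists_gens I
  obtain ⟨k', hk'⟩ := (pro_powsIdeal hF hfin s).2 p k
  obtain ⟨N, hN⟩ := hpow k'
  refine ⟨N, fun x hx => ?_⟩
  have hkill : Formal.KilledBy (I ^ (N + 1)) (lvl F (powsIdeal s) k') :=
    killedBy_of_le ((Ideal.pow_le_pow_right (Nat.le_succ N)).trans (hN.trans (pow_one _).ge))
      (killedBy_modPow _ 1 F)
  have h0 : postA φ (lvlπ F (powsIdeal s) k') ⊤ p (HHA (A := A) F p x) = 0 := by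
    rw [← π_modPowDesc I (lvlπ F (powsIdeal s) k') hkill, postA_comp, ← HHA_natural]
    refine (congrArg (fun z => postA φ _ ⊤ p (HHA (A := A) (Formal.modPow I (N + 1) F) p z)) hx).trans ?_
    rw [map_zero, map_zero]
  have hz := Submodule.mem_map_of_mem (f := (HHA (A := A) F p).symm.toLinearMap)
    (Submodule.smul_mono_left (powsIdeal_le s hs k) (hk' _ h0))
  rw [Submodule.map_smul'', Submodule.map_top, LinearEquiv.range] at hz
  simpa using hz

/-- The Mittag-Leffler property. -/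
theorem exists_range_subset (I : Ideal A) (p n : ℕ) : ∃ k, ∃ h : n ≤ k,
    ∀ x : Formal.HHmodPow I F p k, ∃ y, Sheaf.H.map ((SheafOfModules.toSheaf X.ringCatSheaf).map
      ((Formal.completion I F).map (homOfLE h).op)) p x = Formal.toHHmodPow I F p n y := by
  obtain ⟨s, hs, hpow⟩ := exists_gens I
  obtain ⟨k', hk', hS⟩ := (pro_powsIdeal hF hfin s).1 p (n + 1)
  obtain ⟨N, hN⟩ := hpow k'
  refine ⟨max n N, le_max_left _ _, fun x => ?_⟩
  let k := max n N
  have hk₁ : Formal.KilledBy (I ^ (k + 1)) (lvl F (powsIdeal s) k') :=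
    killedBy_of_le ((Ideal.pow_le_pow_right ((le_max_right n N).trans (Nat.le_succ k))).trans
      (hN.trans (pow_one _).ge)) (killedBy_modPow _ 1 F)
  have hk₂ : Formal.KilledBy (powsIdeal s (n + 1) ^ 1) (Formal.modPow I (n + 1) F) :=
    killedBy_of_le ((pow_one _).le.trans (powsIdeal_le s hs _)) (killedBy_modPow _ _ F)
  let ψ := modPowDesc (powsIdeal s (n + 1)) (Formal.modPowπ I (n + 1) F) hk₂
  obtain ⟨y, hy⟩ := hS (postA φ (modPowDesc I (lvlπ F (powsIdeal s) k') hk₁) ⊤ p
    (HHA (A := A) (Formal.modPow I (k + 1) F) p x))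
  refine ⟨(HHA (A := A) F p).symm y, (HHA (A := A) (Formal.modPow I (n + 1) F) p).injective ?_⟩
  refine Eq.trans ?_ (HHA_natural F (Formal.modPowπ I (n + 1) F) p _).symm
  rw [LinearEquiv.apply_symm_apply]
  have h2 := congrArg (postA φ ψ ⊤ p) hy
  rw [← postA_comp, ← postA_comp, ← postA_comp, π_modPowDesc] at h2
  refine Eq.trans ?_ h2
  let τ : Formal.modPow I (k + 1) F ⟶ Formal.modPow I (n + 1) F :=
    (Formal.completion I F).map (homOfLE (le_max_left n N)).op
  refine (HHA_natural _ τ p x).trans (congrArg (fun g => postA φ g ⊤ p _) ?_)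
  rw [← cancel_epi (Formal.modPowπ I (k + 1) F), ← Category.assoc, ← Category.assoc, π_modPowDesc,
    π_lvlTr, π_modPowDesc]
  exact modPowπ_completion_map I F (le_max_left n N)

omit [AlgebraicGeometry.IsNoetherian X] [IsNoetherianRing A] hF hfin in
theorem HHmap_map_succ (I : Ideal A) (p : ℕ) {n k : ℕ} (h : n ≤ k) (x : Formal.HHmodPow I F p (k + 1)) :
    Sheaf.H.map ((SheafOfModules.toSheaf X.ringCatSheaf).map
      ((Formal.completion I F).map (homOfLE (Nat.le_succ_of_le h)).op)) p x =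
    Sheaf.H.map ((SheafOfModules.toSheaf X.ringCatSheaf).map
      ((Formal.completion I F).map (homOfLE h).op)) p (Formal.HHmodPowTrans I F p k x) := by
  refine Eq.trans ?_ (Formal.HHmap_comp _ _ p x).symm
  refine congrArg (fun g => Sheaf.H.map ((SheafOfModules.toSheaf _).map g) p x) ?_
  rw [show (homOfLE (Nat.le_succ_of_le h)).op = (homOfLE (Nat.le_succ k)).op ≫ (homOfLE h).op from rfl,
    Functor.map_comp]
  exact congrArg (· ≫ _) (completion_map_succ I F k)

/-- The completion of cohomology is the limit. -/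
theorem complToLim_bijective' (I : Ideal A) (p : ℕ) :
    Function.Bijective (complToLim I F p) := by
  choose N hN using exists_toHHmodPow_ker_le hF hfin I p
  choose K hK hML using exists_range_subset hF hfin I p
  let g : ℕ → ℕ := fun k => k + (Finset.range (k + 1)).sum N
  have hgN : ∀ k, N k ≤ g k := fun k => le_trans
    (Finset.single_le_sum (fun i _ => Nat.zero_le (N i)) (Finset.self_mem_range_succ k)) (Nat.le_add_left _ _)
  have hg : ∀ k, g k ≤ g (k + 1) := fun k => by
    exact add_le_add (Nat.le_succ k)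
      (Finset.sum_le_sum_of_subset (Finset.range_mono (Nat.le_succ _)))
  have hzero : ∀ {n k : ℕ} (_ : n ≤ k) (x : Coh.HH X F p), Formal.toHHmodPow I F p k x = 0 →
      Formal.toHHmodPow I F p n x = 0 := fun {n k} h x hx => by
    rw [← mem_imPow_succ_iff] at hx ⊢
    exact imPow_antitone I F p (Nat.succ_le_succ h) hx
  refine ⟨(injective_iff_map_eq_zero _).2 fun z hz => ?_, fun ξ => ?_⟩
  · obtain ⟨f, rfl⟩ := AdicCompletion.mk_surjective I (Coh.HH X F p) z
    refine AdicCompletion.ext fun k => ?_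
    change (Submodule.Quotient.mk (f k) : _ ⧸ (I ^ k • ⊤ : Submodule A (Coh.HH X F p))) = 0
    rw [Submodule.Quotient.mk_eq_zero]
    have h1 : Formal.toHHmodPow I F p (g k) (f (g k + 1)) = 0 :=
      congrFun (congrArg Subtype.val hz) (g k)
    have h2 := hN k _ (hzero (hgN k) _ h1)
    have h3 := (SModEq.sub_mem).1 (f.2 (show k ≤ g k + 1 from le_trans (Nat.le_add_right _ _) (Nat.le_succ _)))
    simpa using add_mem h3 h2
  · choose y hy using fun n => (hML n (ξ.1 (K n)))
    have hy' : ∀ n, Formal.toHHmodPow I F p n (y n) = ξ.1 n :=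
      fun n => (hy n).symm.trans (HHlim_map I F p ξ (hK n))
    let u : ℕ → Coh.HH X F p := fun k => y (g k)
    have hlow : ∀ {n k : ℕ} (h : n ≤ k), Formal.toHHmodPow I F p n (y k) = ξ.1 n := fun {n k} h => by
      refine ((Formal.HHmap_comp (Formal.modPowπ I (k + 1) F) _ p _).trans
        (congrArg (fun g => Sheaf.H.map ((SheafOfModules.toSheaf _).map g) p (y k))
          (modPowπ_completion_map I F h))).symm.trans ?_
      exact (congrArg _ (hy' k)).trans (HHlim_map I F p ξ h)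
    have hu : ∀ k, u k ≡ u (k + 1) [SMOD (I ^ k • ⊤ : Submodule A (Coh.HH X F p))] := fun k => by
      refine SModEq.sub_mem.2 (hN k _ ?_)
      rw [map_sub, sub_eq_zero]
      exact (hlow (hgN k)).trans (hlow ((hgN k).trans (hg k))).symm
    refine ⟨AdicCompletion.mk I _ (AdicCompletion.AdicCauchySequence.mk I _ u hu),
      Subtype.ext (funext fun n => ?_)⟩
    exact hlow (le_trans (Nat.le_succ n) (Nat.le_add_right _ _))

/-- Vanishing of `R¹ lim`. -/
theorem towerDiff_surjective (I : Ideal A) (p : ℕ) :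
    Function.Surjective (Formal2.towerDiff (fun n => Formal.HHmodPow I F p n)
      fun n => Formal.HHmodPowTrans I F p n) := by
  intro g
  choose K hK hML using exists_range_subset hF hfin I p
  let G := fun n => Formal.HHmodPow I F p n
  let R : ∀ n, AddSubgroup (G n) := fun n => (Formal.toHHmodPow I F p n).range
  let m : ∀ {n k : ℕ} (_ : n ≤ k), G k →+ G n := fun {n k} h =>
    Sheaf.H.map ((SheafOfModules.toSheaf X.ringCatSheaf).map ((Formal.completion I F).map (homOfLE h).op)) p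
  have hRtail : ∀ {n j : ℕ} (h : n ≤ j), K n ≤ j → ∀ x, m h x ∈ R n := fun {n j} h hj x => by
    obtain ⟨y, hy⟩ := hML n (m hj x)
    refine ⟨y, hy.symm.trans ?_⟩
    refine (Formal.HHmap_comp _ _ p x).trans ?_
    exact congrArg (fun g => Sheaf.H.map ((SheafOfModules.toSheaf _).map g) p x)
      ((Formal.completion I F).map_comp (homOfLE hj).op (homOfLE (hK n)).op).symm
  let S : ∀ n, ℕ → G n := fun n d => ∑ i ∈ Finset.range d, m (Nat.le_add_right n i) (g (n + i))
  have hS : ∀ n d d', K n - n ≤ d → d ≤ d' → S n d' - S n d ∈ R n := fun n d d' hd hdd' => by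
    change ∑ i ∈ Finset.range d', _ - ∑ i ∈ Finset.range d, _ ∈ _
    rw [← Finset.sum_Ico_eq_sub _ hdd']
    refine sum_mem fun i hi => hRtail _ ?_ _
    have := (Finset.mem_Ico.1 hi).1
    omega
  let D : ℕ → ℕ := fun n => (Finset.range (n + 1)).sum K
  have hKD : ∀ n, K n ≤ D n := fun n =>
    Finset.single_le_sum (fun i _ => Nat.zero_le (K i)) (Finset.self_mem_range_succ n)
  have hD : ∀ n, D n ≤ D (n + 1) := fun n =>
    Finset.sum_le_sum_of_subset (Finset.range_mono (Nat.le_succ _))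
  let x : ∀ n, G n := fun n => S n (D n)
  have htr : ∀ n d, Formal.HHmodPowTrans I F p n (S (n + 1) d) + g n = S n (d + 1) := fun n d => by
    change _ = ∑ i ∈ Finset.range (d + 1), _
    rw [Finset.sum_range_succ']
    congr 1
    · refine (map_sum _ _ _).trans (Finset.sum_congr rfl fun i _ => ?_)
      have e : n + 1 + i = n + (i + 1) := by omega
      have key : ∀ {j : ℕ} (hj : n + 1 ≤ j) (z : G j), Formal.HHmodPowTrans I F p n (m hj z) =
          m ((Nat.le_succ n).trans hj) z := fun {j} hj z => by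
        refine (Formal.HHmap_comp _ _ p z).trans ?_
        refine congrArg (fun g => Sheaf.H.map ((SheafOfModules.toSheaf _).map g) p z) ?_
        rw [show (homOfLE ((Nat.le_succ n).trans hj)).op = (homOfLE hj).op ≫ (homOfLE (Nat.le_succ n)).op
          from rfl, Functor.map_comp]
        exact congrArg (_ ≫ ·) (completion_map_succ I F n).symm
      have swap : ∀ {j j' : ℕ} (_ : j = j') (h : n ≤ j) (h' : n ≤ j'), m h (g j) = m h' (g j') := by
        rintro j _ rfl h h'; rfl
      exact (key _ _).trans (swap e _ _)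
    · have e : ∀ {j : ℕ} (_ : j = n) (h : n ≤ j), m h (g j) = g n := by
        rintro j rfl h
        change Sheaf.H.map ((SheafOfModules.toSheaf X.ringCatSheaf).map
          ((Formal.completion I F).map (𝟙 (op j)))) p (g j) = g j
        rw [CategoryTheory.Functor.map_id]
        refine (congrArg (fun z => Sheaf.H.map z p (g j))
          ((SheafOfModules.toSheaf X.ringCatSheaf).map_id _)).trans ?_
        exact Sheaf.H.map_id_apply _
      exact (e (Nat.add_zero n) _).symm
  have hres : ∀ n, g n - (x n - Formal.HHmodPowTrans I F p n (x (n + 1))) ∈ R n := fun n => by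
    have h := htr n (D (n + 1))
    rw [show g n - (x n - Formal.HHmodPowTrans I F p n (x (n + 1))) =
        (Formal.HHmodPowTrans I F p n (x (n + 1)) + g n) - x n by abel, h]
    exact hS n _ _ ((Nat.sub_le _ _).trans (hKD n)) ((hD n).trans (Nat.le_succ _))
  choose r hr using hres
  let z : ℕ → Coh.HH X F p := fun n => -∑ i ∈ Finset.range n, r i
  refine ⟨fun n => x n + Formal.toHHmodPow I F p n (z n), funext fun n => ?_⟩
  have hc : ∀ y, Formal.HHmodPowTrans I F p n (Formal.toHHmodPow I F p (n + 1) y) =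
      Formal.toHHmodPow I F p n y := fun y => (Formal.toHHlim I F p y).2 n
  change x n + _ - Formal.HHmodPowTrans I F p n (x (n + 1) + _) = g n
  rw [map_add, hc, show z n = z (n + 1) + r n by simp [z, Finset.sum_range_succ], map_add, hr n]
  abel

omit [AlgebraicGeometry.IsNoetherian X] [IsNoetherianRing A] hF hfin in
theorem complToLim_apply (I : Ideal A) (p n : ℕ) (x : AdicCompletion I (Coh.HH X F p)) (h : Coh.HH X F p)
    (hx : x.1 (n + 1) = Submodule.Quotient.mk h) :
    (complToLim I F p x).1 n = Formal.toHHmodPow I F p n h :=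
  congrArg (QuotientAddGroup.lift (I ^ (n + 1) • (⊤ : Submodule A (Coh.HH X F p))).toAddSubgroup
    (Formal.toHHmodPow I F p n) fun y hy => toHHmodPow_smul_eq_zero I F p n (n + 1) le_rfl y hy) hx

end Groth.Agent.Formal2Lib
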