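import Groth.Agent.Formal2Lib.Torsion

/-!
# Kernels of coherent formal modules
-/

set_option autoImplicit false
set_option backward.isDefEq.respectTransparency false

universe u

open CategoryTheory CategoryTheory.Limits AlgebraicGeometry Opposite TopologicalSpace
open Groth.Agent.Coherent Groth.Agent.Coherent.Serre Groth.Agent.Coherent.Existence

namespace Groth.Agent.Formal2Lib

variable {A : Type u} [CommRing A] [IsNoetherianRing A] {X : Scheme.{u}}
  [X.Over (Spec (CommRingCat.of A))] [IsLocallyNoetherian X] [CompactSpace X] {I : Ideal A}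
  {P G : ℕᵒᵖ ⥤ X.Modules} (hP : Formal.IsCohFormal I P) (hG : Formal.IsCohFormal I G)
  {f : ∀ n, P.obj (op n) ⟶ G.obj (op n)} (hf : Compat f) (he : ∀ n, Epi (f n))

omit [IsNoetherianRing A] [IsLocallyNoetherian X] [CompactSpace X] in
theorem exists_desc_modPowπ {M Z : X.Modules} {n : ℕ} (u : M ⟶ Z)
    (h : ∀ c ∈ I ^ n, Formal.smulMod A M c ≫ u = 0) : ∃ d, Formal.modPowπ I n M ≫ d = u :=
  ⟨cokernel.desc _ u (Sigma.hom_ext _ _ fun c => by
    rw [comp_zero, ← Category.assoc, Serre.ι_smulFamily, h c c.2]), cokernel.π_desc _ _ _⟩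

omit [IsNoetherianRing A] [IsLocallyNoetherian X] [CompactSpace X] in
theorem killedBy_kernel {J : Ideal A} {M N : X.Modules} (u : M ⟶ N) (h : Formal.KilledBy J M) :
    Formal.KilledBy J (kernel u) := fun a ha => by
  rw [← cancel_mono (kernel.ι u), zero_comp, smulMod_natural, h a ha, comp_zero]

section
include hP hG hf he

/-- The successive kernels die modulo the powers of the ideal, uniformly. -/
theorem exists_shift : ∃ b, ∀ j m, b + j ≤ m →
    kernel.ι (kTr hf m) ≫ Formal.modPowπ I j (kernel (f (m + 1))) = 0 := by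
  obtain ⟨r, a, hai⟩ := Submodule.fg_iff_exists_fin_generating_family.1 (IsNoetherian.noetherian I)
  have ha : ∀ i, a i ∈ I := fun i => hai.le (Submodule.subset_span ⟨i, rfl⟩)
  obtain ⟨s, hs⟩ := Groth.Agent.H8Top.exists_finite_affine_cover X
  choose b hb using fun U : s => secEG_qOp hf hP hG ha hai U.1.1 U.1.2
  refine ⟨Finset.univ.sup b, fun j => ?_⟩
  induction j with
  | zero =>
    intro m _
    have h1 := killedBy_modPow I 0 (kernel (f (m + 1))) 1 (by simp)
    rw [smulMod_one] at h1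
    rw [← Category.comp_id (Formal.modPowπ I 0 _), h1, comp_zero, comp_zero]
  | succ j ih =>
    intro m hm
    obtain ⟨k, rfl⟩ : ∃ k, m = k + 1 := ⟨m - 1, by omega⟩
    have hu : ∀ i, ∃ d, Formal.modPowπ I j (kernel (f (k + 1))) ≫ d =
        kPsi hf hP hG k (ha i) ≫ Formal.modPowπ I (j + 1) (kernel (f (k + 1 + 1))) := fun i => by
      refine exists_desc_modPowπ _ fun c hc => ?_
      have := epi_kTr hf hP hG he (k + 1)
      rw [← cancel_epi (kTr hf (k + 1)), comp_zero, ← Category.assoc, ← smulMod_natural, Category.assoc,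
        ← Category.assoc (kTr hf (k + 1)), kTr_kPsi, ← Category.assoc, ← smulMod_mul]
      exact smulMod_modPowπ I _ (by rw [pow_succ']; exact Ideal.mul_mem_mul (ha i) hc)
    choose d hd using hu
    have := (isCoh_kernel_kTr hf hP hG (k + 1)).1
    have := (isCoh_modPow I (isCoh_kernel_map (f := f) hP hG (k + 1 + 1)) (j + 1)).1
    refine hom_eq_zero_of_cover (fun U : s => U.1.1) (fun U => U.1.2)
      (fun x => Opens.mem_iSup.1 (hs.ge (Opens.mem_top x))) _ fun U x => ?_
    obtain ⟨y, rfl⟩ := hb U k ((Finset.le_sup (Finset.mem_univ U)).trans (by omega)) x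
    rw [map_sum]
    refine Finset.sum_eq_zero fun i _ => ?_
    show ((qOp hf hP hG (ha i) k) ≫ kernel.ι _ ≫ Formal.modPowπ I (j + 1) _).app U.1.1 (y i) = 0
    have e : qOp hf hP hG (ha i) k ≫ kernel.ι _ ≫ Formal.modPowπ I (j + 1) _ = 0 := by
      rw [← Category.assoc, qOp_ι, Category.assoc, ← hd i, ← Category.assoc,
        ih k (by omega), zero_comp]
    rw [e]
    rfl

/-- The formal module of the kernels of a levelwise epimorphism, with its inclusion. -/
theorem exists_kernel_of_epi : ∃ (K : ℕᵒᵖ ⥤ X.Modules) (ι : K ⟶ P), Formal.IsCohFormal I K ∧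
    (∀ n, ι.app (op n) ≫ f n = 0) ∧
    (∀ (T : ℕᵒᵖ ⥤ X.Modules), Formal.IsCohFormal I T → ∀ d : T ⟶ K, d ≫ ι = 0 → d = 0) ∧
    ∀ (T : ℕᵒᵖ ⥤ X.Modules), Formal.IsCohFormal I T → ∀ g : T ⟶ P,
      ∀ hg : ∀ n, g.app (op n) ≫ f n = 0,
      ∃ l : T ⟶ K, l ≫ ι = g ∧
        ((∀ n, Epi (kernel.lift (f n) (g.app (op n)) (hg n))) → ∀ n, Epi (l.app (op n))) := by
  obtain ⟨b, hb⟩ := exists_shift hP hG hf he
  let S : ℕᵒᵖ ⥤ X.Modules := Functor.ofOpSequence (X := fun n => kernel (f n)) (kTr hf)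
  have hS : ∀ m, tr S m = kTr hf m := fun m => Functor.ofOpSequence_map_homOfLE_succ _ _
  have hSι : Compat (P := S) (G := P) fun m => kernel.ι (f m) := fun m => by
    rw [hS]; exact kTr_ι hf m
  have hSk : ∀ m, Formal.KilledBy (I ^ (m + 1)) (S.obj (op m)) := fun m =>
    killedBy_kernel (f m) (hP.2.1 m)
  have hSc : ∀ m, Coh.IsCoh (S.obj (op m)) := fun m => isCoh_kernel_map (f := f) hP hG m
  let L : ℕ → ℕ := fun n => b + (n + 1)
  have hL : ∀ n, n ≤ L n := fun n => by change n ≤ b + (n + 1); omega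
  let Kobj : ℕ → X.Modules := fun n => Formal.modPow I (n + 1) (S.obj (op (L n)))
  let π : ∀ n, S.obj (op (L n)) ⟶ Kobj n := fun n => Formal.modPowπ I (n + 1) (S.obj (op (L n)))
  let K : ℕᵒᵖ ⥤ X.Modules := Functor.ofOpSequence (X := Kobj) fun n =>
    modPowDesc I (tr S (L n) ≫ π n)
      (killedBy_of_le (Ideal.pow_le_pow_right (Nat.le_succ _)) (killedBy_modPow I (n + 1) _))
  have hK : ∀ n, π (n + 1) ≫ tr K n = tr S (L n) ≫ π n := fun n =>
    (congrArg (π (n + 1) ≫ ·) (Functor.ofOpSequence_map_homOfLE_succ _ n)).trans (π_modPowDesc _ _ _)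
  have hKle : ∀ {n m : ℕ} (h : n ≤ m), π m ≫ trLE K h = trLE S (Nat.add_le_add_left (Nat.succ_le_succ h) b) ≫ π n := by
    intro n m h
    induction m, h using Nat.le_induction with
    | base =>
      rw [trLE_refl, trLE_refl]
      exact (Category.comp_id _).trans (Category.id_comp _).symm
    | succ m h ih =>
      rw [trLE_succ K h, ← Category.assoc, hK, Category.assoc, ih, ← Category.assoc]
      exact congrArg (· ≫ π n) (trLE_succ S _).symm
  let σ : ∀ n, Kobj n ⟶ S.obj (op n) := fun n => modPowDesc I (trLE S (hL n)) (hSk n)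
  have hσ : ∀ n, π n ≫ σ n = trLE S (hL n) := fun n => π_modPowDesc _ _ _
  have hKσ : ∀ n, σ (L n) ≫ π n = trLE K (hL n) := fun n => by
    refine (cancel_epi (π (L n))).1 ?_
    rw [← Category.assoc, hσ, hKle]
  let ι' : ∀ n, K.obj (op n) ⟶ P.obj (op n) := fun n => σ n ≫ kernel.ι (f n)
  have hιc : Compat ι' := fun n => by
    refine (cancel_epi (π (n + 1))).1 ?_
    show π (n + 1) ≫ tr K n ≫ σ n ≫ kernel.ι (f n) = π (n + 1) ≫ (σ (n + 1) ≫ kernel.ι (f (n + 1))) ≫ tr P n
    rw [reassoc_of% hK n, reassoc_of% hσ n, Category.assoc, ← hSι n, reassoc_of% hσ (n + 1)]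
    rw [← Category.assoc, ← trLE_succ S (hL n), ← Category.assoc]
    exact congrArg (· ≫ kernel.ι (f n)) (trLE_trans S (Nat.le_succ n) (hL (n + 1))).symm
  refine ⟨K, homOfCompat hιc, ⟨fun n => isCoh_modPow I (hSc _) (n + 1),
    fun n => killedBy_modPow I (n + 1) _, fun n => ?_⟩,
    fun n => by
      show (σ n ≫ kernel.ι (f n)) ≫ f n = 0
      rw [Category.assoc, kernel.condition, comp_zero],
    fun T hT d hd => ?_, fun T hT g hg => ?_⟩
  · -- the levels are the reductions of one another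
    have hk : Formal.KilledBy (I ^ (n + 1)) (K.obj (op n)) := killedBy_modPow I (n + 1) _
    have h0 : Formal.smulFamily (I ^ (n + 1)) (K.obj (op (n + 1))) ≫ tr K n = 0 :=
      Sigma.hom_ext _ _ fun c => by
        rw [comp_zero, ← Category.assoc, Serre.ι_smulFamily, smulMod_natural, hk c c.2, comp_zero]
    let Q := cokernel (Formal.smulFamily (I ^ (n + 1)) (K.obj (op (n + 1))))
    let q : K.obj (op (n + 1)) ⟶ Q := cokernel.π _
    have hQ : Formal.KilledBy (I ^ (n + 1)) Q := fun a ha => by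
      rw [← cancel_epi q, comp_zero, ← smulMod_natural, ← Serre.ι_smulFamily (I ^ (n + 1)) _ ⟨a, ha⟩,
        Category.assoc, cokernel.condition, comp_zero]
    let w := modPowDesc I (π (n + 1) ≫ q) hQ
    have hw : Formal.modPowπ I (n + 1) (S.obj (op (L (n + 1)))) ≫ w = π (n + 1) ≫ q := π_modPowDesc _ _ _
    have := epi_kTr hf hP hG he (L n)
    have hz : kernel.ι (kTr hf (L n)) ≫ π (n + 1) ≫ q = 0 := by
      rw [← hw, ← Category.assoc]
      refine (congrArg (· ≫ w) (hb (n + 1) (L n) le_rfl)).trans zero_comp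
    let d : S.obj (op (L n)) ⟶ Q := Abelian.epiDesc (kTr hf (L n)) _ hz
    have hd : tr S (L n) ≫ d = π (n + 1) ≫ q := by
      rw [hS]; exact Abelian.comp_epiDesc _ _ _
    refine ⟨h0, modPowDesc I d hQ, ?_, ?_⟩
    · refine (cancel_epi q).1 ?_
      rw [Category.comp_id, ← Category.assoc]
      refine (congrArg (· ≫ modPowDesc I d hQ) (cokernel.π_desc _ _ _)).trans ?_
      refine (cancel_epi (π (n + 1))).1 ?_
      rw [← Category.assoc, hK, Category.assoc, π_modPowDesc, hd]
    · have : Epi (tr S (L n)) := by rw [hS]; infer_instance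
      refine (cancel_epi (π n)).1 ((cancel_epi (tr S (L n))).1 ?_)
      refine Eq.trans ?_ (congrArg (tr S (L n) ≫ ·) (Category.comp_id (π n)).symm)
      rw [← Category.assoc (π n), π_modPowDesc, ← Category.assoc, hd,
        Category.assoc, cokernel.π_desc]
      exact hK n
  · refine NatTrans.ext (funext fun k => ?_)
    obtain ⟨n⟩ := k
    all_goals
      have hz : d.app (op (L n)) ≫ σ (L n) = 0 := by
        rw [← cancel_mono (kernel.ι (f (L n))), zero_comp, Category.assoc]
        exact congrArg (fun t : T ⟶ P => t.app (op (L n))) hd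
      have := epi_trLE hT (hL n)
      refine (cancel_epi (trLE T (hL n))).1 ?_
      rw [(compat_app d).trLE_comp (hL n), ← hKσ, reassoc_of% hz, zero_comp]
      exact comp_zero.symm
  · let l₀ : ∀ m, T.obj (op m) ⟶ S.obj (op m) := fun m => kernel.lift (f m) _ (hg m)
    have hl₀ : Compat l₀ := fun m => by
      refine (cancel_mono (kernel.ι (f m))).1 ?_
      refine ((Category.assoc _ _ _).trans ((congrArg (tr T m ≫ ·) (kernel.lift_ι _ _ _)).trans (compat_app g m))).trans ?_
      refine Eq.trans ?_ (Category.assoc _ _ _).symm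
      refine Eq.trans ?_ (congrArg (l₀ (m + 1) ≫ ·) (hSι m)).symm
      exact (congrArg (· ≫ tr P m) (kernel.lift_ι _ _ _).symm).trans (Category.assoc _ _ _)
    choose l hl using fun n =>
      exists_desc_trLE hT (hL n) (killedBy_modPow I (n + 1) _) (l₀ (L n) ≫ π n)
    have hlc : Compat (P := T) (G := K) l := fun n => by
      have := epi_trLE hT (hL (n + 1))
      refine (cancel_epi (trLE T (hL (n + 1)))).1 ?_
      rw [← Category.assoc, trLE_trans T (Nat.le_succ n) (hL (n + 1)),
        ← trLE_trans T (hL n) (Nat.le_succ (L n)), Category.assoc]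
      refine (congrArg (trLE T (Nat.le_succ (L n)) ≫ ·) (hl n)).trans ?_
      rw [← Category.assoc, (show trLE T (Nat.le_succ (L n)) ≫ l₀ (L n) = _ from hl₀ (L n)),
        Category.assoc, ← hK, ← Category.assoc]
      exact (congrArg (· ≫ tr K n) (hl (n + 1)).symm).trans (Category.assoc _ _ _)
    refine ⟨homOfCompat hlc, NatTrans.ext (funext fun k => ?_), fun hepi n => ?_⟩
    · obtain ⟨n⟩ := k
      all_goals
        have := epi_trLE hT (hL n)
        refine (cancel_epi (trLE T (hL n))).1 ?_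
        show trLE T (hL n) ≫ l n ≫ σ n ≫ kernel.ι (f n) = _
        rw [reassoc_of% hl n, reassoc_of% hσ n]
        refine ((Category.assoc _ _ _).symm.trans
          (congrArg (· ≫ kernel.ι (f n)) (hl₀.trLE_comp (hL n)).symm)).trans ?_
        exact (Category.assoc _ _ _).trans (congrArg (trLE T (hL n) ≫ ·) (kernel.lift_ι _ _ _))
    · have := hepi (L n)
      have : Epi (π n) := inferInstanceAs (Epi (Formal.modPowπ I (n + 1) _))
      have : Epi (trLE T (hL n) ≫ l n) := by rw [hl]; exact epi_comp (l₀ (L n)) (π n)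
      exact epi_of_epi (trLE T (hL n)) (l n)

end

include hP hG hf in
/-- Every morphism of coherent formal modules has a kernel. -/
theorem exists_kernel : ∃ (K : ℕᵒᵖ ⥤ X.Modules) (ι : K ⟶ P), Formal.IsCohFormal I K ∧
    (∀ n, ι.app (op n) ≫ f n = 0) ∧
    ∀ (T : ℕᵒᵖ ⥤ X.Modules), Formal.IsCohFormal I T → ∀ g : T ⟶ P,
      (∀ n, g.app (op n) ≫ f n = 0) → ∃! l : T ⟶ K, l ≫ ι = g := by
  have hQ := isCohFormal_cokerSys hf hP hG
  obtain ⟨J, j, hJ, -, hJu, hJl⟩ := exists_kernel_of_epi hG hQ (f := fun n => cokernel.π (f n))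
    (compat_cokerπ hf) fun n => inferInstance
  obtain ⟨f', hf', hf'e⟩ := hJl P hP (homOfCompat hf) fun n => cokernel.condition (f n)
  have he' : ∀ n, Epi (f'.app (op n)) := hf'e fun n => inferInstanceAs (Epi (Abelian.factorThruImage (f n)))
  obtain ⟨K, ι, hK, hι, hKu, hKl⟩ := exists_kernel_of_epi hP hJ (compat_app f') he'
  have hfac : ∀ n, f'.app (op n) ≫ j.app (op n) = f n := fun n =>
    congrArg (fun t : P ⟶ G => t.app (op n)) hf'
  refine ⟨K, ι, hK, fun n => by rw [← hfac, reassoc_of% hι n, zero_comp], fun T hT g hg => ?_⟩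
  have hg' : g ≫ f' = 0 := hJu T hT _ (by
    rw [Category.assoc, hf']
    exact NatTrans.ext (funext fun k => hg k.unop))
  obtain ⟨l, hl, -⟩ := hKl T hT g fun n => congrArg (fun t : T ⟶ J => t.app (op n)) hg'
  refine ⟨l, hl, fun l' hl' => sub_eq_zero.1 (hKu T hT _ ?_)⟩
  rw [Preadditive.sub_comp, hl', hl, sub_self]

end Groth.Agent.Formal2Lib
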