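import Groth.Agent.Coherent.Existence.ModSystem
import Groth.Agent.Coherent.PullUnit
import Groth.Prelude.Def_FSch2

/-!
# A module whose completion is a system of modules algebraizes that system, compatibly
-/

set_option autoImplicit false
set_option backward.isDefEq.respectTransparency false

universe u

open CategoryTheory CategoryTheory.Limits AlgebraicGeometry Opposite TopologicalSpace
open Groth.Agent.Coherent Groth.Agent.Coherent.Serre Groth.Agent.Coherent.Existence

namespace Groth.Agent.Formal2Lib.ModSysAlgz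

variable {P Q X : Scheme.{u}}

/-- Transposes of compatible maps into direct images are compatible. -/
theorem transpose_comm {a : P ⟶ X} {b : Q ⟶ X} {t : P ⟶ Q} (h : t ≫ b = a) {F : X.Modules} {N : Q.Modules}
    {N' : P.Modules} (ψ : (Scheme.Modules.pullback t).obj N ⟶ N') (d : F ⟶ (Coh.push b).obj N)
    (d' : F ⟶ (Coh.push a).obj N')
    (hd : d ≫ pushOver a b t h ((Scheme.Modules.pullbackPushforwardAdjunction t).homEquiv N N' ψ) = d') :
    (Scheme.Modules.pullback t).map (((Scheme.Modules.pullbackPushforwardAdjunction b).homEquiv F N).symm d) ≫ ψ =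
      ((Scheme.Modules.pullbackComp t b).app F ≪≫ (Scheme.Modules.pullbackCongr h).app F).hom ≫
        ((Scheme.Modules.pullbackPushforwardAdjunction a).homEquiv F N').symm d' := by
  subst h
  subst hd
  let adb := Scheme.Modules.pullbackPushforwardAdjunction b
  let adt := Scheme.Modules.pullbackPushforwardAdjunction t
  let ada := Scheme.Modules.pullbackPushforwardAdjunction (t ≫ b)
  let x := (Scheme.Modules.pullback t).map ((adb.homEquiv F N).symm d) ≫ ψ
  have hc : (Scheme.Modules.pullbackCongr (rfl : t ≫ b = t ≫ b)).hom.app F = 𝟙 _ := rfl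
  have hp : pushOver (t ≫ b) b t rfl (adt.homEquiv N N' ψ) =
      (Coh.push b).map (adt.homEquiv N N' ψ) ≫ (Scheme.Modules.pushforwardComp t b).hom.app N' := by
    refine congrArg ((Coh.push b).map (adt.homEquiv N N' ψ) ≫ ·) ?_
    refine (congrArg ((Scheme.Modules.pushforwardComp t b).hom.app N' ≫ ·) ?_).trans (Category.comp_id _)
    refine Scheme.Modules.hom_ext _ _ fun U => ?_
    rw [Scheme.Modules.pushforwardCongr_hom_app_app]
    exact N'.presheaf.map_id _
  have key : ada.homEquiv F N' ((Scheme.Modules.pullbackComp t b).inv.app F ≫ x) =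
      d ≫ pushOver (t ≫ b) b t rfl (adt.homEquiv N N' ψ) := by
    rw [Adjunction.homEquiv_unit, Functor.map_comp, ← Category.assoc]
    have e := unit_conjugateEquiv (adb.comp adt) ada (Scheme.Modules.pullbackComp t b).inv F
    rw [Scheme.Modules.conjugateEquiv_pullbackComp_inv] at e
    refine (congrArg (· ≫ (Scheme.Modules.pushforward (t ≫ b)).map x) e.symm).trans ?_
    refine (Category.assoc _ _ _).trans ?_
    refine (congrArg ((adb.comp adt).unit.app F ≫ ·)
      ((Scheme.Modules.pushforwardComp t b).hom.naturality x).symm).trans ?_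
    refine (Category.assoc _ _ _).symm.trans ?_
    refine Eq.trans ?_ ((congrArg (d ≫ ·) hp).trans (Category.assoc _ _ _).symm).symm
    refine congrArg (· ≫ (Scheme.Modules.pushforwardComp t b).hom.app N') ?_
    refine Eq.trans ((Adjunction.homEquiv_unit (adj := adb.comp adt) (f := x)).symm) ?_
    rw [Adjunction.comp_homEquiv]
    show adb.homEquiv F _ (adt.homEquiv _ N' ((Scheme.Modules.pullback t).map ((adb.homEquiv F N).symm d) ≫ ψ)) = _
    rw [Adjunction.homEquiv_naturality_left, Adjunction.homEquiv_naturality_right, Equiv.apply_symm_apply]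
  rw [Iso.trans_hom, Iso.app_hom, Iso.app_hom, hc, Category.comp_id, ← key, Equiv.symm_apply_apply,
    ← Category.assoc, Iso.hom_inv_id_app]
  exact (Category.id_comp _).symm

section General

variable {A : Type u} [CommRing A] {J : Ideal A} {S : AdicSys J} (M : AdicMod S) {U : Scheme.{u}}
  [U.Over (Spec (CommRingCat.of A))] (w : ∀ n, S.X n ⟶ U) (ht : ∀ n, S.i n ≫ w (n + 1) = w n)

/-- The comparison maps are compatible isomorphisms. -/
theorem exists_compat_iso [IsNoetherianRing A] [IsLocallyNoetherian U] [∀ n, IsClosedImmersion (w n)]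
    (hw : ∀ n, w n ≫ (U ↘ Spec (CommRingCat.of A)) = S.s n) {F : U.Modules}
    (e : Formal.completion J F ≅ modSys M w ht) :
    ∃ φ : ∀ n, (Scheme.Modules.pullback (w n)).obj F ≅ M.F n,
      ∀ n, (Scheme.Modules.pullback (S.i n)).map (φ (n + 1)).hom ≫ (M.ψ n).hom =
        ((Scheme.Modules.pullbackComp (S.i n) (w (n + 1))).app F ≪≫
          (Scheme.Modules.pullbackCongr (ht n)).app F).hom ≫ (φ n).hom := by
  let ad := fun n => Scheme.Modules.pullbackPushforwardAdjunction (w n)
  let d : ∀ n, F ⟶ (Coh.push (w n)).obj (M.F n) := fun n => Formal.modPowπ J (n + 1) F ≫ e.hom.app (op n)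
  have hd : ∀ n, d (n + 1) ≫ pushOver (w n) (w (n + 1)) (S.i n) (ht n) (M.tr n) = d n := fun n => by
    have h1 := e.hom.naturality (homOfLE (Nat.le_succ n)).op
    rw [show (Formal.completion J F).map (homOfLE (Nat.le_succ n)).op = Formal.modPowTrans J (n + 1) F from
      Functor.ofOpSequence_map_homOfLE_succ _ _,
      show (modSys M w ht).map (homOfLE (Nat.le_succ n)).op =
        pushOver (w n) (w (n + 1)) (S.i n) (ht n) (M.tr n) from
        Functor.ofOpSequence_map_homOfLE_succ _ _] at h1
    refine (Category.assoc _ _ _).trans ((congrArg (Formal.modPowπ J (n + 1 + 1) F ≫ ·) h1.symm).trans ?_)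
    exact (Category.assoc _ _ _).symm.trans (congrArg (· ≫ e.hom.app (op n)) (Formal.modPowπ_trans J (n + 1) F))
  have hφ : ∀ n, IsIso (((ad n).homEquiv F (M.F n)).symm (d n)) := fun n => by
    let P' := Scheme.Modules.pullback (w n)
    let π := Formal.modPowπ J (n + 1) F
    let b' : Formal.modPow J (n + 1) F ⟶ (Coh.push (w n)).obj (P'.obj F) :=
      modPowDesc J ((ad n).unit.app F) (killedBy_push' (A := A) (p := w n) (hw n) (S.killedBy n (P'.obj F)))
    let b : P'.obj (Formal.modPow J (n + 1) F) ⟶ P'.obj F := ((ad n).homEquiv _ (P'.obj F)).symm b'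
    have hb : P'.map π ≫ b = 𝟙 (P'.obj F) := by
      refine ((ad n).homEquiv_naturality_left_symm π b').symm.trans ?_
      rw [Equiv.symm_apply_eq, Adjunction.homEquiv_id]
      exact π_modPowDesc J _ _
    have : Epi (P'.map π) := by
      have := Adjunction.leftAdjoint_preservesColimits.{0, 0} (ad n)
      infer_instance
    have : IsSplitMono (P'.map π) := ⟨⟨⟨b, hb⟩⟩⟩
    have : IsIso (P'.map π) := isIso_of_epi_of_isSplitMono _
    have hc : IsIso ((ad n).counit.app (M.F n)) := inferInstance
    have h2 : IsIso (((ad n).homEquiv _ (M.F n)).symm (e.hom.app (op n))) := by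
      rw [Adjunction.homEquiv_counit]
      infer_instance
    show IsIso (((ad n).homEquiv F (M.F n)).symm (π ≫ e.hom.app (op n)))
    rw [Adjunction.homEquiv_naturality_left_symm]
    exact IsIso.comp_isIso' ‹IsIso (P'.map π)› h2
  refine ⟨fun n => @asIso _ _ _ _ _ (hφ n), fun n => transpose_comm (ht n) (M.ψ n).hom (d (n + 1)) (d n) ?_⟩
  rw [Adjunction.homEquiv_unit]
  exact hd n

/-- Levelwise isomorphisms compatible with the transition maps form an isomorphism of systems. -/
theorem nonempty_modSysIso {Y : FSch.Sys.{u}} (K L : FSch.ModSys Y) (φ : ∀ n, K.F n ≅ L.F n)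
    (hcomm : ∀ n, (Scheme.Modules.pullback (Y.ι n)).map (φ (n + 1)).hom ≫ (L.e n).hom = (K.e n).hom ≫ (φ n).hom) :
    Nonempty (K ≅ L) := by
  have hcomm' : ∀ n, (Scheme.Modules.pullback (Y.ι n)).map (φ (n + 1)).inv ≫ (K.e n).hom =
      (L.e n).hom ≫ (φ n).inv := fun n => by
    rw [Iso.eq_comp_inv, Category.assoc, ← hcomm, ← Category.assoc, ← Functor.map_comp, Iso.inv_hom_id,
      CategoryTheory.Functor.map_id, Category.id_comp]
  exact ⟨⟨⟨fun n => (φ n).hom, hcomm⟩, ⟨fun n => (φ n).inv, hcomm'⟩,
    FSch.ModSys.Hom.ext (funext fun n => Iso.hom_inv_id (φ n)),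
    FSch.ModSys.Hom.ext (funext fun n => Iso.inv_hom_id (φ n))⟩⟩

end General

section Pulled

variable {A : Type u} [CommRing A] {J : Ideal A} {U : Scheme.{u}} [U.Over (Spec (CommRingCat.of A))]
  {Y : FSch.Sys.{u}}

/-- The pull-backs of a module to a system of schemes over `U`. -/
noncomputable def pullSys (w : ∀ n, Y.X n ⟶ U) (ht : ∀ n, Y.ι n ≫ w (n + 1) = w n) (F : U.Modules) :
    FSch.ModSys Y where
  F n := (Scheme.Modules.pullback (w n)).obj F
  e n := (Scheme.Modules.pullbackComp (Y.ι n) (w (n + 1))).app F ≪≫ (Scheme.Modules.pullbackCongr (ht n)).app F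

/-- The algebraization of a system of modules on an adic system. -/
theorem nonempty_pullSys_iso [IsNoetherianRing A] [IsLocallyNoetherian U] (L : FSch.ModSys Y)
    (s : ∀ k, Y.X k ⟶ Spec (CommRingCat.of A)) (hs : ∀ k, Y.ι k ≫ s (k + 1) = s k)
    (ci : ∀ k, IsClosedImmersion (Y.ι k)) (nil : ∀ k, ∀ a ∈ J ^ (k + 1), Coh.toGlobal (s k) a = 0)
    (kle : ∀ k (V : (Y.X (k + 1)).affineOpens),
      (Y.ι k).ker.ideal V ≤ (J ^ (k + 1)).map (baseFun (s (k + 1)) V.1))
    (w : ∀ n, Y.X n ⟶ U) [∀ n, IsClosedImmersion (w n)] (ht : ∀ n, Y.ι n ≫ w (n + 1) = w n)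
    (hw : ∀ n, w n ≫ (U ↘ Spec (CommRingCat.of A)) = s n) (F : U.Modules)
    (e : Formal.completion J F ≅ modSys (S := ⟨Y.X, Y.ι, s, hs, ci, nil, kle⟩) ⟨L.F, L.e⟩ w ht) :
    Nonempty (pullSys w ht F ≅ L) := by
  let S : AdicSys J := ⟨Y.X, Y.ι, s, hs, ci, nil, kle⟩
  have : ∀ n, IsClosedImmersion (w n : S.X n ⟶ U) := fun n => ‹∀ n, IsClosedImmersion (w n)› n
  obtain ⟨φ, hcomm⟩ := exists_compat_iso (S := S) ⟨L.F, L.e⟩ w ht hw e
  exact nonempty_modSysIso (pullSys w ht F) L φ hcomm

end Pulled

section Completion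

variable {A : Type u} [CommRing A]

/-- An extended ideal, on an affine open. -/
theorem ideal_comap_idealSpec (f : P ⟶ Spec (CommRingCat.of A)) (K : Ideal A) (V : P.affineOpens) :
    ((FSch.idealSpec A K).comap f).ideal V = K.map (baseFun f V.1) := by
  rw [FSchLib.ideal_comap_eq_map f _ V ⟨⊤, isAffineOpen_top _⟩ le_top, FSchLib.idealSpec_ideal_top, Ideal.map_map]
  rfl

variable (J : Ideal A) {U : Scheme.{u}} [U.Over (Spec (CommRingCat.of A))] (I : U.IdealSheafData)
  (hI : I = (FSch.idealSpec A J).comap (U ↘ Spec (CommRingCat.of A)))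

include hI

theorem pow_eq_comap (k : ℕ) :
    I ^ k = (FSch.idealSpec A (J ^ k)).comap (U ↘ Spec (CommRingCat.of A)) := by
  rw [hI, FSchLib.idealSpec_pow, FSchLib.comap_pow]

/-- The thickenings in `U` as an adic system. -/
noncomputable def sys : AdicSys J where
  X := (FSch.completionAlong U I).X
  i := (FSch.completionAlong U I).ι
  s k := FSch.completionToX U I k ≫ (U ↘ Spec (CommRingCat.of A))
  hs k := by
    rw [← Category.assoc]
    exact congrArg (· ≫ _) (Scheme.IdealSheafData.inclusion_subschemeι _)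
  ci k := inferInstanceAs (IsClosedImmersion (Scheme.IdealSheafData.inclusion _))
  nil k a ha := by
    let f := FSch.completionToX U I k
    refine TopCat.Sheaf.eq_of_locally_eq' ((FSch.completionAlong U I).X k).sheaf (fun V : U.affineOpens => f ⁻¹ᵁ V.1) ⊤
      (fun _ => homOfLE le_top) (le_of_eq (FSchLib.iSup_preimage_eq_top f (fun V : U.affineOpens => V) (iSup_affineOpens_eq_top U)).symm) _ _ fun V => ?_
    show baseFun (f ≫ (U ↘ Spec (CommRingCat.of A))) (f ⁻¹ᵁ V.1) a = ((FSch.completionAlong U I).X k).presheaf.map _ 0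
    rw [map_zero, ← app_baseFun f (U ↘ Spec (CommRingCat.of A)) _ rfl V.1 a, ← RingHom.mem_ker,
      ← Scheme.Hom.ker_apply, Scheme.IdealSheafData.ker_subschemeι, pow_eq_comap J I hI (k + 1),
      ideal_comap_idealSpec]
    exact Ideal.mem_map_of_mem _ ha
  ker_le k V := by
    refine le_of_eq ?_
    have : IsClosedImmersion ((FSch.completionAlong U I).ι k) :=
      inferInstanceAs (IsClosedImmersion (Scheme.IdealSheafData.inclusion _))
    rw [FSchLib.ker_eq_comap_ker_comp ((FSch.completionAlong U I).ι k) (FSch.completionToX U I (k + 1)),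
      show (FSch.completionAlong U I).ι k ≫ FSch.completionToX U I (k + 1) = FSch.completionToX U I k from
        Scheme.IdealSheafData.inclusion_subschemeι _, Scheme.IdealSheafData.ker_subschemeι,
      pow_eq_comap J I hI (k + 1), ← Scheme.IdealSheafData.comap_comp, ideal_comap_idealSpec]

/-- A system of modules on the completion as a module on the adic system. -/
noncomputable def amod (𝔐 : FSch.ModSys (FSch.completionAlong U I)) : AdicMod (sys J I hI) where
  F := 𝔐.F
  ψ := 𝔐.e

theorem sys_comm (k : ℕ) :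
    (sys J I hI).i k ≫ FSch.completionToX U I (k + 1) = FSch.completionToX U I k :=
  Scheme.IdealSheafData.inclusion_subschemeι _

instance sys_closedImm (k : ℕ) : IsClosedImmersion (FSch.completionToX U I k) :=
  inferInstanceAs (IsClosedImmersion (I ^ (k + 1)).subschemeι)

/-- The formal module of a system of modules on the completion. -/
noncomputable abbrev formalMod (𝔐 : FSch.ModSys (FSch.completionAlong U I)) : ℕᵒᵖ ⥤ U.Modules :=
  modSys (amod J I hI 𝔐) (fun k => (FSch.completionToX U I k : (sys J I hI).X k ⟶ U)) (sys_comm J I hI)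

theorem isCohFormal_formalMod [IsNoetherianRing A] [IsLocallyNoetherian U] (𝔐 : FSch.ModSys (FSch.completionAlong U I))
    (h : 𝔐.IsCoh) : Formal.IsCohFormal J (formalMod J I hI 𝔐) := by
  have : ∀ n, IsClosedImmersion (FSch.completionToX U I n : (sys J I hI).X n ⟶ U) := fun n => sys_closedImm I n
  exact isCohFormal_modSys (amod J I hI 𝔐) _ (sys_comm J I hI) (fun n => rfl) h

/-- A coherent module with the completion `formalMod 𝔐` algebraizes `𝔐`. -/
theorem nonempty_iso_completionMod [IsNoetherianRing A] [IsLocallyNoetherian U]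
    (𝔐 : FSch.ModSys (FSch.completionAlong U I)) (F : U.Modules)
    (e : Formal.completion J F ≅ formalMod J I hI 𝔐) :
    Nonempty (FSch.completionMod I F ≅ 𝔐) := by
  have : ∀ n, IsClosedImmersion (FSch.completionToX U I n : (sys J I hI).X n ⟶ U) := fun n => sys_closedImm I n
  have : ∀ n, IsClosedImmersion (FSch.completionToX U I n) := fun n => sys_closedImm I n
  exact nonempty_pullSys_iso 𝔐 (sys J I hI).s (sys J I hI).hs (sys J I hI).ci (sys J I hI).nil (sys J I hI).ker_le
    (FSch.completionToX U I) (sys_comm J I hI) (fun n => rfl) F e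

end Completion

end Groth.Agent.Formal2Lib.ModSysAlgz
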