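import Groth.Agent.Coherent.Existence.AffineLimit

/-!
# Sections of a formal module killed by a power of the ideal
-/

set_option autoImplicit false
set_option backward.isDefEq.respectTransparency false
set_option maxHeartbeats 400000

universe u

open CategoryTheory CategoryTheory.Limits AlgebraicGeometry Opposite TopologicalSpace
open Groth.Agent.Coherent Groth.Agent.Coherent.Serre Groth.Agent.Coherent.Existence
open Groth.Agent.PicLib Groth.Agent.AmpleLib

namespace Groth.Agent.Formal2Lib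

attribute [local instance] hasFiniteBiproducts

section Algebra

variable {R : Type u} [CommRing R] [IsNoetherianRing R] {L : Type u} [AddCommGroup L] [Module R L]
  [Module.Finite R L] (J : Ideal R) {r : ℕ} (g : Fin r → R)

theorem exists_colon : ∃ c, ∀ m, ∀ w : L, (∀ j, g j • w ∈ J ^ (m + c) • (⊤ : Submodule R L)) →
    ∃ w₁ ∈ J ^ m • (⊤ : Submodule R L), ∀ j, g j • (w - w₁) = 0 := by
  let μ : L →ₗ[R] Fin r → L := LinearMap.pi fun j => LinearMap.lsmul R L (g j)
  obtain ⟨c, hc⟩ := exists_pow_inf_le J (LinearMap.range μ)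
  refine ⟨c, fun m w hw => ?_⟩
  have h1 : μ w ∈ J ^ m • LinearMap.range μ := hc m ⟨pi_mem_smul _ _ hw, ⟨w, rfl⟩⟩
  rw [LinearMap.range_eq_map, ← Submodule.map_smul''] at h1
  obtain ⟨w₁, hw₁, e⟩ := h1
  refine ⟨w₁, hw₁, fun j => ?_⟩
  rw [smul_sub, sub_eq_zero]
  exact (congrFun e j).symm

theorem exists_disjoint {s : ℕ} (hg : J ^ s ≤ Ideal.span (Set.range g)) :
    ∃ N, ∀ w ∈ J ^ N • (⊤ : Submodule R L), (∀ j, g j • w = 0) → w = 0 := by
  let K : Submodule R L :=
    LinearMap.ker (LinearMap.pi fun j => LinearMap.lsmul R L (g j) : L →ₗ[R] Fin r → L)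
  obtain ⟨c, hc⟩ := exists_pow_inf_le J K
  have hK : J ^ s • K ≤ ⊥ := Submodule.smul_le.2 fun a ha k hk => by
    rw [Submodule.mem_bot]
    have hz : ∀ x ∈ Ideal.span (Set.range g), x • k = 0 := fun x hx => by
      induction hx using Submodule.span_induction with
      | mem x hx => obtain ⟨j, rfl⟩ := hx; exact congrFun (LinearMap.mem_ker.1 hk) j
      | zero => rw [zero_smul]
      | add a b _ _ iha ihb => rw [add_smul, iha, ihb, add_zero]
      | smul t a _ iha => rw [smul_assoc, iha, smul_zero]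
    exact hz a (hg ha)
  exact ⟨s + c, fun w hw hw0 =>
    (Submodule.mem_bot R).1 (hK (hc s ⟨hw, LinearMap.mem_ker.2 (funext hw0)⟩))⟩

end Algebra

variable {A : Type u} [CommRing A] [IsNoetherianRing A] {X : Scheme.{u}}
  [X.Over (Spec (CommRingCat.of A))] [IsLocallyNoetherian X] {I : Ideal A}
  {G : ℕᵒᵖ ⥤ X.Modules} (hG : Formal.IsCohFormal I G)

include hG in
/-- Deep sections killed by `I^s` die along the transition maps, on an affine open. -/
theorem exists_level_affine (U : X.Opens) (hU : IsAffineOpen U) {s r : ℕ} (g : Fin r → A)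
    (hg : I ^ s ≤ Ideal.span (Set.range g)) :
    ∃ N c, ∀ n m (hn : n ≤ m) (hN : N ≤ m), n + N + c ≤ m → ∀ a : Γ(G.obj (op m), U),
      (∀ j, (Formal.smulMod A (G.obj (op m)) (g j)).app U a = 0) →
      (trLE G hN).app U a = 0 → (trLE G hn).app U a = 0 := by
  have := isNoetherianRing_cpl (I := I) U hU
  have := (finite_lim_and_ker hG U hU).1
  have hmem := (finite_lim_and_ker hG U hU).2
  let χ : A →+* Γ(X, U) := rmap (le_top : U ≤ ⊤) |>.comp (baseHom A X)
  let g' : Fin r → Cpl I U := fun j => algebraMap Γ(X, U) (Cpl I U) (χ (g j))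
  have hg' : cplIdeal I U ^ s ≤ Ideal.span (Set.range g') := by
    have e : openIdeal I U ^ s = (I ^ s).map χ := by delta openIdeal; exact (Ideal.map_pow χ I s).symm
    rw [cplIdeal, ← Ideal.map_pow]
    refine (Ideal.map_mono e.le).trans ?_
    rw [Ideal.map_map]
    refine (Ideal.map_mono hg).trans ?_
    rw [Ideal.map_span, ← Set.range_comp]
    exact le_rfl
  obtain ⟨N, hN⟩ := exists_disjoint (L := lim hG U) (cplIdeal I U) g' hg'
  obtain ⟨c, hc⟩ := exists_colon (L := lim hG U) (cplIdeal I U) g'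
  refine ⟨N, c, fun n m hn hNm hm a hga haN => ?_⟩
  obtain ⟨x, hx⟩ := lim_proj_surjective hG U hU m a
  have h1 : x ∈ cplIdeal I U ^ (N + 1) • (⊤ : Submodule (Cpl I U) (lim hG U)) :=
    (hmem N x).1 (by rw [← lim_trLE hG U x hNm, hx]; exact haN)
  have h2 : ∀ j, g' j • x ∈ cplIdeal I U ^ (m + 1 - c + c) • (⊤ : Submodule (Cpl I U) (lim hG U)) := by
    intro j
    rw [Nat.sub_add_cancel (by omega : c ≤ m + 1)]
    refine (hmem m _).1 ?_
    change g' j • (show Lev hG U m from x.1 m) = 0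
    rw [hx]
    refine (IsScalarTower.algebraMap_smul (Cpl I U) (χ (g j)) (show Lev hG U m from a)).trans ?_
    exact (smulMod_app _ (g j) U a).symm.trans (hga j)
  obtain ⟨w₁, hw₁, hw⟩ := hc _ x h2
  have h3 : x - w₁ ∈ cplIdeal I U ^ N • (⊤ : Submodule (Cpl I U) (lim hG U)) :=
    sub_mem (Submodule.smul_mono_left (Ideal.pow_le_pow_right (by omega)) h1)
      (Submodule.smul_mono_left (Ideal.pow_le_pow_right (by omega)) hw₁)
  have h4 : x = w₁ := sub_eq_zero.1 (hN _ h3 hw)
  rw [← hx, lim_trLE hG U x hn, h4]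
  exact (hmem n w₁).2 (Submodule.smul_mono_left (Ideal.pow_le_pow_right (by omega)) hw₁)

include hG in
/-- Deep sections killed by `I^s` die along the transition maps. -/
theorem exists_level [CompactSpace X] {s r : ℕ} (g : Fin r → A)
    (hg : I ^ s ≤ Ideal.span (Set.range g)) :
    ∃ N, ∀ n, ∃ (m : ℕ) (hn : n ≤ m) (hN : N ≤ m), ∀ {T : X.Modules} (x : T ⟶ G.obj (op m)),
      (∀ j, x ≫ Formal.smulMod A (G.obj (op m)) (g j) = 0) → x ≫ trLE G hN = 0 →
      x ≫ trLE G hn = 0 := by
  obtain ⟨S, hS⟩ := Groth.Agent.H8Top.exists_finite_affine_cover X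
  choose N c h using fun U : S => exists_level_affine hG U.1.1 U.1.2 g hg
  let N₀ := Finset.univ.sup N
  let c₀ := Finset.univ.sup c
  refine ⟨N₀, fun n => ⟨n + N₀ + c₀, by omega, by omega, fun {T} x hx hxN => ?_⟩⟩
  let Φ := biprod.lift (biproduct.lift fun j => Formal.smulMod A (G.obj (op (n + N₀ + c₀))) (g j))
    (trLE G (show N₀ ≤ n + N₀ + c₀ by omega))
  have hΦ : x ≫ Φ = 0 := by
    refine biprod.hom_ext _ _ ?_ ?_
    · refine biproduct.hom_ext _ _ fun j => ?_
      simpa [Φ] using hx j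
    · simpa [Φ] using hxN
  have hcohG := hG.1 (n + N₀ + c₀)
  have hK : Coh.IsQCoh (kernel Φ) := by
    refine (isCoh_kernel Φ hcohG ?_).1
    exact (isCoh_biprod (isCoh_biproduct (fun _ : Fin r => G.obj (op (n + N₀ + c₀))) fun _ => hcohG)
      (hG.1 N₀)).1
  have := (hG.1 n).1
  have key : kernel.ι Φ ≫ trLE G (show n ≤ n + N₀ + c₀ by omega) = 0 := by
    refine hom_eq_zero_of_cover (fun U : S => U.1.1) (fun U => U.1.2)
      (fun y => Opens.mem_iSup.1 (hS.ge (Opens.mem_top y))) _ fun U a => ?_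
    rw [comp_app_eq]
    have hk := kernel.condition Φ
    have hNU : N U ≤ N₀ := Finset.le_sup (Finset.mem_univ U)
    have hcU : c U ≤ c₀ := Finset.le_sup (Finset.mem_univ U)
    refine h U n (n + N₀ + c₀) (by omega) (by omega) (by omega) _ (fun j => ?_) ?_
    · have e : kernel.ι Φ ≫ Formal.smulMod A (G.obj (op (n + N₀ + c₀))) (g j) = 0 := by
        rw [show Formal.smulMod A (G.obj (op (n + N₀ + c₀))) (g j) =
          Φ ≫ biprod.fst ≫ biproduct.π _ j by simp [Φ], kernel.condition_assoc, zero_comp]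
      rw [← comp_app_eq, app_congr e]; rfl
    · have e : kernel.ι Φ ≫ trLE G (show N₀ ≤ n + N₀ + c₀ by omega) = 0 := by
        rw [show trLE G (show N₀ ≤ n + N₀ + c₀ by omega) = Φ ≫ biprod.snd by simp [Φ],
          kernel.condition_assoc, zero_comp]
      rw [← trLE_trans G hNU (show N₀ ≤ n + N₀ + c₀ by omega), comp_app_eq,
        ← comp_app_eq (kernel.ι Φ), app_congr e]
      exact map_zero _
  rw [← kernel.lift_ι Φ x hΦ, Category.assoc, key, comp_zero]

end Groth.Agent.Formal2Lib
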