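import Groth.Agent.Formal2Lib.Torsion
import Groth.Agent.Formal2Lib.JointKill

/-!
# Coherent formal modules which are completions up to torsion are completions
-/

set_option autoImplicit false
set_option backward.isDefEq.respectTransparency false
set_option maxHeartbeats 800000

universe u

open CategoryTheory CategoryTheory.Limits AlgebraicGeometry Opposite TopologicalSpace
open Groth.Agent.Coherent Groth.Agent.Coherent.Serre Groth.Agent.Coherent.Existence

namespace Groth.Agent.Formal2Lib

attribute [local instance] hasFiniteBiproducts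

variable {A : Type u} [CommRing A] {X : Scheme.{u}} [X.Over (Spec (CommRingCat.of A))] {I : Ideal A}

section Generalities

variable (I) in
theorem smulMod_cm (M : X.Modules) (a : A) (n : ℕ) :
    Formal.smulMod A ((Formal.completion I M).obj (op n)) a = cm I (Formal.smulMod A M a) n := by
  rw [← cancel_epi (cπ I M n), cπ_cm]
  exact (smulMod_natural (cπ I M n) a).symm

theorem killedBy_span {r : ℕ} {g : Fin r → A} {J : Ideal A} (hg : J ≤ Ideal.span (Set.range g))
    {M : X.Modules} (h : ∀ j, Formal.smulMod A M (g j) = 0) : Formal.KilledBy J M := by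
  intro a ha
  have ha' := hg ha
  clear ha
  induction ha' using Submodule.span_induction with
  | mem x hx => obtain ⟨j, rfl⟩ := hx; exact h j
  | zero => exact smulMod_zero M
  | add a b _ _ iha ihb => rw [smulMod_add, iha, ihb, add_zero]
  | smul t a _ iha => rw [smul_eq_mul, smulMod_mul, iha, zero_comp]

theorem killedBy_mul {J K : Ideal A} {M : X.Modules}
    (h : ∀ a ∈ J, ∀ b ∈ K, Formal.smulMod A M (a * b) = 0) : Formal.KilledBy (J * K) M := by
  intro a ha
  refine Submodule.mul_induction_on ha h fun x y hx hy => ?_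
  rw [smulMod_add, hx, hy, add_zero]

/-- A module mapping injectively after multiplication is killed. -/
theorem smul_eq_zero_of_mono {M N : X.Modules} (f : M ⟶ N) [Mono f] (a : A)
    (h : f ≫ Formal.smulMod A N a = 0) : Formal.smulMod A M a = 0 := by
  rw [← cancel_mono f, zero_comp, smulMod_natural, h]

theorem killedBy_completion {J : Ideal A} {M : X.Modules} (h : Formal.KilledBy J M) (n : ℕ) :
    Formal.KilledBy J ((Formal.completion I M).obj (op n)) := fun a ha => by
  rw [smulMod_cm, h a ha, cm_zero]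

theorem cm_sum {ι : Type*} (s : Finset ι) {M N : X.Modules} (f : ι → (M ⟶ N)) (n : ℕ) :
    cm I (∑ i ∈ s, f i) n = ∑ i ∈ s, cm I (f i) n :=
  map_sum (AddMonoidHom.mk' (fun g : M ⟶ N => cm I g n) fun g g' => cm_add I g g' n) f s

theorem cm_biprod_ext {M N T : X.Modules} {n : ℕ} {x y : T ⟶ (Formal.completion I (M ⊞ N)).obj (op n)}
    (h₁ : x ≫ cm I (biprod.fst : M ⊞ N ⟶ M) n = y ≫ cm I biprod.fst n)
    (h₂ : x ≫ cm I (biprod.snd : M ⊞ N ⟶ N) n = y ≫ cm I biprod.snd n) : x = y := by
  have e : 𝟙 _ = cm I (biprod.fst : M ⊞ N ⟶ M) n ≫ cm I biprod.inl n +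
      cm I (biprod.snd : M ⊞ N ⟶ N) n ≫ cm I biprod.inr n := by
    rw [cm_comp, cm_comp, ← cm_add, biprod.total, cm_id]
  rw [← Category.comp_id x, ← Category.comp_id y, e, Preadditive.comp_add, Preadditive.comp_add,
    ← Category.assoc, ← Category.assoc, h₁, h₂, Category.assoc, Category.assoc]

theorem cm_biproduct_ext {ι : Type} [Fintype ι] {F : ι → X.Modules} {T : X.Modules} {n : ℕ}
    {x y : T ⟶ (Formal.completion I (⨁ F)).obj (op n)}
    (h : ∀ i, x ≫ cm I (biproduct.π F i) n = y ≫ cm I (biproduct.π F i) n) : x = y := by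
  classical
  have e : 𝟙 _ = ∑ i, cm I (biproduct.π F i) n ≫ cm I (biproduct.ι F i) n := by
    simp only [cm_comp]
    rw [← cm_sum, biproduct.total, cm_id]
  rw [← Category.comp_id x, ← Category.comp_id y, e, Preadditive.comp_sum, Preadditive.comp_sum]
  exact Finset.sum_congr rfl fun i _ => by rw [← Category.assoc, h i, Category.assoc]

variable {G G' H : ℕᵒᵖ ⥤ X.Modules}

/-- Two coherent formal modules with the same image are isomorphic, compatibly. -/
theorem exists_iso_of_image {α : ∀ n, G'.obj (op n) ⟶ H.obj (op n)}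
    {β : ∀ n, G.obj (op n) ⟶ H.obj (op n)} (hG : Formal.IsCohFormal I G)
    (hG' : Formal.IsCohFormal I G') (hαc : Compat α) (hβc : Compat β) (hα : ARMono α)
    (hβ : ARMono β) (h₁ : ImageIn β α) (h₂ : ImageIn α β) :
    ∃ e : G ≅ G', ∀ n, e.hom.app (op n) ≫ α n = β n := by
  obtain ⟨u, huc, hu⟩ := exists_lift hG hG'.2.1 hαc hβc hα h₁
  obtain ⟨v, hvc, hv⟩ := exists_lift hG' hG.2.1 hβc hαc hβ h₂
  have huv : ∀ n, u n ≫ v n = 𝟙 _ := fun n =>
    eq_of_comp_eq hG hβ (huc.comp hvc) (compat_id G)
      (fun n => by rw [Category.assoc, hv, hu, Category.id_comp]) n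
  have hvu : ∀ n, v n ≫ u n = 𝟙 _ := fun n =>
    eq_of_comp_eq hG' hα (hvc.comp huc) (compat_id G')
      (fun n => by rw [Category.assoc, hu, hv, Category.id_comp]) n
  obtain ⟨e, he⟩ := exists_iso_of_compat huc fun n => ⟨v n, huv n, hvu n⟩
  exact ⟨e, fun n => by rw [he, hu]⟩

variable [IsNoetherianRing A] [IsLocallyNoetherian X] [CompactSpace X]

/-- A family killed by a completed morphism has image in the completed kernel. -/
theorem imageIn_kernel {M M' : X.Modules} (hM : Coh.IsCoh M) (hM' : Coh.IsCoh M') (φ : M ⟶ M')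
    {β : ∀ n, G.obj (op n) ⟶ (Formal.completion I M).obj (op n)} (hβc : Compat β)
    (hβ : ∀ n, β n ≫ cm I φ n = 0) : ImageIn β (cm I (kernel.ι φ)) := by
  have hIm : Coh.IsCoh (Abelian.image φ) := isCoh_kernel _ hM' (isCoh_cokernel φ hM.1 hM').1
  let ρ := cm I (Abelian.factorThruImage φ)
  let ι := cm I (Abelian.image.ι φ)
  have hι : ARMono ι := armono_of_mono I _ hIm hM'
  have hρc : Compat ρ := compat_cm I _
  intro n
  obtain ⟨m, h, h0⟩ := hι n
  refine ⟨m, h, ?_⟩
  have e : (β m ≫ ρ m) ≫ ι m = 0 := by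
    rw [Category.assoc]
    simp only [ρ, ι, cm_comp, Abelian.image.fac, hβ]
  have e2 : (β m ≫ ρ m) ≫ trLE (Formal.completion I (Abelian.image φ)) h = 0 := by
    rw [← kernel.lift_ι (ι m) _ e, Category.assoc, h0, comp_zero]
  obtain ⟨d, hd⟩ : ∃ d, ρ n ≫ d = cokernel.π (cm I (kernel.ι φ) n) := by
    have e3 : kernel.ι (Abelian.factorThruImage φ) ≫ (cπ I M n ≫ cokernel.π (cm I (kernel.ι φ) n)) = 0 := by
      have e5 : kernel.ι (Abelian.factorThruImage φ) ≫ φ = 0 := by
        conv_lhs => arg 2; rw [← Abelian.image.fac φ]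
        rw [kernel.condition_assoc, zero_comp]
      rw [← kernel.lift_ι φ _ e5, Category.assoc, ← Category.assoc (kernel.ι φ), ← cπ_cm,
        Category.assoc, cokernel.condition, comp_zero, comp_zero]
    let d₀ := Abelian.epiDesc (Abelian.factorThruImage φ) _ e3
    have hk : Formal.KilledBy (I ^ (n + 1)) (cokernel (cm I (kernel.ι φ) n)) := fun c hc => by
      rw [← cancel_epi (cokernel.π (cm I (kernel.ι φ) n)), comp_zero, ← smulMod_natural]
      erw [killedBy_modPow I (n + 1) M c hc]
      rw [zero_comp]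
    refine ⟨modPowDesc I d₀ hk, ?_⟩
    refine (cancel_epi (cπ I M n)).1 ?_
    rw [← Category.assoc]
    refine ((congrArg (· ≫ modPowDesc I d₀ hk) (cπ_cm I (Abelian.factorThruImage φ) n)).trans ?_)
    rw [Category.assoc, π_modPowDesc]
    exact Abelian.comp_epiDesc _ _ _
  rw [← hd, hβc.trLE_comp h, Category.assoc, ← Category.assoc (trLE _ h), hρc.trLE_comp h,
    Category.assoc, ← Category.assoc (β m), ← Category.assoc (β m ≫ ρ m), e2, zero_comp]

end Generalities

variable [IsNoetherianRing A] [IsLocallyNoetherian X] [CompactSpace X]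

/-- A coherent formal module mapping to a completion with kernels and cokernels killed by a fixed
power of the ideal, as a completion. -/
theorem exists_kernel_model {F : ℕᵒᵖ ⥤ X.Modules} (hF : Formal.IsCohFormal I F) {G : X.Modules}
    (hG : Coh.IsCoh G) {u : ∀ n, F.obj (op n) ⟶ (Formal.completion I G).obj (op n)}
    (huc : Compat u) {s : ℕ} (hker : ∀ n, Formal.KilledBy (I ^ s) (kernel (u n)))
    (hcok : ∀ n, Formal.KilledBy (I ^ s) (cokernel (u n))) :
    ∃ (MN M' : X.Modules) (c : ℕ) (φ : G ⊞ MN ⟶ M')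
      (γ : ∀ n, F.obj (op n) ⟶ (Formal.completion I MN).obj (op n))
      (e : F ≅ Formal.completion I (kernel φ)),
      Coh.IsCoh MN ∧ Coh.IsCoh M' ∧ Formal.KilledBy (I ^ c) MN ∧ Formal.KilledBy (I ^ c) M' ∧
      Compat γ ∧
      (∀ n, e.hom.app (op n) ≫ cm I (kernel.ι φ) n ≫ cm I biprod.fst n = u n) ∧
      ∀ n, e.hom.app (op n) ≫ cm I (kernel.ι φ) n ≫ cm I biprod.snd n = γ n := by
  obtain ⟨r, g, hg⟩ := Submodule.fg_iff_exists_fin_generating_family.1
    (IsNoetherian.noetherian (I ^ s))
  obtain ⟨N, hN⟩ := exists_level hF g hg.ge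
  let MN := F.obj (op N)
  have hMN : Formal.KilledBy (I ^ (N + 1)) MN := hF.2.1 N
  have hγex : ∀ n, ∃ f : F.obj (op n) ⟶ (Formal.completion I MN).obj (op n),
      trLE F (Nat.le_add_right n N) ≫ f = trLE F (Nat.le_add_left N n) ≫ cπ I MN n := fun n =>
    exists_desc_trLE hF (Nat.le_add_right n N) (killedBy_modPow I (n + 1) MN) _
  choose γ hγ using hγex
  have hγk : ∀ n k (h : n ≤ k) (h' : N ≤ k), trLE F h ≫ γ n = trLE F h' ≫ cπ I MN n := by
    intro n k h h'
    let l := max k (n + N)
    have := epi_trLE hF (le_max_left k (n + N))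
    rw [← cancel_epi (trLE F (le_max_left k (n + N))), ← Category.assoc, trLE_trans,
      ← trLE_trans F (Nat.le_add_right n N) (le_max_right k (n + N)), Category.assoc, hγ,
      ← Category.assoc, trLE_trans, ← Category.assoc, trLE_trans]
  have hγc : Compat (P := F) (G := Formal.completion I MN) γ := fun n => by
    have := epi_trLE hF (Nat.le_add_right (n + 1) N)
    rw [← cancel_epi (trLE F (Nat.le_add_right (n + 1) N)), ← Category.assoc, ← Category.assoc]
    rw [show trLE F (Nat.le_add_right (n + 1) N) ≫ tr F n = trLE F (by omega : n ≤ n + 1 + N) from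
      trLE_trans F (Nat.le_succ n) _]
    rw [hγk n _ _ (Nat.le_add_left N (n + 1)), hγk (n + 1) _ _ (Nat.le_add_left N (n + 1)),
      Category.assoc]
    exact congrArg (trLE F _ ≫ ·) (cπ_trLE I MN (Nat.le_succ n)).symm
  let β : ∀ n, F.obj (op n) ⟶ (Formal.completion I (G ⊞ MN)).obj (op n) :=
    fun n => u n ≫ cm I biprod.inl n + γ n ≫ cm I biprod.inr n
  have hβc : Compat β := fun n => by
    simp only [β, Preadditive.comp_add, Preadditive.add_comp, Category.assoc]
    rw [← compat_cm I (biprod.inl : G ⟶ G ⊞ MN) n, ← compat_cm I (biprod.inr : MN ⟶ G ⊞ MN) n,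
      ← Category.assoc (tr F n), huc n, ← Category.assoc (tr F n), hγc n, Category.assoc,
      Category.assoc]
  have hβ₁ : ∀ n, β n ≫ cm I biprod.fst n = u n := fun n => by
    simp only [β, Preadditive.add_comp, Category.assoc, cm_comp, biprod.inl_fst, biprod.inr_fst,
      cm_id, cm_zero, comp_zero, add_zero, Category.comp_id]
  have hβ₂ : ∀ n, β n ≫ cm I biprod.snd n = γ n := fun n => by
    simp only [β, Preadditive.add_comp, Category.assoc, cm_comp, biprod.inl_snd, biprod.inr_snd,
      cm_id, cm_zero, comp_zero, zero_add, Category.comp_id]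
  have hβ : ARMono β := fun n => by
    obtain ⟨m, hn, hNm, h0⟩ := hN n
    refine ⟨m, hn, h0 _ (fun j => ?_) ?_⟩
    · have e : kernel.ι (β m) ≫ u m = 0 := by
        rw [← hβ₁, kernel.condition_assoc, zero_comp]
      rw [← kernel.lift_ι (u m) _ e, Category.assoc, ← smulMod_natural,
        hker m (g j) (hg.le (Submodule.subset_span ⟨j, rfl⟩)), zero_comp, comp_zero]
    · have e : kernel.ι (β m) ≫ γ m = 0 := by
        rw [← hβ₂, kernel.condition_assoc, zero_comp]
      have := isIso_cπ I (n := m) (killedBy_of_le (Ideal.pow_le_pow_right (by omega)) hMN)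
      rw [← cancel_mono (cπ I MN m), Category.assoc, ← hγk m m le_rfl hNm, trLE_refl,
        Category.id_comp, e, zero_comp]
  have hGM := isCoh_biprod hG (hF.1 N)
  have hQ := isCohFormal_cokerSys hβc hF (isCohFormal_completion I hGM)
  let c := s + (N + 1)
  have hQk : ∀ n, Formal.KilledBy (I ^ c) ((cokerSys hβc).obj (op n)) := by
    intro n
    change Formal.KilledBy (I ^ c) (cokernel (β n))
    rw [show I ^ c = I ^ (N + 1) * I ^ s by rw [← pow_add, Nat.add_comm]]
    refine killedBy_mul fun d hd a ha => ?_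
    let q := cokernel.π (β n)
    have hd0 := killedBy_completion (I := I) hMN n d hd
    let z := cm I (biprod.inl : G ⟶ G ⊞ MN) n ≫ q ≫ Formal.smulMod A (cokernel (β n)) d
    have hinr : cm I (biprod.inr : MN ⟶ G ⊞ MN) n ≫ q ≫ Formal.smulMod A (cokernel (β n)) d = 0 := by
      rw [← smulMod_natural, ← Category.assoc, ← smulMod_natural, hd0, zero_comp, zero_comp]
    have hz : u n ≫ z = 0 := by
      have h3 : β n ≫ q ≫ Formal.smulMod A (cokernel (β n)) d = 0 := by
        rw [← Category.assoc, cokernel.condition, zero_comp]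
      simp only [β, Preadditive.add_comp, Category.assoc, hinr, comp_zero, add_zero] at h3
      exact h3
    let Z := Formal.smulMod A ((Formal.completion I (G ⊞ MN)).obj (op n)) a ≫ q ≫
      Formal.smulMod A (cokernel (β n)) d
    have hZ : Z = 0 := by
      have h4 : cm I (biprod.inl : G ⟶ G ⊞ MN) n ≫ Z = 0 := by
        simp only [Z]
        rw [← Category.assoc, ← smulMod_natural, Category.assoc]
        show Formal.smulMod A _ a ≫ z = 0
        rw [← cokernel.π_desc (u n) z hz, ← Category.assoc, smulMod_natural, hcok n a ha, comp_zero,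
          zero_comp]
      have h5 : cm I (biprod.inr : MN ⟶ G ⊞ MN) n ≫ Z = 0 := by
        simp only [Z]
        rw [← Category.assoc, ← smulMod_natural, Category.assoc, hinr, comp_zero]
      rw [← Category.id_comp Z, show 𝟙 ((Formal.completion I (G ⊞ MN)).obj (op n)) =
          cm I (biprod.fst : G ⊞ MN ⟶ G) n ≫ cm I biprod.inl n +
          cm I (biprod.snd : G ⊞ MN ⟶ MN) n ≫ cm I biprod.inr n by
          rw [cm_comp, cm_comp, ← cm_add, biprod.total, cm_id],
        Preadditive.add_comp, Category.assoc, Category.assoc, h4, h5, comp_zero, comp_zero, add_zero]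
    simp only [Z] at hZ
    rw [← cancel_epi q, comp_zero, smulMod_mul, ← Category.assoc, ← smulMod_natural q a, Category.assoc]
    exact hZ
  obtain ⟨η, -⟩ := exists_iso_completion_of_killed hQ hQk
  let M' := (cokerSys hβc).obj (op c)
  obtain ⟨φ, hφ, -⟩ := existsUnique_hom_of_killed_target I (N := M') (hQk c)
    (homOfCompat (compat_cokerπ hβc) ≫ η.inv)
  have hcm : ∀ n, cm I φ n = cokernel.π (β n) ≫ η.inv.app (op n) := fun n => by
    rw [← cancel_epi (cπ I (G ⊞ MN) n), cπ_cm, ← hφ n]
    rfl
  have hM' : Coh.IsCoh M' := hQ.1 c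
  have hK : Coh.IsCoh (kernel φ) := isCoh_kernel φ hGM hM'.1
  have hβφ : ∀ n, β n ≫ cm I φ n = 0 := fun n => by
    rw [hcm, cokernel.condition_assoc, zero_comp]
  have h₂ : ImageIn (cm I (kernel.ι φ)) β := fun n => by
    refine ⟨n, le_rfl, ?_⟩
    rw [trLE_refl, Category.id_comp]
    have h := cm_zero I (kernel φ) M' n
    rw [← kernel.condition φ, ← cm_comp, hcm, ← Category.assoc] at h
    rw [← cancel_mono (η.inv.app (op n)), zero_comp]
    exact h
  obtain ⟨e, he⟩ := exists_iso_of_image hF (isCohFormal_completion I hK)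
    (compat_cm I (kernel.ι φ)) hβc (armono_of_mono I _ hK hGM) hβ (imageIn_kernel hGM hM' φ hβc hβφ) h₂
  exact ⟨MN, M', c, φ, γ, e, hF.1 N, hM',
    killedBy_of_le (Ideal.pow_le_pow_right (by omega)) hMN, hQk c, hγc,
    fun n => by rw [← Category.assoc, he, hβ₁], fun n => by rw [← Category.assoc, he, hβ₂]⟩

/-- A formal module mapping to a completion isomorphically up to torsion is a completion. -/
theorem exists_algebraization_left {F : ℕᵒᵖ ⥤ X.Modules} (hF : Formal.IsCohFormal I F) {G : X.Modules}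
    (hG : Coh.IsCoh G) (α : F ⟶ Formal.completion I G) {s : ℕ}
    (hker : ∀ n, Formal.KilledBy (I ^ s) (kernel (α.app (op n))))
    (hcok : ∀ n, Formal.KilledBy (I ^ s) (cokernel (α.app (op n)))) :
    ∃ (F' : X.Modules) (a : F' ⟶ G) (β : F ≅ Formal.completion I F') (c : ℕ), Coh.IsCoh F' ∧
      Formal.KilledBy (I ^ c) (kernel a) ∧ Formal.KilledBy (I ^ c) (cokernel a) ∧
      ∀ n, cπ I F' n ≫ β.inv.app (op n) ≫ α.app (op n) = a ≫ cπ I G n := by
  obtain ⟨MN, M', c, φ, γ, e, hMN, hM', hkMN, hkM', -, he, -⟩ :=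
    exists_kernel_model hF hG (compat_app α) hker hcok
  refine ⟨kernel φ, kernel.ι φ ≫ biprod.fst, e, c,
    isCoh_kernel φ (isCoh_biprod hG hMN) hM'.1, fun x hx => ?_, fun x hx => ?_, fun n => ?_⟩
  · refine smul_eq_zero_of_mono (kernel.ι (kernel.ι φ ≫ biprod.fst) ≫ kernel.ι φ) x ?_
    refine biprod.hom_ext _ _ ?_ ?_
    · rw [Category.assoc, Category.assoc, smulMod_natural, zero_comp, ← Category.assoc (kernel.ι φ),
        kernel.condition_assoc, zero_comp]
    · rw [Category.assoc, Category.assoc, smulMod_natural, hkMN x hx, comp_zero, comp_zero, comp_zero,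
        zero_comp]
  · have h : (biprod.inl ≫ Formal.smulMod A (G ⊞ MN) x) ≫ φ = 0 := by
      rw [Category.assoc, smulMod_natural, hkM' x hx, comp_zero, comp_zero]
    have h' : kernel.lift φ _ h ≫ (kernel.ι φ ≫ biprod.fst) = Formal.smulMod A G x := by
      rw [← Category.assoc, kernel.lift_ι, Category.assoc, smulMod_natural, biprod.inl_fst_assoc]
    rw [← cancel_epi (cokernel.π (kernel.ι φ ≫ biprod.fst)), comp_zero, ← smulMod_natural, ← h',
      Category.assoc, cokernel.condition, comp_zero]
  · rw [← he n, ← Category.assoc (e.inv.app (op n)), Iso.inv_hom_id_app, Category.id_comp, cm_comp,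
      cπ_cm]

omit [IsNoetherianRing A] [IsLocallyNoetherian X] [CompactSpace X] in
variable (I) in
/-- Multiplications through a map which is an isomorphism up to torsion. -/
theorem exists_partial_inverse {F : ℕᵒᵖ ⥤ X.Modules} {H : ℕᵒᵖ ⥤ X.Modules} (α : H ⟶ F) {s : ℕ}
    (hker : ∀ n, Formal.KilledBy (I ^ s) (kernel (α.app (op n))))
    (hcok : ∀ n, Formal.KilledBy (I ^ s) (cokernel (α.app (op n)))) {x : A}
    (hx : x ∈ I ^ (s + (s + s))) :
    ∃ ψ : ∀ n, F.obj (op n) ⟶ H.obj (op n), Compat ψ ∧
      (∀ n, α.app (op n) ≫ ψ n = Formal.smulMod A _ x) ∧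
      ∀ n, ψ n ≫ α.app (op n) = Formal.smulMod A _ x := by
  have two : ∀ a ∈ I ^ s * I ^ s, ∃ ψ : ∀ n, F.obj (op n) ⟶ H.obj (op n),
      (∀ n, α.app (op n) ≫ ψ n = Formal.smulMod A _ a) ∧
      ∀ n, ψ n ≫ α.app (op n) = Formal.smulMod A _ a := by
    intro a ha
    refine Submodule.mul_induction_on ha (fun c' hc' c hc => ?_) fun a b iha ihb => ?_
    · have : ∀ n, ∃ ψ : F.obj (op n) ⟶ H.obj (op n),
          α.app (op n) ≫ ψ = Formal.smulMod A _ (c' * c) ∧
          ψ ≫ α.app (op n) = Formal.smulMod A _ (c' * c) := fun n => by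
        let f := α.app (op n)
        have h1 : Formal.smulMod A (F.obj (op n)) c ≫ cokernel.π f = 0 := by
          rw [smulMod_natural, hcok n c hc, comp_zero]
        let p : F.obj (op n) ⟶ Abelian.image f := kernel.lift _ _ h1
        have hp : p ≫ Abelian.image.ι f = Formal.smulMod A (F.obj (op n)) c := kernel.lift_ι _ _ _
        have h2 : kernel.ι (Abelian.factorThruImage f) ≫ Formal.smulMod A (H.obj (op n)) c' = 0 := by
          have e : kernel.ι (Abelian.factorThruImage f) ≫ f = 0 := by
            conv_lhs => arg 2; rw [← Abelian.image.fac f]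
            rw [kernel.condition_assoc, zero_comp]
          rw [← kernel.lift_ι f _ e, Category.assoc, ← smulMod_natural, hker n c' hc', zero_comp,
            comp_zero]
        let d := Abelian.epiDesc (Abelian.factorThruImage f) _ h2
        have hd : Abelian.factorThruImage f ≫ d = Formal.smulMod A (H.obj (op n)) c' :=
          Abelian.comp_epiDesc _ _ _
        have hfp : f ≫ p = Formal.smulMod A (H.obj (op n)) c ≫ Abelian.factorThruImage f := by
          rw [← cancel_mono (Abelian.image.ι f), Category.assoc, hp, Category.assoc,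
            Abelian.image.fac, smulMod_natural]
        have hdf : d ≫ f = Abelian.image.ι f ≫ Formal.smulMod A (F.obj (op n)) c' := by
          rw [← cancel_epi (Abelian.factorThruImage f), ← Category.assoc, hd, ← Category.assoc,
            Abelian.image.fac, smulMod_natural]
        refine ⟨p ≫ d, ?_, ?_⟩
        · rw [← Category.assoc, hfp, Category.assoc, hd, smulMod_mul]
        · rw [Category.assoc, hdf, ← Category.assoc, hp, smulMod_mul]
      choose ψ h₁ h₂ using this
      exact ⟨ψ, h₁, h₂⟩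
    · obtain ⟨ψ, h₁, h₂⟩ := iha
      obtain ⟨ψ', h₁', h₂'⟩ := ihb
      exact ⟨fun n => ψ n + ψ' n,
        fun n => by rw [Preadditive.comp_add, h₁, h₁', smulMod_add],
        fun n => by rw [Preadditive.add_comp, h₂, h₂', smulMod_add]⟩
  rw [pow_add, pow_add] at hx
  refine Submodule.mul_induction_on hx (fun c hc a ha => ?_) fun a b iha ihb => ?_
  · obtain ⟨ψ, h₁, h₂⟩ := two a ha
    refine ⟨fun n => ψ n ≫ Formal.smulMod A (H.obj (op n)) c, fun n => ?_, fun n => ?_, fun n => ?_⟩
    · let δ := tr F n ≫ ψ n - ψ (n + 1) ≫ tr H n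
      have hnat : tr H n ≫ α.app (op n) = α.app (op (n + 1)) ≫ tr F n := compat_app α n
      have hδ : α.app (op (n + 1)) ≫ δ = 0 := by
        simp only [δ, Preadditive.comp_sub]
        rw [← Category.assoc, ← hnat, Category.assoc, h₁, ← Category.assoc, h₁, smulMod_natural,
          sub_self]
      have hδc : δ ≫ Formal.smulMod A (H.obj (op n)) c = 0 := by
        rw [← smulMod_natural, ← cokernel.π_desc _ δ hδ, ← Category.assoc, smulMod_natural,
          hcok (n + 1) c hc, comp_zero, zero_comp]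
      simp only [δ, Preadditive.sub_comp, sub_eq_zero, Category.assoc] at hδc
      rw [hδc, Category.assoc, smulMod_natural]
    · rw [← Category.assoc, h₁, ← smulMod_mul]
    · rw [Category.assoc, smulMod_natural, ← Category.assoc, h₂, ← smulMod_mul]
  · obtain ⟨ψ, hc, h₁, h₂⟩ := iha
    obtain ⟨ψ', hc', h₁', h₂'⟩ := ihb
    exact ⟨fun n => ψ n + ψ' n,
      fun n => by rw [Preadditive.comp_add, Preadditive.add_comp, hc n, hc' n],
      fun n => by rw [Preadditive.comp_add, h₁, h₁', smulMod_add],
      fun n => by rw [Preadditive.add_comp, h₂, h₂', smulMod_add]⟩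

/-- A formal module receiving a completion isomorphically up to torsion is a completion. -/
theorem exists_algebraization_right {F : ℕᵒᵖ ⥤ X.Modules} (hF : Formal.IsCohFormal I F)
    {G : X.Modules} (hG : Coh.IsCoh G) (α : Formal.completion I G ⟶ F) {s : ℕ}
    (hker : ∀ n, Formal.KilledBy (I ^ s) (kernel (α.app (op n))))
    (hcok : ∀ n, Formal.KilledBy (I ^ s) (cokernel (α.app (op n)))) :
    ∃ (F' : X.Modules) (a : G ⟶ F') (β : Formal.completion I F' ≅ F) (c : ℕ), Coh.IsCoh F' ∧
      Formal.KilledBy (I ^ c) (kernel a) ∧ Formal.KilledBy (I ^ c) (cokernel a) ∧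
      ∀ n, cπ I G n ≫ α.app (op n) = a ≫ cπ I F' n ≫ β.hom.app (op n) := by
  classical
  let S := s + (s + s)
  obtain ⟨r, g, hg⟩ := Submodule.fg_iff_exists_fin_generating_family.1
    (IsNoetherian.noetherian (I ^ S))
  choose ψ hψc hαψ hψα using fun j => exists_partial_inverse I α hker hcok
    (hg.le (Submodule.subset_span ⟨j, rfl⟩) : g j ∈ I ^ S)
  -- the module of compatible tuples
  let Gr : X.Modules := ⨁ fun _ : Fin r => G
  let δ₀ : Gr ⟶ ⨁ fun _ : Fin r × Fin r => G := biproduct.lift fun p =>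
    biproduct.π _ p.1 ≫ Formal.smulMod A G (g p.2) - biproduct.π _ p.2 ≫ Formal.smulMod A G (g p.1)
  have hGr : Coh.IsCoh Gr := isCoh_biproduct _ fun _ => hG
  have hGrr : Coh.IsCoh (⨁ fun _ : Fin r × Fin r => G) := isCoh_biproduct _ fun _ => hG
  have hG₂ : Coh.IsCoh (kernel δ₀) := isCoh_kernel δ₀ hGr hGrr.1
  let pr : Fin r → (kernel δ₀ ⟶ G) := fun j => kernel.ι δ₀ ≫ biproduct.π _ j
  have hpr : ∀ j k, pr j ≫ Formal.smulMod A G (g k) = pr k ≫ Formal.smulMod A G (g j) := fun j k => by
    have h := congrArg (fun f => f ≫ biproduct.π (fun _ : Fin r × Fin r => G) (j, k)) (kernel.condition δ₀)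
    simp only [δ₀, Category.assoc, biproduct.lift_π, Preadditive.comp_sub, zero_comp, sub_eq_zero] at h
    simpa only [pr, Category.assoc] using h
  let e₀ : G ⟶ Gr := biproduct.lift fun j => Formal.smulMod A G (g j)
  have he₀ : e₀ ≫ δ₀ = 0 := by
    refine biproduct.hom_ext _ _ fun p => ?_
    simp only [δ₀, e₀, Category.assoc, biproduct.lift_π, Preadditive.comp_sub, biproduct.lift_π_assoc,
      zero_comp]
    rw [← smulMod_mul, ← smulMod_mul, mul_comm, sub_self]
  let e := kernel.lift δ₀ e₀ he₀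
  have hepr : ∀ j, e ≫ pr j = Formal.smulMod A G (g j) := fun j => by
    simp only [e, pr, kernel.lift_ι_assoc, e₀, biproduct.lift_π]
  have hpre : ∀ k, pr k ≫ e = Formal.smulMod A (kernel δ₀) (g k) := fun k => by
    rw [← cancel_mono (kernel.ι δ₀)]
    refine biproduct.hom_ext _ _ fun j => ?_
    simp only [Category.assoc, smulMod_natural]
    exact (congrArg (pr k ≫ ·) (hepr j)).trans (hpr k j)
  -- the lift of the partial inverses
  let Ψ : ∀ n, F.obj (op n) ⟶ (Formal.completion I Gr).obj (op n) := fun n =>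
    ∑ j, ψ j n ≫ cm I (biproduct.ι (fun _ : Fin r => G) j) n
  have hΨπ : ∀ n k, Ψ n ≫ cm I (biproduct.π (fun _ : Fin r => G) k) n = ψ k n := fun n k => by
    simp only [Ψ, Preadditive.sum_comp, Category.assoc, cm_comp]
    rw [Finset.sum_eq_single k (fun j _ hj => by rw [biproduct.ι_π_ne _ hj, cm_zero, comp_zero])
      (fun h => absurd (Finset.mem_univ k) h), biproduct.ι_π_self, cm_id, Category.comp_id]
  have hΨc : Compat Ψ := fun n => by
    simp only [Ψ, Preadditive.comp_sum, Preadditive.sum_comp, Category.assoc]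
    refine Finset.sum_congr rfl fun j _ => ?_
    rw [← Category.assoc, hψc j n, Category.assoc]
    exact congrArg (ψ j (n + 1) ≫ ·) (compat_cm I _ n)
  have hΨδ : ∀ n, Ψ n ≫ cm I δ₀ n = 0 := fun n => by
    refine cm_biproduct_ext fun p => ?_
    rw [zero_comp, Category.assoc, cm_comp]
    simp only [δ₀, biproduct.lift_π]
    rw [sub_eq_add_neg, cm_add, Preadditive.comp_add, ← Preadditive.neg_comp, ← cm_comp, ← cm_comp,
      ← Category.assoc, ← Category.assoc, ← smulMod_cm, ← smulMod_cm]
    have hneg : cm I (-biproduct.π (fun _ : Fin r => G) p.2) n = -cm I (biproduct.π (fun _ : Fin r => G) p.2) n := by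
      rw [eq_neg_iff_add_eq_zero, ← cm_add, neg_add_cancel, cm_zero]
    rw [hneg, Preadditive.comp_neg, hΨπ, hΨπ, Preadditive.neg_comp, ← sub_eq_add_neg, sub_eq_zero,
      ← hαψ p.2 n, ← Category.assoc, hψα, smulMod_natural, ← hαψ p.1 n, ← Category.assoc, hψα,
      smulMod_natural]
  have hιm : ARMono (cm I (kernel.ι δ₀)) := armono_of_mono I _ hG₂ hGr
  obtain ⟨u, huc, hu⟩ := exists_lift (G' := Formal.completion I (kernel δ₀)) hF
    (fun n => killedBy_modPow I (n + 1) (kernel δ₀)) (compat_cm I _) hΨc hιm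
    (imageIn_kernel hGr hGrr δ₀ hΨc hΨδ)
  have hupr : ∀ n j, u n ≫ cm I (pr j) n = ψ j n := fun n j => by
    rw [← cm_comp, ← Category.assoc, hu, hΨπ]
  have hαu : ∀ n, α.app (op n) ≫ u n = cm I e n :=
    eq_of_comp_eq (isCohFormal_completion I hG) hιm ((compat_app α).comp huc) (compat_cm I e)
      fun n => by
        refine cm_biproduct_ext fun j => ?_
        simp only [Category.assoc, cm_comp]
        show α.app (op n) ≫ u n ≫ cm I (pr j) n = cm I (e ≫ pr j) n
        rw [hupr, hαψ, hepr, smulMod_cm]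
  have hukill : ∀ n, Formal.KilledBy (I ^ S) (kernel (u n)) := fun n =>
    killedBy_span hg.ge fun j => smul_eq_zero_of_mono (kernel.ι (u n)) (g j) (by
      rw [← hψα j n, ← hupr, Category.assoc, kernel.condition_assoc, zero_comp])
  have hucok : ∀ n, Formal.KilledBy (I ^ S) (cokernel (u n)) := fun n =>
    killedBy_span hg.ge fun k => by
      rw [← cancel_epi (cokernel.π (u n)), comp_zero, ← smulMod_natural, smulMod_cm, ← hpre,
        ← cm_comp, ← hαu, Category.assoc, Category.assoc, cokernel.condition, comp_zero, comp_zero]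
  obtain ⟨MN, M', c, φ, γ, i, hMN, hM', hkMN, hkM', hγc, hi₁, hi₂⟩ :=
    exists_kernel_model hF hG₂ huc hukill hucok
  obtain ⟨b, hb, -⟩ := existsUnique_hom_of_killed_target I (M := G) hkMN
    (homOfCompat ((compat_app α).comp hγc))
  have hb' : ∀ n, cm I b n = α.app (op n) ≫ γ n := fun n => by
    rw [← cancel_epi (cπ I G n), cπ_cm, ← hb n]
    rfl
  let al : G ⟶ kernel δ₀ ⊞ MN := biprod.lift e b
  have hal : ∀ n, cm I al n = α.app (op n) ≫ i.hom.app (op n) ≫ cm I (kernel.ι φ) n := fun n => by
    refine cm_biprod_ext ?_ ?_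
    · rw [cm_comp, biprod.lift_fst, Category.assoc, Category.assoc, hi₁, hαu]
    · rw [cm_comp, biprod.lift_snd, Category.assoc, Category.assoc, hi₂, hb']
  have halφ : al ≫ φ = 0 := eq_zero_of_cm_eq_zero hkM' _ fun n => by
    rw [← cm_comp, hal]
    simp only [Category.assoc, cm_comp, kernel.condition, cm_zero, comp_zero]
  have hK : Coh.IsCoh (kernel φ) := isCoh_kernel φ (isCoh_biprod hG₂ hMN) hM'.1
  let a := kernel.lift φ al halφ
  have hcma : ∀ n, cm I a n = α.app (op n) ≫ i.hom.app (op n) :=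
    eq_of_comp_eq (isCohFormal_completion I hG)
      (armono_of_mono I (kernel.ι φ) hK (isCoh_biprod hG₂ hMN)) (compat_cm I a)
      ((compat_app α).comp (compat_app i.hom)) fun n => by
        rw [cm_comp, kernel.lift_ι, hal, Category.assoc]
  let p : kernel φ ⟶ kernel δ₀ := kernel.ι φ ≫ biprod.fst
  have hap : a ≫ p = e := by simp only [a, p, kernel.lift_ι_assoc, al, biprod.lift_fst]
  refine ⟨kernel φ, a, i.symm, c + S, hK, ?_, ?_, fun n => ?_⟩
  · refine killedBy_of_le (Ideal.pow_le_pow_right (Nat.le_add_left S c)) (killedBy_span hg.ge fun j => ?_)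
    refine smul_eq_zero_of_mono (kernel.ι a) (g j) ?_
    rw [← hepr, ← hap, Category.assoc, kernel.condition_assoc, zero_comp]
  · rw [pow_add]
    refine killedBy_mul fun d hd x hx => ?_
    rw [smulMod_mul]
    have hkill : ∀ k, Formal.smulMod A (kernel φ) (g k) ≫ Formal.smulMod A (kernel φ) d ≫ cokernel.π a = 0 := by
      intro k
      let δ := Formal.smulMod A (kernel φ) (g k) - (p ≫ pr k) ≫ a
      have hδ : δ ≫ p = 0 := by
        simp only [δ, Preadditive.sub_comp, Category.assoc, hap, hpre]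
        rw [smulMod_natural, sub_self]
      have hδd : δ ≫ Formal.smulMod A (kernel φ) d = 0 := by
        rw [← cancel_mono (kernel.ι φ), zero_comp, Category.assoc, smulMod_natural]
        refine biprod.hom_ext _ _ ?_ ?_
        · simp only [Category.assoc, zero_comp, smulMod_natural]
          rw [← Category.assoc (kernel.ι φ), ← Category.assoc δ, hδ, zero_comp]
        · simp only [Category.assoc, zero_comp, smulMod_natural, hkMN d hd, comp_zero]
      simp only [δ, Preadditive.sub_comp, sub_eq_zero, Category.assoc] at hδd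
      rw [← Category.assoc, hδd]
      simp only [Category.assoc]
      rw [← Category.assoc a, ← smulMod_natural]
      simp only [Category.assoc, cokernel.condition, comp_zero]
    rw [← cancel_epi (cokernel.π a), comp_zero, ← Category.assoc, ← smulMod_natural (cokernel.π a) x,
      Category.assoc, ← smulMod_natural (cokernel.π a) d]
    have hx' := hg.ge hx
    clear hx
    induction hx' using Submodule.span_induction with
    | mem y hy => obtain ⟨k, rfl⟩ := hy; exact hkill k
    | zero => rw [smulMod_zero, zero_comp]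
    | add y z _ _ ihy ihz => rw [smulMod_add, Preadditive.add_comp, ihy, ihz, add_zero]
    | smul t y _ ihy =>
      rw [smul_eq_mul, mul_comm, smulMod_mul, Category.assoc, ihy, comp_zero]
  · show cπ I G n ≫ α.app (op n) = a ≫ cπ I (kernel φ) n ≫ i.inv.app (op n)
    rw [← Category.assoc a, ← cπ_cm, hcma]
    simp only [Category.assoc, Iso.hom_inv_id_app, Category.comp_id]

end Groth.Agent.Formal2Lib

namespace Groth.Agent.Formal2Lib

attribute [local instance] hasFiniteBiproducts

variable {A : Type u} [CommRing A] {X : Scheme.{u}} [X.Over (Spec (CommRingCat.of A))] {I : Ideal A}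
  [IsNoetherianRing A] [IsLocallyNoetherian X] [CompactSpace X]

variable (I) in
/-- Morphisms out of the completion of a module killed by a power of the ideal. -/
theorem existsUnique_hom_of_killed_source {M N : X.Modules} (hM : Coh.IsCoh M) (hN : Coh.IsCoh N)
    {c : ℕ} (hc : Formal.KilledBy (I ^ c) M) (ψ : Formal.completion I M ⟶ Formal.completion I N) :
    ∃! φ : M ⟶ N, ∀ n : ℕ, cπ I M n ≫ ψ.app (op n) = φ ≫ cπ I N n := by
  obtain ⟨r, g, hg⟩ := Submodule.fg_iff_exists_fin_generating_family.1
    (IsNoetherian.noetherian (I ^ c))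
  let μ : N ⟶ ⨁ fun _ : Fin r => N := biproduct.lift fun j => Formal.smulMod A N (g j)
  have hNr : Coh.IsCoh (⨁ fun _ : Fin r => N) := isCoh_biproduct _ fun _ => hN
  have hgM : ∀ j, Formal.smulMod A M (g j) = 0 := fun j =>
    hc (g j) (hg.le (Submodule.subset_span ⟨j, rfl⟩))
  have hψμ : ∀ n, ψ.app (op n) ≫ cm I μ n = 0 := fun n => by
    refine cm_biproduct_ext fun j => ?_
    rw [Category.assoc, cm_comp, zero_comp, biproduct.lift_π, ← smulMod_cm, ← smulMod_natural,
      smulMod_cm, hgM, cm_zero, zero_comp]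
  have hK : Coh.IsCoh (kernel μ) := isCoh_kernel μ hN hNr.1
  have hι : ARMono (cm I (kernel.ι μ)) := armono_of_mono I _ hK hN
  have hKk : Formal.KilledBy (I ^ c) (kernel μ) := killedBy_span hg.ge fun j =>
    smul_eq_zero_of_mono (kernel.ι μ) (g j) (by
      rw [show Formal.smulMod A N (g j) = μ ≫ biproduct.π _ j by simp [μ], kernel.condition_assoc,
        zero_comp])
  obtain ⟨u, huc, hu⟩ := exists_lift (G' := Formal.completion I (kernel μ))
    (isCohFormal_completion I hM) (fun n => killedBy_modPow I (n + 1) (kernel μ)) (compat_cm I _)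
    (compat_app ψ) hι (imageIn_kernel hN hNr μ (compat_app ψ) hψμ)
  obtain ⟨φ₀, hφ₀, -⟩ := existsUnique_hom_of_killed_target I hKk (homOfCompat huc)
  refine ⟨φ₀ ≫ kernel.ι μ, fun n => ?_, fun φ hφ => ?_⟩
  · rw [Category.assoc, ← cπ_cm, ← Category.assoc, ← hφ₀, Category.assoc, homOfCompat_app, hu]
  · have hd : (φ - φ₀ ≫ kernel.ι μ) ≫ μ = 0 := biproduct.hom_ext _ _ fun j => by
      rw [Category.assoc, biproduct.lift_π, zero_comp, ← smulMod_natural, hgM, zero_comp]
    let d := kernel.lift μ _ hd
    have hd' : d ≫ kernel.ι μ = φ - φ₀ ≫ kernel.ι μ := kernel.lift_ι _ _ _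
    have hz : ∀ n, cm I (φ - φ₀ ≫ kernel.ι μ) n = 0 := fun n => by
      rw [← cancel_epi (cπ I M n), cπ_cm, comp_zero, Preadditive.sub_comp, ← hφ n, Category.assoc,
        ← cπ_cm, ← Category.assoc, ← hφ₀, Category.assoc, homOfCompat_app, hu, sub_self]
    have hdz : ∀ n, cm I d n = cm I (0 : M ⟶ kernel μ) n :=
      eq_of_comp_eq (isCohFormal_completion I hM) hι (compat_cm I _) (compat_cm I _) fun n => by
        rw [cm_comp, hd', hz, cm_comp, zero_comp, cm_zero]
    have hd0 : d = 0 := eq_zero_of_cm_eq_zero hKk d fun n => by rw [hdz, cm_zero]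
    rw [hd0, zero_comp] at hd'
    exact sub_eq_zero.1 hd'.symm

end Groth.Agent.Formal2Lib
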