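import Groth.Agent.Coherent.Existence.TwoStep
import Mathlib.RingTheory.Polynomial.Basic
import Mathlib.RingTheory.PrincipalIdealDomain
import Groth.Prelude.Def_Formal2

/-!
# Reduction of coherent formal modules to a Noetherian base ring

The constructions `M/Iⁿ M` only depend on the ideal sheaf `I·O_X`, which is generated by finitely many
elements of `I` when `X` is Noetherian.
-/

set_option autoImplicit false
set_option backward.isDefEq.respectTransparency false
set_option linter.style.haveILetI false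
set_option maxHeartbeats 200000

universe u

open CategoryTheory CategoryTheory.Limits AlgebraicGeometry Opposite TopologicalSpace
open Groth.Agent.Coherent Groth.Agent.Coherent.Serre Groth.Agent.Coherent.Existence
open Groth.Agent.PicLib Groth.Agent.AmpleLib

namespace Groth.Agent.Formal2Lib

variable {A : Type u} [CommRing A] {X : Scheme.{u}} [X.Over (Spec (CommRingCat.of A))] (I : Ideal A)

/-- The ideal generated by `I` on `U`. -/
noncomputable abbrev sheafIdeal (U : X.Opens) : Ideal Γ(X, U) :=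
  I.map (rmap (le_top : U ≤ ⊤) |>.comp (baseHom A X))

variable {A₀ : Type u} [CommRing A₀] [X.Over (Spec (CommRingCat.of A₀))] (I₀ : Ideal A₀)

variable (X) in
/-- `(A₀, I₀)` gives the same ideal sheaf on `X` as `(A, I)`. -/
structure BaseRed : Prop where
  base : ∃ φ : A₀ →+* A, baseHom A₀ X = (baseHom A X).comp φ ∧ I₀.map φ ≤ I
  gen : ∀ x : X, ∃ U : X.Opens, x ∈ U ∧ sheafIdeal I U ≤ sheafIdeal I₀ U

omit [X.Over (Spec (CommRingCat.of A₀))] in
theorem baseHom_comp (φ : A₀ →+* A) :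
    letI : X.Over (Spec (CommRingCat.of A₀)) :=
      ⟨(X ↘ Spec (CommRingCat.of A)) ≫ Spec.map (CommRingCat.ofHom φ)⟩
    baseHom A₀ X = (baseHom A X).comp φ := by
  letI : X.Over (Spec (CommRingCat.of A₀)) :=
    ⟨(X ↘ Spec (CommRingCat.of A)) ≫ Spec.map (CommRingCat.ofHom φ)⟩
  ext a
  change ((X ↘ Spec (CommRingCat.of A)) ≫ Spec.map (CommRingCat.ofHom φ)).appTop
      ((Scheme.ΓSpecIso (CommRingCat.of A₀)).inv a) =
    (X ↘ Spec (CommRingCat.of A)).appTop ((Scheme.ΓSpecIso (CommRingCat.of A)).inv (φ a))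
  rw [Scheme.Hom.comp_appTop, CommRingCat.comp_apply]
  congr 1
  exact (ConcreteCategory.congr_hom (Scheme.ΓSpecIso_inv_naturality (CommRingCat.ofHom φ)) a).symm

omit [X.Over (Spec (CommRingCat.of A₀))] in
variable (X) in
/-- Over a Noetherian scheme the base ring may be assumed Noetherian. -/
theorem exists_baseRed [IsNoetherian X] :
    ∃ (A₀ : Type u) (_ : CommRing A₀) (_ : IsNoetherianRing A₀) (I₀ : Ideal A₀)
      (_ : X.Over (Spec (CommRingCat.of A₀))), BaseRed X I I₀ := by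
  classical
  obtain ⟨s, hs⟩ := Groth.Agent.H8Top.exists_finite_affine_cover X
  have key : ∀ U : s, ∃ t : Finset A, (t : Set A) ⊆ I ∧
      sheafIdeal I U.1.1 ≤ Ideal.span ((rmap (le_top : U.1.1 ≤ ⊤) |>.comp (baseHom A X)) '' (t : Set A)) := by
    intro U
    have := IsLocallyNoetherian.component_noetherian (X := X) U.1
    obtain ⟨T, hT, e⟩ := (Submodule.fg_span_iff_fg_span_finset_subset
      ((rmap (le_top : U.1.1 ≤ ⊤) |>.comp (baseHom A X)) '' (I : Set A))).1 (IsNoetherian.noetherian (R := Γ(X, U.1.1)) (M := Γ(X, U.1.1)) _)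
    obtain ⟨t, ht, rfl⟩ := Finset.subset_set_image_iff.1 hT
    exact ⟨t, ht, e.le.trans (by rw [Finset.coe_image])⟩
  choose t ht hgen using key
  let g := Finset.univ.biUnion t
  let A₀ := MvPolynomial (↑g : Set A) (ULift.{u} ℤ)
  let φ : A₀ →+* A := MvPolynomial.eval₂Hom ((Int.castRingHom A).comp ULift.ringEquiv.toRingHom) Subtype.val
  letI o : X.Over (Spec (CommRingCat.of A₀)) :=
    ⟨(X ↘ Spec (CommRingCat.of A)) ≫ Spec.map (CommRingCat.ofHom φ)⟩
  let I₀ : Ideal A₀ := Ideal.span (Set.range MvPolynomial.X)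
  have : IsNoetherianRing (ULift.{u} ℤ) := isNoetherianRing_of_ringEquiv ℤ ULift.ringEquiv.symm
  have : IsNoetherianRing A₀ := MvPolynomial.isNoetherianRing
  refine ⟨A₀, inferInstance, inferInstance, I₀, o, ⟨φ, baseHom_comp φ, ?_⟩, fun x => ?_⟩
  · rw [Ideal.map_span, Ideal.span_le]
    rintro _ ⟨_, ⟨a, rfl⟩, rfl⟩
    obtain ⟨U, -, hU⟩ := Finset.mem_biUnion.1 a.2
    change MvPolynomial.eval₂Hom ((Int.castRingHom A).comp ULift.ringEquiv.toRingHom) Subtype.val (MvPolynomial.X a) ∈ I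
    rw [MvPolynomial.eval₂Hom_X']
    exact ht U hU
  · obtain ⟨U, hx⟩ := Opens.mem_iSup.1 (hs.ge (Opens.mem_top x))
    refine ⟨U.1.1, hx, (hgen U).trans (Ideal.span_le.2 ?_)⟩
    rintro _ ⟨a, ha, rfl⟩
    let a' : (↑g : Set A) := ⟨a, Finset.mem_biUnion.2 ⟨U, Finset.mem_univ _, ha⟩⟩
    have e : (baseHom A₀ X) (MvPolynomial.X a') = baseHom A X a := by
      rw [baseHom_comp φ, RingHom.comp_apply]
      exact congrArg _ (MvPolynomial.eval₂Hom_X' _ _ a')
    rw [SetLike.mem_coe, RingHom.comp_apply, ← e, ← RingHom.comp_apply]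
    exact Ideal.mem_map_of_mem _ (Ideal.subset_span ⟨a', rfl⟩)

variable {I I₀}

theorem BaseRed.exists_map (h : BaseRed X I I₀) {n : ℕ} {a : A₀} (ha : a ∈ I₀ ^ n) (M : X.Modules) :
    ∃ c ∈ I ^ n, Formal.smulMod A₀ M a = Formal.smulMod A M c := by
  obtain ⟨φ, hφ, hle⟩ := h.base
  refine ⟨φ a, Ideal.pow_right_mono hle n (Ideal.map_pow φ I₀ n ▸ Ideal.mem_map_of_mem φ ha), ?_⟩
  refine Scheme.Modules.hom_ext _ _ fun U => ?_
  ext m
  exact (smulMod_app M a U m).trans ((congrArg (fun f : A₀ →+* Γ(X, ⊤) =>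
    (X.presheaf.map (homOfLE (le_top (a := U))).op (f a) : Γ(X, U)) • m) hφ).trans
    (smulMod_app M (φ a) U m).symm)

theorem BaseRed.smul_π (h : BaseRed X I I₀) {n : ℕ} {c : A} (hc : c ∈ I ^ n) (M : X.Modules) :
    Formal.smulMod A M c ≫ Formal.modPowπ I₀ n M = 0 := by
  refine Scheme.Modules.hom_ext _ _ fun W => ?_
  ext m
  change (Formal.modPowπ I₀ n M).app W ((Formal.smulMod A M c).app W m) = 0
  refine AmpleLib.sec_ext _ _ _ fun x hx => ?_
  obtain ⟨U, hxU, hU⟩ := h.gen x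
  refine ⟨W ⊓ U, inf_le_left, ⟨hx, hxU⟩, ?_⟩
  have hmap : resM (Formal.modPow I₀ n M) (inf_le_left : W ⊓ U ≤ W) 0 = 0 := map_zero _
  rw [← app_resM, ← app_resM, hmap, smulMod_app]
  let χ : Γ(X, U) →+* Γ(X, W ⊓ U) := rmap (inf_le_right : W ⊓ U ≤ U)
  have hr : (rmap (le_top : U ≤ ⊤)).comp (baseHom A X) c ∈ sheafIdeal I₀ U ^ n :=
    Ideal.pow_right_mono hU n (by
      rw [sheafIdeal, ← Ideal.map_pow]
      exact Ideal.mem_map_of_mem _ hc)
  rw [sheafIdeal, ← Ideal.map_pow] at hr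
  have key : ∀ r ∈ Ideal.map ((rmap (le_top : U ≤ ⊤)).comp (baseHom A₀ X)) (I₀ ^ n),
      ∀ m' : Γ(M, W ⊓ U), (Formal.modPowπ I₀ n M).app (W ⊓ U) (χ r • m') = 0 := by
    intro r hr'
    induction hr' using Submodule.span_induction with
    | mem r hr' =>
      obtain ⟨a, ha, rfl⟩ := hr'
      intro m'
      have e : χ ((rmap (le_top : U ≤ ⊤)).comp (baseHom A₀ X) a) =
          (X.presheaf.map (homOfLE (le_top (a := W ⊓ U))).op (baseHom A₀ X a) : Γ(X, W ⊓ U)) :=
        rmap_rmap _ _ _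
      rw [e, ← smulMod_app M a (W ⊓ U) m']
      exact congrArg (fun f : M ⟶ Formal.modPow I₀ n M => f.app (W ⊓ U) m') (smulMod_modPowπ I₀ M ha)
    | zero => intro m'; rw [map_zero, zero_smul, map_zero]
    | add a b _ _ iha ihb => intro m'; rw [map_add, add_smul, map_add, iha, ihb, add_zero]
    | smul t a _ iha => intro m'; rw [smul_eq_mul, map_mul, mul_comm, mul_smul]; exact iha _
  have := key _ hr (resM M (inf_le_left : W ⊓ U ≤ W) m)
  rw [RingHom.comp_apply, rmap_rmap] at this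
  exact this

theorem BaseRed.killedBy_iff (h : BaseRed X I I₀) {n : ℕ} {M : X.Modules} :
    Formal.KilledBy (I₀ ^ n) M ↔ Formal.KilledBy (I ^ n) M := by
  refine ⟨fun hk c hc => ?_, fun hk a ha => ?_⟩
  · have h1 := congrArg (· ≫ modPowDesc I₀ (𝟙 M) hk) (h.smul_π hc M)
    simp only [Category.assoc, π_modPowDesc, zero_comp, Category.comp_id] at h1
    exact h1
  · obtain ⟨c, hc, e⟩ := h.exists_map ha M
    rw [e]; exact hk c hc

/-- The two quotients `M/Iⁿ M`. -/
noncomputable def BaseRed.modPowIso (h : BaseRed X I I₀) (n : ℕ) (M : X.Modules) :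
    Formal.modPow I₀ n M ≅ Formal.modPow I n M where
  hom := modPowDesc I₀ (Formal.modPowπ I n M) (h.killedBy_iff.2 (killedBy_modPow I n M))
  inv := modPowDesc I (Formal.modPowπ I₀ n M) (h.killedBy_iff.1 (killedBy_modPow I₀ n M))
  hom_inv_id := by
    rw [← cancel_epi (Formal.modPowπ I₀ n M), ← Category.assoc, π_modPowDesc, π_modPowDesc,
      Category.comp_id]
  inv_hom_id := by
    rw [← cancel_epi (Formal.modPowπ I n M), ← Category.assoc, π_modPowDesc, π_modPowDesc,
      Category.comp_id]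

theorem BaseRed.π_modPowIso (h : BaseRed X I I₀) (n : ℕ) (M : X.Modules) :
    Formal.modPowπ I₀ n M ≫ (h.modPowIso n M).hom = Formal.modPowπ I n M :=
  π_modPowDesc _ _ (h.killedBy_iff.2 (killedBy_modPow I n M))

theorem BaseRed.π_modPowIso_inv (h : BaseRed X I I₀) (n : ℕ) (M : X.Modules) :
    Formal.modPowπ I n M ≫ (h.modPowIso n M).inv = Formal.modPowπ I₀ n M :=
  π_modPowDesc _ _ (h.killedBy_iff.1 (killedBy_modPow I₀ n M))

theorem BaseRed.modPowIso_trans (h : BaseRed X I I₀) (n : ℕ) (M : X.Modules) :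
    Formal.modPowTrans I₀ n M ≫ (h.modPowIso n M).hom =
      (h.modPowIso (n + 1) M).hom ≫ Formal.modPowTrans I n M := by
  rw [← cancel_epi (Formal.modPowπ I₀ (n + 1) M), ← Category.assoc, Formal.modPowπ_trans,
    h.π_modPowIso, ← Category.assoc, h.π_modPowIso, Formal.modPowπ_trans]

theorem BaseRed.isCohFormal_iff (h : BaseRed X I I₀) {G : ℕᵒᵖ ⥤ X.Modules} :
    Formal.IsCohFormal I₀ G ↔ Formal.IsCohFormal I G := by
  constructor
  · rintro ⟨hc, hk, hd⟩
    refine ⟨hc, fun n => h.killedBy_iff.1 (hk n), fun n => ?_⟩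
    obtain ⟨h0, hiso⟩ := hd n
    have h1 : Formal.smulFamily (I ^ (n + 1)) (G.obj (op (n + 1))) ≫
        G.map (homOfLE (Nat.le_succ n)).op = 0 := Sigma.hom_ext _ _ fun c => by
      rw [comp_zero, ← Category.assoc, ι_smulFamily, smulMod_natural,
        h.killedBy_iff.1 (hk n) c c.2, comp_zero]
    refine ⟨h1, ?_⟩
    have e : cokernel.desc _ _ h1 = (h.modPowIso (n + 1) (G.obj (op (n + 1)))).inv ≫ cokernel.desc _ _ h0 := by
      refine (cancel_epi (Formal.modPowπ I (n + 1) (G.obj (op (n + 1))))).1 ?_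
      rw [← Category.assoc, h.π_modPowIso_inv]
      exact (cokernel.π_desc _ _ _).trans (cokernel.π_desc _ _ _).symm
    rw [e]
    exact IsIso.comp_isIso
  · rintro ⟨hc, hk, hd⟩
    refine ⟨hc, fun n => h.killedBy_iff.2 (hk n), fun n => ?_⟩
    obtain ⟨h0, hiso⟩ := hd n
    have h1 : Formal.smulFamily (I₀ ^ (n + 1)) (G.obj (op (n + 1))) ≫
        G.map (homOfLE (Nat.le_succ n)).op = 0 := Sigma.hom_ext _ _ fun c => by
      rw [comp_zero, ← Category.assoc, ι_smulFamily, smulMod_natural,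
        h.killedBy_iff.2 (hk n) c c.2, comp_zero]
    refine ⟨h1, ?_⟩
    have e : cokernel.desc _ _ h1 = (h.modPowIso (n + 1) (G.obj (op (n + 1)))).hom ≫ cokernel.desc _ _ h0 := by
      refine (cancel_epi (Formal.modPowπ I₀ (n + 1) (G.obj (op (n + 1))))).1 ?_
      rw [← Category.assoc, h.π_modPowIso]
      exact (cokernel.π_desc _ _ _).trans (cokernel.π_desc _ _ _).symm
    rw [e]
    exact IsIso.comp_isIso

/-- The two completions. -/
noncomputable def BaseRed.completionIso (h : BaseRed X I I₀) (M : X.Modules) :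
    Formal.completion I₀ M ≅ Formal.completion I M :=
  let η : Formal.completion I₀ M ⟶ Formal.completion I M :=
    NatTrans.ofOpSequence (fun n => (h.modPowIso (n + 1) M).hom) fun n =>
      (congrArg (· ≫ (h.modPowIso (n + 1) M).hom) (completion_map_succ I₀ M n)).trans
        ((h.modPowIso_trans (n + 1) M).trans
          (congrArg ((h.modPowIso (n + 1 + 1) M).hom ≫ ·) (completion_map_succ I M n).symm))
  have : ∀ k, IsIso (η.app k) := fun k => inferInstanceAs (IsIso (h.modPowIso (k.unop + 1) M).hom)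
  have : IsIso η := NatIso.isIso_of_isIso_app η
  asIso η

theorem BaseRed.completionIso_app (h : BaseRed X I I₀) (M : X.Modules) (n : ℕ) :
    (h.completionIso M).hom.app (op n) = (h.modPowIso (n + 1) M).hom := rfl

theorem BaseRed.π_completionIso (h : BaseRed X I I₀) (M : X.Modules) (n : ℕ) :
    Formal.modPowπ I₀ (n + 1) M ≫ (h.completionIso M).hom.app (op n) = Formal.modPowπ I (n + 1) M :=
  h.π_modPowIso (n + 1) M

theorem BaseRed.π_completionIso_inv (h : BaseRed X I I₀) (M : X.Modules) (n : ℕ) :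
    Formal.modPowπ I (n + 1) M ≫ (h.completionIso M).inv.app (op n) = Formal.modPowπ I₀ (n + 1) M := by
  refine (congrArg (· ≫ (h.completionIso M).inv.app (op n)) (h.π_completionIso M n)).symm.trans ?_
  exact (Category.assoc _ _ _).trans ((congrArg (Formal.modPowπ I₀ (n + 1) M ≫ ·)
    ((h.completionIso M).hom_inv_id_app (op n))).trans (Category.comp_id _))

theorem BaseRed.kerCokerKilled_iff (h : BaseRed X I I₀) {F G : ℕᵒᵖ ⥤ X.Modules} (α : F ⟶ G) :
    Formal2.KerCokerKilledByIPow I₀ α ↔ Formal2.KerCokerKilledByIPow I α :=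
  exists_congr fun _ => forall_congr' fun _ => and_congr h.killedBy_iff h.killedBy_iff

theorem BaseRed.kerCokerKilledHom_iff (h : BaseRed X I I₀) {F G : X.Modules} (a : F ⟶ G) :
    Formal2.KerCokerKilledByIPowHom I₀ a ↔ Formal2.KerCokerKilledByIPowHom I a :=
  exists_congr fun _ => and_congr h.killedBy_iff h.killedBy_iff

end Groth.Agent.Formal2Lib

namespace Groth.Agent.Formal2Lib

variable {A : Type u} [CommRing A] {X : Scheme.{u}} [X.Over (Spec (CommRingCat.of A))]

theorem killedBy_of_iso {J : Ideal A} {M N : X.Modules} (e : M ≅ N) (h : Formal.KilledBy J M) :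
    Formal.KilledBy J N := fun a ha => by
  rw [← cancel_epi e.hom, comp_zero, ← smulMod_natural, h a ha, zero_comp]

end Groth.Agent.Formal2Lib
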