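import Groth.Agent.FlatMorThick.Affine
import Groth.Agent.FSchLib.Systems
import Mathlib.RingTheory.Ideal.Pure
import Mathlib.AlgebraicGeometry.Morphisms.Flat

/-!
# A flat morphism which is an isomorphism over a nilpotent thickening is an isomorphism
-/

set_option autoImplicit false
set_option backward.isDefEq.respectTransparency.types false
universe u

open AlgebraicGeometry CategoryTheory Limits

namespace Groth.Agent.Formal2Lib

theorem bijective_of_flat_of_nilpotent {B B' : Type u} [CommRing B] [CommRing B'] (φ : B →+* B') (hφ : φ.Flat)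
    (J : Ideal B) {N : ℕ} (hN : J ^ N = ⊥) (hker : ∀ b, φ b ∈ J.map φ → b ∈ J)
    (hsurj : ∀ b', ∃ b, b' - φ b ∈ J.map φ) : Function.Bijective φ := by
  algebraize [φ]
  have hs : Function.Surjective φ := by
    have key : ∀ k, ∀ b', ∃ b, b' - φ b ∈ J.map φ ^ k := by
      intro k
      induction k with
      | zero => intro b'; exact ⟨0, by simp⟩
      | succ k ih =>
        intro b'
        obtain ⟨b, hb⟩ := ih b'
        rw [← Ideal.map_pow] at hb
        suffices h : ∀ z ∈ (J ^ k).map φ, ∃ a, z - φ a ∈ J.map φ ^ (k + 1) by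
          obtain ⟨a, ha⟩ := h _ hb
          exact ⟨b + a, by rw [map_add, ← sub_sub]; exact ha⟩
        intro z hz
        induction hz using Submodule.span_induction with
        | mem z hz =>
          obtain ⟨j, hj, rfl⟩ := hz
          exact ⟨j, by simp⟩
        | zero => exact ⟨0, by simp⟩
        | add x y _ _ hx hy =>
          obtain ⟨a, ha⟩ := hx
          obtain ⟨c, hc⟩ := hy
          exact ⟨a + c, by rw [map_add, add_sub_add_comm]; exact Ideal.add_mem _ ha hc⟩
        | smul r x hx h =>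
          obtain ⟨a, ha⟩ := h
          obtain ⟨s, hs⟩ := hsurj r
          refine ⟨s * a, ?_⟩
          have hx' : x ∈ J.map φ ^ k := by rw [← Ideal.map_pow]; exact hx
          rw [smul_eq_mul, map_mul, show r * x - φ s * φ a = (r - φ s) * x + φ s * (x - φ a) by ring]
          exact Ideal.add_mem _ (pow_succ' (J.map φ) k ▸ Ideal.mul_mem_mul hs hx') (Ideal.mul_mem_left _ _ ha)
    intro b'
    obtain ⟨b, hb⟩ := key N b'
    rw [← Ideal.map_pow, hN, Ideal.map_bot, Ideal.mem_bot, sub_eq_zero] at hb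
    exact ⟨b, hb.symm⟩
  refine ⟨(RingHom.injective_iff_ker_eq_bot φ).2 (eq_bot_iff.2 fun x hx => ?_), hs⟩
  let K := RingHom.ker φ
  have hK : K.Pure :=
    Module.Flat.of_linearEquiv ((Ideal.quotientKerAlgEquivOfSurjective (f := Algebra.ofId B B') hs).toLinearEquiv)
  have hKJ : K ≤ J := fun b hb => hker b (by rw [RingHom.mem_ker.1 hb]; exact Ideal.zero_mem _)
  obtain ⟨y, hy, hxy⟩ := Ideal.exists_eq_mul_of_pure (I := K) hx
  have hpow : ∀ k, x = x * y ^ k := fun k => by
    induction k with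
    | zero => simp
    | succ k ih => rw [pow_succ', ← mul_assoc, ← hxy]; exact ih
  rw [Ideal.mem_bot, hpow N, show y ^ N = 0 from (Submodule.mem_bot B).1 (hN ▸ Ideal.pow_mem_pow (hKJ hy) N), mul_zero]

theorem isIso_of_bijective_app {X Y : Scheme.{u}} (f : Y ⟶ X) [IsAffineHom f]
    (h : ∀ V : X.Opens, IsAffineOpen V → Function.Bijective (f.app V)) : IsIso f := by
  show MorphismProperty.isomorphisms Scheme f
  refine HasAffineProperty.of_iSup_eq_top (fun V : X.affineOpens => V) (iSup_affineOpens_eq_top X) fun V =>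
    ⟨V.2.preimage f, ?_⟩
  rw [Scheme.Hom.appTop, morphismRestrict_app]
  refine IsIso.comp_isIso' ?_ (by exact Functor.map_isIso _ _)
  refine (ConcreteCategory.isIso_iff_bijective _).2 (h _ ?_)
  rw [Scheme.Opens.ι_image_top]
  exact V.2

variable {U V U₀ V₀ : Scheme.{u}} {jU : U₀ ⟶ U} {h₀ : U₀ ⟶ V₀} {h : U ⟶ V} {jV : V₀ ⟶ V}

theorem isIso_of_flat_of_thick (sq : IsPullback jU h₀ h jV) [IsClosedImmersion jV] [Surjective jV]
    [IsIso h₀] [Flat h] {N : ℕ} (hN : jV.ker ^ N = ⊥) : IsIso h := by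
  have : IsClosedImmersion jU := MorphismProperty.of_isPullback sq.flip inferInstance
  have : Surjective jU := MorphismProperty.of_isPullback sq.flip ‹Surjective jV›
  have : IsAffineHom (jU ≫ h) := by rw [sq.w]; infer_instance
  have : IsAffineHom h := FlatMorThick.isAffineHom_of_comp_surjective jU h
  refine isIso_of_bijective_app h fun W hW => ?_
  have hW' := hW.preimage h
  have hflat : (h.app W).hom.Flat := by
    rw [Scheme.Hom.app_eq_appLE]
    exact Scheme.Hom.flat_appLE h hW hW' le_rfl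
  have hk : RingHom.ker (jU.app (h ⁻¹ᵁ W)).hom = (jV.ker.ideal ⟨W, hW⟩).map (h.app W).hom := by
    rw [← Scheme.Hom.ker_apply jU ⟨_, hW'⟩, FSchLib.ker_of_isPullback sq,
      FSchLib.ideal_comap_eq_map h _ ⟨_, hW'⟩ ⟨W, hW⟩ le_rfl, ← Scheme.Hom.app_eq_appLE]
  have hcomm : ∀ b : Γ(V, W), jU.app (h ⁻¹ᵁ W) (h.app W b) = (jU ≫ h).app W b := fun b => by
    rw [Scheme.Hom.comp_app]; rfl
  have key : ∀ {p q : U₀ ⟶ V}, p = q → ∀ b : Γ(V, W), p.app W b = 0 → q.app W b = 0 := by
    rintro p q rfl b hb; exact hb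
  have hh₀ := ConcreteCategory.bijective_of_isIso (h₀.app (jV ⁻¹ᵁ W))
  refine bijective_of_flat_of_nilpotent (h.app W).hom hflat (jV.ker.ideal ⟨W, hW⟩) (N := N) ?_ (fun b hb => ?_)
    fun b' => ?_
  · rw [← Pi.pow_apply, ← Scheme.IdealSheafData.ideal_pow, hN, Scheme.IdealSheafData.ideal_bot]
    rfl
  · rw [← hk, RingHom.mem_ker] at hb
    rw [Scheme.Hom.ker_apply, RingHom.mem_ker]
    refine hh₀.1 ?_
    rw [map_zero]
    have h1 := key sq.w b ((hcomm b).symm.trans hb)
    rw [Scheme.Hom.comp_app] at h1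
    exact h1
  · have : ∀ {p q : U₀ ⟶ V}, p = q → Function.Surjective (q.app W) → Function.Surjective (p.app W) := by
      rintro p q rfl hs; exact hs
    obtain ⟨b, hb⟩ := this sq.w (by
      rw [Scheme.Hom.comp_app]
      exact hh₀.2.comp (jV.app_surjective W hW)) (jU.app (h ⁻¹ᵁ W) b')
    refine ⟨b, ?_⟩
    rw [← hk, RingHom.mem_ker, map_sub, ← hb]
    exact sub_eq_zero.2 (hcomm b).symm

end Groth.Agent.Formal2Lib
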