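import Groth.Agent.Formal2Lib.KilledPullback
import Groth.Agent.Formal2Lib.NilIso
import Groth.Agent.Coherent.Existence.Completion
import Groth.Agent.Coherent.Existence.StrEmbed
import Groth.Prelude.Def_CohB1

/-!
# Pullback of coherent formal modules along a flat morphism which is an isomorphism on the closed subscheme
-/

set_option autoImplicit false
set_option backward.isDefEq.respectTransparency false

universe u

open CategoryTheory CategoryTheory.Limits AlgebraicGeometry Opposite TopologicalSpace
open Groth.Agent.Coherent Groth.Agent.Coherent.Serre Groth.Agent.Coherent.Existence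

namespace Groth.Agent.Formal2Lib

variable {A : Type u} [CommRing A]

theorem killedBy_mono {X : Scheme.{u}} [X.Over (Spec (CommRingCat.of A))] {J J' : Ideal A} (h : J ≤ J')
    {M : X.Modules} (hM : Formal.KilledBy J' M) : Formal.KilledBy J M := fun c hc => hM c (h hc)

section One

variable {X : Scheme.{u}} [X.Over (Spec (CommRingCat.of A))] (I : Ideal A)

theorem ker_thickι (k : ℕ) : (CohB1.thickι (X ↘ Spec (CommRingCat.of A)) I k).ker =
    ((FSch.idealSpec A I) ^ (k + 1)).comap (X ↘ Spec (CommRingCat.of A)) := by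
  haveI : IsClosedImmersion (CohB1.specQuot I k) :=
    IsClosedImmersion.spec_of_surjective _ Ideal.Quotient.mk_surjective
  refine (FSchLib.ker_of_isPullback (IsPullback.of_hasPullback _ (CohB1.specQuot I k))).trans ?_
  rw [FSchLib.ker_specQuot]

theorem killedByIdeal_of_killedBy {k : ℕ} {M : X.Modules} (hM : Formal.KilledBy (I ^ (k + 1)) M) :
    ClSub.KilledByIdeal (CohB1.thickι (X ↘ Spec (CommRingCat.of A)) I k).ker M := by
  intro U x hx m
  rw [ker_thickι, FSchLib.ideal_comap_eq_map _ _ U ⟨⊤, isAffineOpen_top _⟩ le_top,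
    Scheme.IdealSheafData.ideal_pow, Pi.pow_apply, FSchLib.idealSpec_ideal_top, ← Ideal.map_pow,
    Ideal.map_map] at hx
  induction hx using Submodule.span_induction generalizing m with
  | mem x hx =>
    obtain ⟨c, hc, rfl⟩ := hx
    have h0 := congrArg (fun φ : M ⟶ M => φ.app U.1 m) (hM c hc)
    exact (smulMod_app M c U.1 m).symm.trans h0
  | zero => exact zero_smul _ m
  | add x y _ _ hx hy => rw [add_smul, hx m, hy m, add_zero]
  | smul r x _ h => rw [smul_assoc, h m, smul_zero]

end One

variable {X X' : Scheme.{u}} [X.Over (Spec (CommRingCat.of A))] [X'.Over (Spec (CommRingCat.of A))]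
  {I : Ideal A} {f : X' ⟶ X} (hf : f ≫ (X ↘ Spec (CommRingCat.of A)) = X' ↘ Spec (CommRingCat.of A))

include hf

theorem killedBy_pullback {J : Ideal A} {M : X.Modules} (hM : Formal.KilledBy J M) :
    Formal.KilledBy J ((Scheme.Modules.pullback f).obj M) := fun c hc =>
  (pull_map_smulMod hf M c).symm.trans ((congrArg _ (hM c hc)).trans (Functor.map_zero _ _ _))

theorem killedBy_pushforward {J : Ideal A} {M : X'.Modules} (hM : Formal.KilledBy J M) :
    Formal.KilledBy J ((Coh.push f).obj M) := fun c hc =>
  (push_map_smulMod hf M c).symm.trans ((congrArg _ (hM c hc)).trans (Functor.map_zero _ _ _))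

variable [Flat f] (hZ : IsIso (pullback.map (X' ↘ Spec (CommRingCat.of A)) (CohB1.specQuot I 0)
      (X ↘ Spec (CommRingCat.of A)) (CohB1.specQuot I 0) f (𝟙 _) (𝟙 _)
      ((Category.comp_id _).trans hf.symm) ((Category.comp_id _).trans (Category.id_comp _).symm)))

include hZ

/-- The morphism is an isomorphism on every thickening. -/
theorem exists_thickIso (n : ℕ) :
    ∃ w : CohB1.thick (X' ↘ Spec (CommRingCat.of A)) I n ⟶ CohB1.thick (X ↘ Spec (CommRingCat.of A)) I n,
      IsIso w ∧ CohB1.thickι (X' ↘ Spec (CommRingCat.of A)) I n ≫ f =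
        w ≫ CohB1.thickι (X ↘ Spec (CommRingCat.of A)) I n := by
  let s := X ↘ Spec (CommRingCat.of A)
  let s' := X' ↘ Spec (CommRingCat.of A)
  let w : ∀ k, CohB1.thick s' I k ⟶ CohB1.thick s I k := fun k =>
    pullback.map s' (CohB1.specQuot I k) s (CohB1.specQuot I k) f (𝟙 _) (𝟙 _)
      ((Category.comp_id _).trans hf.symm) ((Category.comp_id _).trans (Category.id_comp _).symm)
  have hw : ∀ k, w k ≫ CohB1.thickι s I k = CohB1.thickι s' I k ≫ f := fun k => pullback.lift_fst _ _ _
  have hsq : ∀ k, IsPullback (CohB1.thickι s' I k) (w k) f (CohB1.thickι s I k) := fun k => by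
    refine IsPullback.of_bot ?_ (hw k).symm (IsPullback.of_hasPullback s (CohB1.specQuot I k))
    rw [show w k ≫ pullback.snd s (CohB1.specQuot I k) = pullback.snd s' (CohB1.specQuot I k) from
      (pullback.lift_snd _ _ _).trans (Category.comp_id _)]
    exact hf ▸ IsPullback.of_hasPullback s' (CohB1.specQuot I k)
  haveI : ∀ k, IsClosedImmersion (CohB1.thickι s I k) := fun k => isClosedImmersion_thickι s I k
  haveI : ∀ k, IsClosedImmersion (CohB1.thickι s' I k) := fun k => isClosedImmersion_thickι s' I k
  have hle : ∀ {Y : Scheme.{u}} [Y.Over (Spec (CommRingCat.of A))],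
      (CohB1.thickι (Y ↘ Spec (CommRingCat.of A)) I n).ker ≤ (CohB1.thickι (Y ↘ Spec (CommRingCat.of A)) I 0).ker := by
    intro Y _
    rw [ker_thickι, ker_thickι, zero_add, pow_one]
    refine (Scheme.IdealSheafData.comap_mono _) ?_
    intro U
    rw [Scheme.IdealSheafData.ideal_pow]
    exact Ideal.pow_le_self n.succ_ne_zero
  let jV := IsClosedImmersion.lift (CohB1.thickι s I n) (CohB1.thickι s I 0) hle
  let jU := IsClosedImmersion.lift (CohB1.thickι s' I n) (CohB1.thickι s' I 0) hle
  have hjV : jV ≫ CohB1.thickι s I n = CohB1.thickι s I 0 := IsClosedImmersion.lift_fac _ _ _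
  have hjU : jU ≫ CohB1.thickι s' I n = CohB1.thickι s' I 0 := IsClosedImmersion.lift_fac _ _ _
  have hcomm : jU ≫ w n = w 0 ≫ jV := by
    rw [← cancel_mono (CohB1.thickι s I n), Category.assoc, hw, reassoc_of% hjU, Category.assoc, hjV, hw]
  have sq : IsPullback jU (w 0) (w n) jV := by
    refine IsPullback.of_right ?_ hcomm (hsq n)
    rw [hjU, hjV]
    exact hsq 0
  haveI : IsClosedImmersion (jV ≫ CohB1.thickι s I n) := by rw [hjV]; infer_instance
  haveI : IsClosedImmersion jV := IsClosedImmersion.of_comp jV (CohB1.thickι s I n)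
  have hN : jV.ker ^ (n + 1) = ⊥ := by
    rw [FSchLib.ker_eq_comap_ker_comp jV (CohB1.thickι s I n), hjV, ker_thickι, ← FSchLib.comap_pow,
      zero_add, pow_one, ← FSchLib.comap_pow, ← ker_thickι]
    exact le_bot_iff.1 (Scheme.IdealSheafData.le_map_iff_comap_le.1 (by rw [Scheme.IdealSheafData.map_bot]))
  haveI : Surjective jV := by
    haveI : Surjective jV.ker.subschemeι := ⟨fun x => by
      have h : x ∈ Set.range jV.ker.subschemeι := by
        rw [Scheme.IdealSheafData.range_subschemeι]
        have hs := Scheme.IdealSheafData.support_pow jV.ker (n + 1) n.succ_ne_zero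
        rw [hN] at hs
        rw [← hs]
        simp
      exact h⟩
    rw [← jV.toImage_imageι]
    infer_instance
  haveI : Flat (w n) := MorphismProperty.of_isPullback (hsq n) ‹Flat f›
  haveI : IsIso (w 0) := hZ
  exact ⟨w n, isIso_of_flat_of_thick sq hN, (hw n).symm⟩

theorem bijective_pullback_map {n : ℕ} {M N : X.Modules} (hN : Formal.KilledBy (I ^ (n + 1)) N) :
    Function.Bijective ((Scheme.Modules.pullback f).map : (M ⟶ N) → _) := by
  obtain ⟨w, hw, hsq⟩ := exists_thickIso hf hZ n
  haveI := isClosedImmersion_thickι (X ↘ Spec (CommRingCat.of A)) I n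
  haveI := isClosedImmersion_thickι (X' ↘ Spec (CommRingCat.of A)) I n
  exact bijective_map_pullback hsq (killedByIdeal_of_killedBy I hN)
    (killedByIdeal_of_killedBy I (killedBy_pullback hf hN))

theorem isIso_counit {n : ℕ} {M : X'.Modules} (hM : Formal.KilledBy (I ^ (n + 1)) M) :
    IsIso ((Scheme.Modules.pullbackPushforwardAdjunction f).counit.app M) := by
  obtain ⟨w, hw, hsq⟩ := exists_thickIso hf hZ n
  haveI := isClosedImmersion_thickι (X ↘ Spec (CommRingCat.of A)) I n
  haveI := isClosedImmersion_thickι (X' ↘ Spec (CommRingCat.of A)) I n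
  have h1 := killedBy_pushforward hf hM
  have h2 := killedBy_pullback hf h1
  have h3 := killedBy_pushforward hf h2
  haveI := isIso_unit hsq (killedByIdeal_of_killedBy I h1) (killedByIdeal_of_killedBy I h2)
    (killedByIdeal_of_killedBy I h3) (killedByIdeal_of_killedBy I (killedBy_pullback hf h3))
  haveI : IsIso (((Scheme.Modules.pushforward f)).map ((Scheme.Modules.pullbackPushforwardAdjunction f).counit.app M)) := by
    have := (Scheme.Modules.pullbackPushforwardAdjunction f).right_triangle_components M
    exact IsIso.of_isIso_fac_left this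
  exact isIso_of_push_map hsq (killedByIdeal_of_killedBy I h2) (killedByIdeal_of_killedBy I hM) _

theorem isCoh_pushforward [IsLocallyNoetherian X] [IsLocallyNoetherian X'] {n : ℕ} {M : X'.Modules}
    (hM : Formal.KilledBy (I ^ (n + 1)) M) (hc : Coh.IsCoh M) : Coh.IsCoh ((Coh.push f).obj M) := by
  obtain ⟨w, hw, hsq⟩ := exists_thickIso hf hZ n
  haveI := isClosedImmersion_thickι (X ↘ Spec (CommRingCat.of A)) I n
  haveI := isClosedImmersion_thickι (X' ↘ Spec (CommRingCat.of A)) I n
  haveI : IsLocallyNoetherian (CohB1.thick (X' ↘ Spec (CommRingCat.of A)) I n) :=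
    LocallyOfFiniteType.isLocallyNoetherian (CohB1.thickι (X' ↘ Spec (CommRingCat.of A)) I n)
  exact isCoh_push hsq (killedByIdeal_of_killedBy I hM) hc

end Groth.Agent.Formal2Lib
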