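import Groth.Agent.Formal2Lib.SectionsLimit

/-!
# Formal cohomology on the complement of `V(𝔞)` in positive degrees
-/

set_option autoImplicit false
set_option backward.isDefEq.respectTransparency false

universe u

open CategoryTheory CategoryTheory.Limits AlgebraicGeometry Opposite TopologicalSpace
open Groth.Agent.Coherent Groth.Agent.Coherent.Serre

namespace Groth.Agent.Formal2Lib.SecU

variable {R : CommRingCat.{u}} [IsNoetherianRing R] (f : R) (𝔞 : Ideal R)

/-- An element killing `H^(q+2)` kills the cohomology of degree `q+1` on the complement. -/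
theorem smul_F_succ_eq_zero (q : ℕ) : ∀ (M : ModuleCat.{u} R) (c : R),
    (∀ x : _root_.LocCoh.H 𝔞 (q + 2) M, c • x = 0) →
      ∀ y : F (LocCoh.puncturedOpen R 𝔞) M (q + 1), c • y = 0 := by
  induction q with
  | zero => exact fun M c h y => smul_F_one_eq_zero 𝔞 M c h y
  | succ q ih =>
    intro M c h y
    obtain ⟨J, _, _, f, hJ, hf⟩ := LocCoh.exists_injective_embedding (R := R) M
    let g : J →ₗ[R] J ⧸ LinearMap.range f := Submodule.mkQ _
    have hg : Function.Surjective g := Submodule.mkQ_surjective _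
    have hfg : Function.Exact f g := LinearMap.exact_map_mkQ_range f
    let J' : ModuleCat.{u} R := ModuleCat.of R J
    let C : ModuleCat.{u} R := ModuleCat.of R (J ⧸ LinearMap.range f)
    have := subsingleton_F_injective 𝔞 J' (q + 1)
    have hC : ∀ x : _root_.LocCoh.H 𝔞 (q + 2) C, c • x = 0 := fun x => by
      have := LocCoh.subsingleton_H_of_injective (I := 𝔞) J (i := q + 2) (by omega)
      have hc : Function.Injective (LocCoh.connecting 𝔞 hf hg hfg (q + 2)) :=
        (injective_iff_map_eq_zero _).2 fun y hy => by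
          obtain ⟨z, rfl⟩ := (LocCoh.Hmap_connecting_exact hf hg hfg (q + 2) y).1 hy
          rw [Subsingleton.elim z 0, map_zero]
      exact hc (by rw [map_smul, h, map_zero])
    obtain ⟨z, rfl⟩ := (exact_delta_map _ (A := M) (B := J') (C := C) hf hg hfg (q + 1) y).1 (Subsingleton.elim _ _)
    exact (LinearMap.map_smul _ c z).symm.trans ((congrArg _ (ih C c hC z)).trans (map_zero _))

variable (M : ModuleCat.{u} R)

/-- Formal cohomology in positive degree when two local cohomology modules are killed by a power of `f`. -/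
theorem coh_bijective [Module.Finite R M] [IsAdicComplete (Ideal.span ({f} : Set R)) R] {c : ℕ}
    (q : ℕ) (h₁ : ∀ x : _root_.LocCoh.H 𝔞 (q + 2) M, f ^ c • x = 0) (h₂ : ∀ x : _root_.LocCoh.H 𝔞 (q + 3) M, f ^ c • x = 0) :
    let U0 := LocCoh.puncturedOpen R 𝔞
    let Q := fun n : ℕ => ModuleCat.of R (M ⧸ (Ideal.span ({f} : Set R) ^ (n + 1) • (⊤ : Submodule R M)))
    let π := fun n : ℕ => (Ideal.span ({f} : Set R) ^ (n + 1) • (⊤ : Submodule R M)).mkQ
    ∀ (tr : ∀ n : ℕ, Q (n + 1) →ₗ[R] Q n), (∀ n, (tr n).comp (π (n + 1)) = π n) →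
      (∀ x : F U0 M (q + 1), (∀ n, Fmap U0 (N := Q n) (π n) (q + 1) x = 0) → x = 0) ∧
      ∀ y : ∀ n, F U0 (Q n) (q + 1), (∀ n, Fmap U0 (tr n) (q + 1) (y (n + 1)) = y n) →
        ∃ x : F U0 M (q + 1), ∀ n, Fmap U0 (N := Q n) (π n) (q + 1) x = y n := by
  intro U0 Q π tr htr
  obtain ⟨s, hs⟩ := exists_stable f M
  let K := LinearMap.ker (f ^ s • LinearMap.id : M →ₗ[R] M)
  let M' : ModuleCat.{u} R := ModuleCat.of R (M ⧸ K)
  let qM : M →ₗ[R] M' := K.mkQ
  let KM : ModuleCat.{u} R := ModuleCat.of R K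
  let jK : KM →ₗ[R] M := K.subtype
  have hjK : Function.Injective jK := K.subtype_injective
  have hqM : Function.Surjective qM := K.mkQ_surjective
  have hKq : Function.Exact jK qM := LinearMap.exact_subtype_mkQ K
  let i : ℕ → (M' →ₗ[R] M) := fun j => K.liftQ (f ^ (j + s) • LinearMap.id) fun x hx => by
    have hx' : f ^ s • x = 0 := LinearMap.mem_ker.1 hx
    rw [LinearMap.mem_ker, LinearMap.smul_apply, LinearMap.id_apply, pow_add, mul_smul, hx', smul_zero]
  have hi : ∀ j, (i j).comp qM = f ^ (j + s) • LinearMap.id := fun j => LinearMap.ext fun x => rfl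
  have hi_inj : ∀ j, Function.Injective (i j) := fun j => by
    refine LinearMap.ker_eq_bot.1 (Submodule.ker_liftQ_eq_bot' _ _ ?_)
    exact (hs (j + s) (Nat.le_add_left s j)).symm
  have hi0 : ∀ j, i j = f ^ j • i 0 := fun j => Submodule.linearMap_qext K (LinearMap.ext fun x => by
    show f ^ (j + s) • x = f ^ j • f ^ (0 + s) • x
    rw [zero_add, pow_add, mul_smul])
  have hij : ∀ j (z : F U0 M' (q + 1)), Fmap U0 (i j) (q + 1) z = f ^ j • Fmap U0 (i 0) (q + 1) z := fun j z => by
    rw [hi0, Fmap_smul]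
  have hkill : ∀ x : F U0 M (q + 1), f ^ c • x = 0 := smul_F_succ_eq_zero 𝔞 q M _ h₁
  have hrange : ∀ j, LinearMap.range (i j) = Ideal.span ({f} : Set R) ^ (j + s) • (⊤ : Submodule R M) := fun j => by
    rw [Submodule.range_liftQ, range_pow_smul]
  have hex : ∀ j k, k + 1 = j + s → Function.Exact (i j) (π k) := fun j k hk => by
    rw [LinearMap.exact_iff, Submodule.ker_mkQ, hrange, hk]
  have hker : ∀ j k, k + 1 = j + s → ∀ x : F U0 M (q + 1), Fmap U0 (N := Q k) (π k) (q + 1) x = 0 →
      ∃ w, f ^ j • w = x := fun j k hk x hx => by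
    obtain ⟨z, rfl⟩ := (exact_map U0 (hi_inj j) (Submodule.mkQ_surjective _) (C := Q k) (hex j k hk) (q + 1) x).1 hx
    exact ⟨Fmap U0 (i 0) (q + 1) z, (hij j z).symm⟩
  refine ⟨fun x hx => ?_, fun y hy => ?_⟩
  · obtain ⟨w, hw⟩ := hker (c + 1) (c + s) (by omega) x (hx _)
    rw [← hw, pow_succ', mul_smul, hkill, smul_zero]
  have hH2 : ∀ x : _root_.LocCoh.H 𝔞 (q + 3) M', f ^ (s + c) • x = 0 := fun x => by
    let δ := LocCoh.connecting 𝔞 hjK hqM hKq (q + 3)
    have h0 : δ (f ^ s • x) = 0 := by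
      rw [map_smul]
      exact LocCoh.smul_H_eq_zero (fun z => Subtype.ext (LinearMap.mem_ker.1 z.2)) _ _
    obtain ⟨z, hz⟩ := (LocCoh.Hmap_connecting_exact hjK hqM hKq (q + 3) _).1 h0
    rw [pow_add, mul_comm, mul_smul, ← hz, ← map_smul, h₂, map_zero]
  have hFM' : ∀ z : F U0 M' (q + 2), f ^ (s + c) • z = 0 := smul_F_succ_eq_zero 𝔞 (q + 1) M' _ hH2
  let d : ∀ j k, k + 1 = j + s → (F U0 (Q k) (q + 1) →ₗ[R] F U0 M' (q + 2)) := fun j k hk =>
    delta U0 (hi_inj j) (Submodule.mkQ_surjective _) (C := Q k) (hex j k hk) (q + 1)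
  let v : ℕ → F U0 M' (q + 2) := fun j => d (j + 1) (j + s) (by omega) (y (j + s))
  have hv : ∀ j, f • v (j + 1) = v j := fun j => by
    have hc1 : (LinearMap.id : M →ₗ[R] M).comp (i (j + 2)) = (i (j + 1)).comp (f • LinearMap.id) := by
      refine Submodule.linearMap_qext K (LinearMap.ext fun x => ?_)
      show f ^ (j + 2 + s) • x = f ^ (j + 1 + s) • f • x
      rw [← mul_smul, ← pow_succ]
      congr 2
      omega
    have h := delta_natural U0 (A := M') (B := M) (C := Q (j + s + 1)) (hi_inj (j + 2)) (Submodule.mkQ_surjective _)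
      (hex (j + 2) (j + s + 1) (by omega)) (A' := M') (B' := M) (C' := Q (j + s)) (hi_inj (j + 1))
      (Submodule.mkQ_surjective _) (hex (j + 1) (j + s) (by omega))
      (f • LinearMap.id) LinearMap.id (tr (j + s)) hc1 (htr (j + s)) (q + 1) (y (j + s + 1))
    rw [Fmap_smul, Fmap_id, hy] at h
    have hidx : ∀ k k' (hk : k + 1 = j + 1 + 1 + s) (hk' : k' + 1 = j + 1 + 1 + s), k = k' →
        d (j + 1 + 1) k hk (y k) = d (j + 1 + 1) k' hk' (y k') := by
      intro k k' hk hk' e
      subst e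
      rfl
    show f • d (j + 1 + 1) (j + 1 + s) (by omega) (y (j + 1 + s)) = v j
    rw [hidx _ (j + s + 1) (by omega) (by omega) (by omega)]
    exact h
  have hv0 : ∀ j, v j = 0 := fun j => by
    have : ∀ m j, f ^ m • v (j + m) = v j := fun m => by
      induction m with
      | zero => intro j; rw [pow_zero, one_smul, add_zero]
      | succ m ih => intro j; rw [pow_succ, mul_smul, ← add_assoc, hv, ih]
    rw [← this (s + c) j]
    exact hFM' _
  choose z hz using fun j => ((exact_map_delta U0 (A := M') (B := M) (C := Q (j + s)) (hi_inj (j + 1))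
    (Submodule.mkQ_surjective _) (hex (j + 1) (j + s) (by omega)) (q + 1) (y (j + s))).1 (hv0 j))
  have hdown : ∀ (m k : ℕ), m ≤ k → ∀ x : F U0 M (q + 1),
      Fmap U0 (N := Q k) (π k) (q + 1) x = y k → Fmap U0 (N := Q m) (π m) (q + 1) x = y m := fun m k h x => by
    induction k, h using Nat.le_induction with
    | base => exact id
    | succ k hk ih =>
      intro hx
      refine ih ?_
      rw [← htr k, Fmap_comp, hx, hy]
  refine ⟨z c, fun m => ?_⟩
  have hconst : ∀ d, z (c + d) = z c := fun d => by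
    induction d with
    | zero => rfl
    | succ d ih =>
      obtain ⟨w, hw⟩ := hker (c + d + 1) (c + d + s) (by omega) (z (c + d + 1) - z (c + d)) (by
        rw [map_sub, hz (c + d), hdown (c + d + s) (c + d + 1 + s) (by omega) _ (hz (c + d + 1)), sub_self])
      rw [← ih, ← sub_eq_zero, show c + (d + 1) = c + d + 1 by omega, ← hw,
        show c + d + 1 = d + 1 + c by omega, pow_add, mul_smul, hkill, smul_zero]
  rw [← hconst m]
  exact hdown m (c + m + s) (by omega) _ (hz (c + m))

end Groth.Agent.Formal2Lib.SecU
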