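import Groth.Agent.Formal2Lib.SecLocal
import Groth.Prelude.Def_Formal2

/-!
# The comparison of sections near `V(I)` with formal sections in short exact sequences
-/

set_option autoImplicit false
set_option backward.isDefEq.respectTransparency false
set_option linter.unusedSectionVars false

universe u

open CategoryTheory CategoryTheory.Limits AlgebraicGeometry Opposite TopologicalSpace
open Groth.Agent.Coherent Groth.Agent.Coherent.Serre Groth.Agent.Formal2Lib.SecU

namespace Groth.Agent.Formal2Lib.ColimSES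

variable {R : CommRingCat.{u}} [IsNoetherianRing R] (I : Ideal R)

/-- The quotients. -/
abbrev Qm (M : ModuleCat.{u} R) (n : ℕ) : ModuleCat.{u} R :=
  ModuleCat.of R (M ⧸ (I ^ (n + 1) • (⊤ : Submodule R M)))

/-- The projections. -/
abbrev qm (M : ModuleCat.{u} R) (n : ℕ) : M →ₗ[R] Qm I M n :=
  (I ^ (n + 1) • (⊤ : Submodule R M)).mkQ

/-- Change of level. -/
noncomputable def trL (M : ModuleCat.{u} R) {m n : ℕ} (h : m ≤ n) : Qm I M n →ₗ[R] Qm I M m :=
  Submodule.mapQ _ _ LinearMap.id (by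
    rw [Submodule.comap_id]
    exact Submodule.smul_mono_left (Ideal.pow_le_pow_right (by omega)))

theorem trL_mk (M : ModuleCat.{u} R) {m n : ℕ} (h : m ≤ n) (x : M) : trL I M h (qm I M n x) = qm I M m x := rfl

theorem trL_comp (M : ModuleCat.{u} R) {l m n : ℕ} (h : l ≤ m) (h' : m ≤ n) :
    (trL I M h).comp (trL I M h') = trL I M (h.trans h') :=
  LinearMap.ext fun q => by
    obtain ⟨x, hx⟩ := Submodule.Quotient.mk_surjective _ q
    have hx' : qm I M n x = q := hx
    rw [← hx', LinearMap.comp_apply, trL_mk, trL_mk, trL_mk]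

theorem trL_self (M : ModuleCat.{u} R) (n : ℕ) : trL I M (le_refl n) = LinearMap.id :=
  Submodule.linearMap_qext _ (LinearMap.ext fun _ => rfl)

theorem trL_qm (M : ModuleCat.{u} R) {m n : ℕ} (h : m ≤ n) : (trL I M h).comp (qm I M n) = qm I M m :=
  LinearMap.ext fun _ => rfl

/-- The induced map on quotients. -/
noncomputable def mapQm {M N : ModuleCat.{u} R} (g : M →ₗ[R] N) (n : ℕ) : Qm I M n →ₗ[R] Qm I N n :=
  Submodule.mapQ _ _ g (Submodule.map_le_iff_le_comap.1 (by
    rw [Submodule.map_smul'']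
    exact Submodule.smul_mono le_rfl le_top))

theorem mapQm_qm {M N : ModuleCat.{u} R} (g : M →ₗ[R] N) (n : ℕ) :
    (mapQm I g n).comp (qm I M n) = (qm I N n).comp g :=
  LinearMap.ext fun _ => rfl

theorem mapQm_trL {M N : ModuleCat.{u} R} (g : M →ₗ[R] N) {m n : ℕ} (h : m ≤ n) :
    (mapQm I g m).comp (trL I M h) = (trL I N h).comp (mapQm I g n) :=
  Submodule.linearMap_qext _ (LinearMap.ext fun _ => rfl)

theorem exact_mapQm {M' M M'' : ModuleCat.{u} R} (f : M' →ₗ[R] M) (g : M →ₗ[R] M'')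
    (hg : Function.Surjective g) (hfg : LinearMap.range f = LinearMap.ker g) (n : ℕ) :
    Function.Exact (mapQm I f n) (mapQm I g n) := fun q => by
  obtain ⟨m, rfl⟩ := Submodule.Quotient.mk_surjective _ q
  constructor
  · intro h
    have h' : g m ∈ I ^ (n + 1) • (⊤ : Submodule R M'') := (Submodule.Quotient.mk_eq_zero _).1 h
    rw [← LinearMap.range_eq_top.2 hg, LinearMap.range_eq_map, ← Submodule.map_smul''] at h'
    obtain ⟨a, ha, hga⟩ := h'
    obtain ⟨x, hx⟩ : m - a ∈ LinearMap.range f := by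
      rw [hfg, LinearMap.mem_ker, map_sub, hga, sub_self]
    refine ⟨qm I M' n x, (LinearMap.congr_fun (mapQm_qm I f n) x).trans ((Submodule.Quotient.eq _).2 ?_)⟩
    rw [hx, sub_sub_cancel_left]
    exact neg_mem ha
  · rintro ⟨q', hq'⟩
    obtain ⟨x, rfl⟩ := Submodule.Quotient.mk_surjective _ q'
    rw [← hq']
    show (Submodule.Quotient.mk (g (f x)) : Qm I M'' n) = 0
    rw [LinearMap.mem_ker.1 (hfg.le ⟨x, rfl⟩), Submodule.Quotient.mk_zero]

theorem mapQm_surjective {M N : ModuleCat.{u} R} (g : M →ₗ[R] N) (hg : Function.Surjective g) (n : ℕ) :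
    Function.Surjective (mapQm I g n) := fun q => by
  obtain ⟨y, rfl⟩ := Submodule.Quotient.mk_surjective _ q
  obtain ⟨x, rfl⟩ := hg y
  exact ⟨qm I M n x, rfl⟩

section AR

variable {M' M : ModuleCat.{u} R} (f : M' →ₗ[R] M)

/-- The image of a quotient. -/
abbrev Km (n : ℕ) : ModuleCat.{u} R :=
  ModuleCat.of R (M' ⧸ Submodule.comap f (I ^ (n + 1) • (⊤ : Submodule R M)))

/-- The inclusion. -/
noncomputable def incK (n : ℕ) : Km I f n →ₗ[R] Qm I M n :=
  Submodule.mapQ _ _ f le_rfl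

theorem incK_injective (n : ℕ) : Function.Injective (incK I f n) :=
  (injective_iff_map_eq_zero _).2 fun q hq => by
    obtain ⟨x, rfl⟩ := Submodule.Quotient.mk_surjective _ q
    exact (Submodule.Quotient.mk_eq_zero _).2 ((Submodule.Quotient.mk_eq_zero _).1 hq :)

/-- The projection. -/
noncomputable def toK (n : ℕ) : Qm I M' n →ₗ[R] Km I f n :=
  Submodule.mapQ _ _ LinearMap.id (by
    rw [Submodule.comap_id, ← Submodule.map_le_iff_le_comap, Submodule.map_smul'']
    exact Submodule.smul_mono le_rfl le_top)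

theorem incK_toK (n : ℕ) : (incK I f n).comp (toK I f n) = mapQm I f n :=
  Submodule.linearMap_qext _ (LinearMap.ext fun _ => rfl)

/-- Artin–Rees. -/
theorem exists_backK [Module.Finite R M] (hf : Function.Injective f) :
    ∃ c : ℕ, ∀ n, ∃ q : Km I f (n + c) →ₗ[R] Qm I M' n,
      q.comp (toK I f (n + c)) = trL I M' (Nat.le_add_right n c) := by
  obtain ⟨c, hc⟩ := Ideal.exists_pow_inf_eq_pow_smul I (LinearMap.range f)
  refine ⟨c, fun n => ⟨Submodule.mapQ _ _ LinearMap.id fun x hx => ?_,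
    Submodule.linearMap_qext _ (LinearMap.ext fun _ => rfl)⟩⟩
  have h1 : f x ∈ I ^ (n + c + 1) • (⊤ : Submodule R M) ⊓ LinearMap.range f := ⟨hx, ⟨x, rfl⟩⟩
  rw [hc (n + c + 1) (by omega)] at h1
  have h2 : f x ∈ I ^ (n + 1) • Submodule.map f (⊤ : Submodule R M') := by
    rw [Submodule.map_top, show n + 1 = n + c + 1 - c from by omega]
    exact Submodule.smul_mono le_rfl inf_le_right h1
  rw [← Submodule.map_smul''] at h2
  obtain ⟨x', hx', he⟩ := h2
  rw [← hf he]
  exact hx'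

end AR

/-- The opens considered. -/
def Adm (U V : (Spec R).Opens) : Prop := V ≤ U ∧ ∀ p : Spec R, p ∈ U → I ≤ p.asIdeal → p ∈ V

variable {U : (Spec R).Opens}

theorem Adm.inf {I : Ideal R} {V V' : (Spec R).Opens} (h : Adm I U V) (h' : Adm I U V') :
    Adm I U (V ⊓ V') :=
  ⟨inf_le_left.trans h.1, fun p hp hI => ⟨h.2 p hp hI, h'.2 p hp hI⟩⟩

/-- The injectivity half. -/
def Inj (U : (Spec R).Opens) (M : ModuleCat.{u} R) : Prop :=
  ∀ (V : (Spec R).Opens) (_ : Adm I U V) (x : F V M 0), (∀ n, Fmap V (qm I M n) 0 x = 0) →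
    ∃ (V' : (Spec R).Opens) (h : Adm I U V' ∧ V' ≤ V), res h.2 0 x = 0

/-- The surjectivity half. -/
def Surj (U : (Spec R).Opens) (M : ModuleCat.{u} R) : Prop :=
  ∀ y : ∀ n, F U (Qm I M n) 0, (∀ n, Fmap U (trL I M (Nat.le_succ n)) 0 (y (n + 1)) = y n) →
    ∃ (V : (Spec R).Opens) (hV : Adm I U V) (x : F V M 0), ∀ n, res hV.1 0 (y n) = Fmap V (qm I M n) 0 x

variable {I}

theorem compat_trL {M : ModuleCat.{u} R} (y : ∀ n, F U (Qm I M n) 0)
    (hy : ∀ n, Fmap U (trL I M (Nat.le_succ n)) 0 (y (n + 1)) = y n) {m n : ℕ} (h : m ≤ n) :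
    Fmap U (trL I M h) 0 (y n) = y m := by
  induction n, h using Nat.le_induction with
  | base => rw [trL_self, Fmap_id]
  | succ n hmn ih => rw [← trL_comp I M hmn (Nat.le_succ n), Fmap_comp, hy, ih]

/-- Sections of modules killed by a power of `I` are determined near `V(I)`. -/
theorem res_injective {M : ModuleCat.{u} R} (n : ℕ) {V : (Spec R).Opens} (hV : Adm I U V) :
    Function.Injective (res (M := Qm I M n) hV.1 0) :=
  (injective_iff_map_eq_zero _).2 fun x hx => eq_zero_of_local x fun p hp => by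
    by_cases hI : I ≤ p.asIdeal
    · exact ⟨V, hV.1, hV.2 p hp hI, hx⟩
    obtain ⟨a, haI, hap⟩ := Set.not_subset.1 hI
    obtain ⟨b, hb, e, m, hpb, -⟩ := exists_num x hp
    have hle : specBasicOpen (R := R) (b * a) ≤ U :=
      le_trans (PrimeSpectrum.basicOpen_mul_le_left b a) hb
    refine ⟨_, hle, fun h => (p.2.mem_or_mem h).elim hpb hap, ?_⟩
    have h0 : a ^ (n + 1) • (LinearMap.id : Qm I M n →ₗ[R] Qm I M n) = 0 := LinearMap.ext fun q => by
      obtain ⟨m, rfl⟩ := Submodule.Quotient.mk_surjective _ q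
      exact (Submodule.Quotient.mk_eq_zero _).2 (Submodule.smul_mem_smul (Ideal.pow_mem_pow haI _) trivial)
    refine (smul_bijective (M := Qm I M n) (b * a) (a ^ (n + 1)) ⟨n + 1, ⟨b ^ (n + 1), by ring⟩⟩).1 ?_
    show a ^ (n + 1) • res hle 0 x = a ^ (n + 1) • 0
    have h := Fmap_smul (specBasicOpen (R := R) (b * a)) (LinearMap.id : Qm I M n →ₗ[R] Qm I M n) (a ^ (n + 1)) 0
      (res hle 0 x)
    rw [h0, Fmap_zero, Fmap_id] at h
    rw [smul_zero]
    exact h.symm

section SES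

variable {M' M M'' : ModuleCat.{u} R} (f : M' →ₗ[R] M) (g : M →ₗ[R] M'')
  (hf : Function.Injective f) (hg : Function.Surjective g) (hfg : LinearMap.range f = LinearMap.ker g)

include hf hg hfg in
theorem exact_Fmap (V : (Spec R).Opens) : Function.Exact (Fmap V f 0) (Fmap V g 0) :=
  exact_map V hf hg (LinearMap.exact_iff.2 hfg.symm) 0

include hf hg hfg in
theorem Fmap_injective (V : (Spec R).Opens) : Function.Injective (Fmap V f 0) :=
  Fmap_zero_injective V hf hg (LinearMap.exact_iff.2 hfg.symm)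

include hg hfg in
theorem exact_incK (n : ℕ) : Function.Exact (incK I f n) (mapQm I g n) := fun q => by
  refine (exact_mapQm I f g hg hfg n q).trans ⟨fun ⟨x, hx⟩ => ⟨toK I f n x, ?_⟩, fun ⟨x, hx⟩ => ?_⟩
  · exact (LinearMap.congr_fun (incK_toK I f n) x).trans hx
  · obtain ⟨m, rfl⟩ := Submodule.Quotient.mk_surjective _ x
    exact ⟨qm I M' n m, hx⟩

include hf hg hfg in
/-- Formal families mapped to zero come from formal families. -/
theorem exists_of_map_eq_zero [Module.Finite R M] (y : ∀ n, F U (Qm I M n) 0)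
    (hy : ∀ n, Fmap U (trL I M (Nat.le_succ n)) 0 (y (n + 1)) = y n)
    (h0 : ∀ n, Fmap U (mapQm I g n) 0 (y n) = 0) :
    ∃ y' : ∀ n, F U (Qm I M' n) 0, (∀ n, Fmap U (trL I M' (Nat.le_succ n)) 0 (y' (n + 1)) = y' n) ∧
      ∀ n, Fmap U (mapQm I f n) 0 (y' n) = y n := by
  obtain ⟨c, hc⟩ := exists_backK I f hf
  choose q hq using hc
  have hK : ∀ n, ∃ z : F U (Km I f n) 0, Fmap U (incK I f n) 0 z = y n := fun n =>
    (exact_map U (incK_injective I f n) (mapQm_surjective I g hg n) (exact_incK f g hg hfg n) 0 _).1 (h0 n)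
  choose z hz using hK
  have hi : ∀ n, Function.Injective (Fmap U (incK I f n) 0) := fun n =>
    Fmap_zero_injective U (incK_injective I f n) (mapQm_surjective I g hg n) (exact_incK f g hg hfg n)
  let trK : ∀ n, Km I f (n + 1) →ₗ[R] Km I f n := fun n => Submodule.mapQ _ _ LinearMap.id (by
    rw [Submodule.comap_id]
    exact Submodule.comap_mono (Submodule.smul_mono_left (Ideal.pow_le_pow_right (by omega))))
  have htz : ∀ n, Fmap U (trK n) 0 (z (n + 1)) = z n := fun n => hi n (by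
    have e : (incK I f n).comp (trK n) = (trL I M (Nat.le_succ n)).comp (incK I f (n + 1)) :=
      Submodule.linearMap_qext _ (LinearMap.ext fun _ => rfl)
    rw [← Fmap_comp, e, Fmap_comp, hz, hy, hz])
  refine ⟨fun n => Fmap U (q n) 0 (z (n + c)), fun n => ?_, fun n => ?_⟩
  · have hd : ∀ k l (h : l = k + 1), ∃ d : Km I f l →ₗ[R] Km I f k, Fmap U d 0 (z l) = z k ∧
        d.comp (toK I f l) = (toK I f k).comp (trL I M' (h ▸ Nat.le_succ k)) := by
      rintro k l rfl
      exact ⟨trK k, htz k, Submodule.linearMap_qext _ (LinearMap.ext fun _ => rfl)⟩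
    obtain ⟨d, hd1, hd2⟩ := hd (n + c) (n + 1 + c) (by omega)
    have hsurj : Function.Surjective (toK I f (n + 1 + c)) := fun x => by
      obtain ⟨m, rfl⟩ := Submodule.Quotient.mk_surjective _ x
      exact ⟨qm I M' _ m, rfl⟩
    have e : (trL I M' (Nat.le_succ n)).comp (q (n + 1)) = (q n).comp d :=
      LinearMap.ext fun x => by
        obtain ⟨w, rfl⟩ := hsurj x
        refine LinearMap.congr_fun (f := ((trL I M' (Nat.le_succ n)).comp (q (n + 1))).comp (toK I f _))
          (g := ((q n).comp d).comp (toK I f _)) ?_ w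
        rw [LinearMap.comp_assoc, hq, LinearMap.comp_assoc, hd2, ← LinearMap.comp_assoc, hq, trL_comp, trL_comp]
    show Fmap U (trL I M' (Nat.le_succ n)) 0 (Fmap U (q (n + 1)) 0 (z (n + 1 + c))) = Fmap U (q n) 0 (z (n + c))
    rw [← Fmap_comp, e, Fmap_comp, hd1]
  · have e : (mapQm I f n).comp (q n) = (trL I M (Nat.le_add_right n c)).comp (incK I f (n + c)) :=
      LinearMap.ext fun x => by
        obtain ⟨m, rfl⟩ := Submodule.Quotient.mk_surjective _ x
        exact congrArg (mapQm I f n) (LinearMap.congr_fun (hq n) (qm I M' (n + c) m))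
    show Fmap U (mapQm I f n) 0 (Fmap U (q n) 0 (z (n + c))) = y n
    rw [← Fmap_comp, e, Fmap_comp, hz, compat_trL y hy]

include hf hg hfg in
/-- A section of `M'` with formally vanishing image formally vanishes. -/
theorem formal_zero_of_map [Module.Finite R M] {V : (Spec R).Opens} (x : F V M' 0)
    (h : ∀ n, Fmap V (qm I M n) 0 (Fmap V f 0 x) = 0) (n : ℕ) : Fmap V (qm I M' n) 0 x = 0 := by
  obtain ⟨c, hc⟩ := exists_backK I f hf
  obtain ⟨q, hq⟩ := hc n
  have h1 : Fmap V (toK I f (n + c)) 0 (Fmap V (qm I M' (n + c)) 0 x) = 0 := by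
    refine Fmap_zero_injective V (incK_injective I f _) (mapQm_surjective I g hg _) (exact_incK f g hg hfg _) ?_
    rw [← Fmap_comp, incK_toK, ← Fmap_comp, mapQm_qm, Fmap_comp, h, map_zero]
  rw [← trL_qm I M' (Nat.le_add_right n c), Fmap_comp, ← hq, Fmap_comp, h1, map_zero]

include hf hg hfg in
theorem inj_left (h : Inj I U M) : Inj I U M' := fun V hV x hx => by
  obtain ⟨V', hV', h0⟩ := h V hV (Fmap V f 0 x) fun n => by
    rw [← Fmap_comp, ← mapQm_qm, Fmap_comp, hx, map_zero]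
  rw [res_Fmap] at h0
  exact ⟨V', hV', Fmap_injective f g hf hg hfg V' (h0.trans (map_zero _).symm)⟩

include hf hg hfg in
theorem surj_left [Module.Finite R M] (h : Surj I U M) (h'' : Inj I U M'') : Surj I U M' := fun y' hy' => by
  obtain ⟨V, hV, z, hz⟩ := h (fun n => Fmap U (mapQm I f n) 0 (y' n)) fun n => by
    rw [← Fmap_comp, ← mapQm_trL, Fmap_comp, hy']
  have hgf : ∀ n, (mapQm I g n).comp (mapQm I f n) = 0 := fun n =>
    LinearMap.ext (exact_mapQm I f g hg hfg n).apply_apply_eq_zero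
  obtain ⟨V', hV', h0⟩ := h'' V hV (Fmap V g 0 z) fun n => by
    rw [← Fmap_comp, ← mapQm_qm, Fmap_comp, ← hz, ← res_Fmap, ← Fmap_comp, hgf, Fmap_zero, map_zero]
  rw [res_Fmap] at h0
  obtain ⟨x, hx⟩ := (exact_Fmap f g hf hg hfg V' _).1 h0
  refine ⟨V', hV'.1, x, fun n => ?_⟩
  obtain ⟨c, hc⟩ := exists_backK I f hf
  obtain ⟨q, hq⟩ := hc n
  have h1 : res hV'.1.1 0 (Fmap U (toK I f (n + c)) 0 (y' (n + c))) =
      Fmap V' (toK I f (n + c)) 0 (Fmap V' (qm I M' (n + c)) 0 x) := by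
    refine Fmap_zero_injective V' (incK_injective I f _) (mapQm_surjective I g hg _) (exact_incK f g hg hfg _) ?_
    rw [← res_Fmap, ← Fmap_comp, incK_toK, ← Fmap_comp, incK_toK, ← Fmap_comp, mapQm_qm, Fmap_comp, hx,
      ← res_Fmap, ← hz, SecU.res_res]
  rw [← compat_trL y' hy' (Nat.le_add_right n c), res_Fmap, ← trL_qm I M' (Nat.le_add_right n c), Fmap_comp,
    ← hq, Fmap_comp, Fmap_comp, ← res_Fmap, h1]

include hf hg hfg in
theorem inj_mid [Module.Finite R M] (h' : Inj I U M') (h'' : Inj I U M'') : Inj I U M := fun V hV x hx => by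
  obtain ⟨V', hV', h0⟩ := h'' V hV (Fmap V g 0 x) fun n => by
    rw [← Fmap_comp, ← mapQm_qm, Fmap_comp, hx, map_zero]
  rw [res_Fmap] at h0
  obtain ⟨x', hx'⟩ := (exact_Fmap f g hf hg hfg V' _).1 h0
  obtain ⟨V'', hV'', h1⟩ := h' V' hV'.1 x' (formal_zero_of_map f g hf hg hfg x' fun n => by
    rw [hx', ← res_Fmap, hx, map_zero])
  refine ⟨V'', ⟨hV''.1, hV''.2.trans hV'.2⟩, ?_⟩
  rw [← SecU.res_res hV'.2 hV''.2, ← hx', res_Fmap, h1, map_zero]

end SES

section Middle

variable {M : ModuleCat.{u} R}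

/-- Scalars invertible on `W` act bijectively. -/
theorem smul_bijective_of_le {b : R} {W : (Spec R).Opens} (hW : W ≤ specBasicOpen (R := R) b) (k : ℕ) :
    Function.Bijective (fun x : F W M 0 => b ^ k • x) := by
  have h1 := (Module.End.isUnit_iff _).1
    ((((tilde (R := R) M).isUnit_algebraMap_end_of_le_basicOpen b hW)).pow k)
  rw [← map_pow] at h1
  let s := secV W (tilde (R := R) M)
  have : (fun x : F W M 0 => b ^ k • x) = s.symm ∘ (fun y => b ^ k • y) ∘ s := by
    funext x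
    simp [s, map_smul]
  rw [this]
  exact s.symm.bijective.comp (h1.comp s.bijective)

/-- Sections vanishing on `D(b)` are killed by a power of `b`. -/
theorem exists_pow_smul_eq_zero {b : R} {V : (Spec R).Opens} (hb : specBasicOpen (R := R) b ≤ V)
    (d : F V M 0) (hd : res hb 0 d = 0) : ∃ k : ℕ, b ^ k • d = 0 := by
  have key : ∀ p : V, ∃ (W : (Spec R).Opens) (hW : W ≤ V) (k : ℕ), p.1 ∈ W ∧ b ^ k • res hW 0 d = 0 := by
    rintro ⟨p, hp⟩
    obtain ⟨c, hc, e, m, hpc, hm⟩ := exists_num d hp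
    have h1 : unit (specBasicOpen (R := R) (b * c)) M m = 0 := by
      rw [← res_unit (PrimeSpectrum.basicOpen_mul_le_right b c : specBasicOpen (R := R) (b * c) ≤ specBasicOpen (R := R) c) m,
        ← hm, map_smul, SecU.res_res hc, ← SecU.res_res hb
          (PrimeSpectrum.basicOpen_mul_le_left b c : specBasicOpen (R := R) (b * c) ≤ specBasicOpen (R := R) b),
        hd, map_zero, smul_zero]
    obtain ⟨k, hk⟩ := (unit_eq_zero_iff (b * c) m).1 h1
    refine ⟨_, hc, k, hpc, (smul_bijective_of_le (b := c) le_rfl (k + e)).1 ?_⟩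
    show c ^ (k + e) • b ^ k • res hc 0 d = c ^ (k + e) • 0
    rw [smul_zero, smul_comm, pow_add, mul_smul, hm, ← mul_smul, ← mul_pow, ← map_smul, hk, map_zero]
  choose W hW k hp hk using key
  obtain ⟨s, hs⟩ := (TopologicalSpace.NoetherianSpace.isCompact (V : Set (Spec R))).elim_finite_subcover
    (fun p : V => (W p : Set (Spec R))) (fun p => (W p).2) fun p hpV => Set.mem_iUnion.2 ⟨⟨p, hpV⟩, hp _⟩
  refine ⟨s.sup k, eq_zero_of_local _ fun p hpV => ?_⟩
  obtain ⟨q, hq, hpq⟩ := Set.mem_iUnion₂.1 (hs hpV)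
  refine ⟨W q, hW q, hpq, ?_⟩
  rw [map_smul, ← Nat.sub_add_cancel (Finset.le_sup (f := k) hq), pow_add, mul_smul, hk, smul_zero]

/-- Sections glue. -/
theorem exists_glue {ι : Type u} (D : ι → (Spec R).Opens) (x : ∀ i, F (D i) M 0)
    (h : ∀ i j, res (inf_le_left : D i ⊓ D j ≤ D i) 0 (x i) = res (inf_le_right : D i ⊓ D j ≤ D j) 0 (x j)) :
    ∃ y : F (⨆ i, D i) M 0, ∀ i, res (le_iSup D i) 0 y = x i := by
  obtain ⟨s, hs, -⟩ := TopCat.Sheaf.existsUnique_gluing' (X := (Spec R).toTopCat) (Coh.toAb (tilde (R := R) M))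
    D (⨆ i, D i) (fun i => homOfLE (le_iSup D i)) le_rfl (fun i => secV (D i) (tilde M) (x i)) fun i j =>
      (secV_res (tilde M) inf_le_left (x i)).symm.trans
        ((congrArg (secV _ (tilde M)) (h i j)).trans (secV_res (tilde M) inf_le_right (x j)))
  refine ⟨(secV _ (tilde M)).symm s, fun i => (secV (D i) (tilde M)).injective ((secV_res _ _ _).trans ?_)⟩
  rw [LinearEquiv.apply_symm_apply]
  exact hs i

/-- A formal family is algebraic once it is so after multiplying by functions whose loci cover the support. -/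
theorem exists_of_local (hi : Inj I U M) (y : ∀ n, F U (Qm I M n) 0) {ι : Type u} [Finite ι] (b : ι → R)
    (hcov : ∀ p : Spec R, p ∈ U → I ≤ p.asIdeal → ∃ i, b i ∉ p.asIdeal)
    (N : ι → ℕ) (V : ι → (Spec R).Opens) (hV : ∀ i, Adm I U (V i)) (z : ∀ i, F (V i) M 0)
    (hz : ∀ i n, Fmap (V i) (qm I M n) 0 (z i) = res (hV i).1 0 (b i ^ N i • y n)) :
    ∃ (W : (Spec R).Opens) (hW : Adm I U W) (x : F W M 0), ∀ n, res hW.1 0 (y n) = Fmap W (qm I M n) 0 x := by
  classical
  cases nonempty_fintype ι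
  have h2 : ∀ i j, ∃ (W : (Spec R).Opens) (hW : Adm I U W ∧ W ≤ V i ⊓ V j),
      res hW.2 0 (b j ^ N j • res inf_le_left 0 (z i) - b i ^ N i • res inf_le_right 0 (z j)) = 0 := fun i j =>
    hi _ ((hV i).inf (hV j)) _ fun n => by
      rw [map_sub, map_smul, map_smul, ← res_Fmap, ← res_Fmap, hz, hz, SecU.res_res, SecU.res_res, map_smul,
        map_smul, smul_comm, sub_self]
  choose W hW hW0 using h2
  let W0 : (Spec R).Opens := U ⊓ Finset.univ.inf fun ij : ι × ι => W ij.1 ij.2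
  have hWle : ∀ i j, W0 ≤ W i j := fun i j => inf_le_right.trans (Finset.inf_le (Finset.mem_univ (i, j)))
  have hW0V : ∀ i, W0 ≤ V i := fun i => ((hWle i i).trans (hW i i).2).trans inf_le_left
  let D : ι → (Spec R).Opens := fun i => W0 ⊓ specBasicOpen (R := R) (b i)
  choose x hx using fun i => (smul_bijective_of_le (M := M) (b := b i) (W := D i) inf_le_right (N i)).2
    (res ((inf_le_left : D i ≤ W0).trans (hW0V i)) 0 (z i))
  obtain ⟨x0, hx0⟩ := exists_glue D x fun i j => by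
    refine (smul_bijective_of_le (inf_le_left.trans inf_le_right) (N i)).1
      ((smul_bijective_of_le (inf_le_right.trans inf_le_right) (N j)).1 ?_)
    have h0 : res (inf_le_left.trans (inf_le_left.trans (hWle i j)) : D i ⊓ D j ≤ W i j) 0
        (res (hW i j).2 0 (b j ^ N j • res inf_le_left 0 (z i) - b i ^ N i • res inf_le_right 0 (z j))) = 0 := by
      rw [hW0 i j, map_zero]
    rw [SecU.res_res, map_sub, map_smul, map_smul, SecU.res_res, SecU.res_res, sub_eq_zero] at h0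
    have e1 := congrArg (res (inf_le_left : D i ⊓ D j ≤ D i) 0) (hx i)
    have e2 := congrArg (res (inf_le_right : D i ⊓ D j ≤ D j) 0) (hx j)
    rw [map_smul, SecU.res_res] at e1 e2
    show b j ^ N j • b i ^ N i • res _ 0 (x i) = b j ^ N j • b i ^ N i • res _ 0 (x j)
    rw [e1, smul_comm (b j ^ N j) (b i ^ N i), e2]
    exact h0
  have hadm : Adm I U (⨆ i, D i) := by
    refine ⟨iSup_le fun i => inf_le_left.trans inf_le_left, fun p hp hI => ?_⟩
    obtain ⟨i, hi⟩ := hcov p hp hI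
    refine Opens.mem_iSup.2 ⟨i, ⟨hp, ?_⟩, hi⟩
    exact Finset.inf_induction (p := fun O : (Spec R).Opens => p ∈ O) trivial (fun O hO O' hO' => ⟨hO, hO'⟩)
      fun ij _ => (hW ij.1 ij.2).1.2 p hp hI
  refine ⟨_, hadm, x0, fun n => sub_eq_zero.1 (eq_zero_of_local _ fun p hp => ?_)⟩
  obtain ⟨i, hpi⟩ := Opens.mem_iSup.1 hp
  refine ⟨D i, le_iSup D i, hpi, (smul_bijective_of_le inf_le_right (N i)).1 ?_⟩
  show b i ^ N i • _ = b i ^ N i • 0
  rw [smul_zero, map_sub, SecU.res_res, res_Fmap, hx0, smul_sub, ← map_smul, ← map_smul (Fmap _ _ 0),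
    show b i ^ N i • x i = _ from hx i, ← res_Fmap, hz, SecU.res_res, sub_self]

end Middle

section SES2

variable {M' M M'' : ModuleCat.{u} R} (f : M' →ₗ[R] M) (g : M →ₗ[R] M'')
  (hf : Function.Injective f) (hg : Function.Surjective g) (hfg : LinearMap.range f = LinearMap.ker g)

include hf hg hfg in
theorem surj_mid [Module.Finite R M] (h' : Surj I U M') (hi' : Inj I U M') (h'' : Surj I U M'')
    (hi'' : Inj I U M'') : Surj I U M := fun y hy => by
  obtain ⟨V, hV, z'', hz''⟩ := h'' (fun n => Fmap U (mapQm I g n) 0 (y n)) fun n => by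
    rw [← Fmap_comp, ← mapQm_trL, Fmap_comp, hy]
  have key : ∀ p : V, ∃ (b : R) (N : ℕ) (V1 : (Spec R).Opens) (h1 : Adm I U V1) (z : F V1 M 0),
      p.1 ∈ specBasicOpen (R := R) b ∧ ∀ n, Fmap V1 (qm I M n) 0 z = res h1.1 0 (b ^ N • y n) := by
    rintro ⟨p, hp⟩
    obtain ⟨b, hb, e, m'', hpb, hm''⟩ := exists_num z'' hp
    obtain ⟨k, hk⟩ := exists_pow_smul_eq_zero hb (b ^ e • z'' - unit V M'' m'') (by
      rw [map_sub, map_smul, hm'', res_unit, sub_self])
    obtain ⟨m, hm⟩ := hg (b ^ k • m'')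
    let w : ∀ n, F U (Qm I M n) 0 := fun n => b ^ (k + e) • y n - unit U (Qm I M n) (qm I M n m)
    have hw : ∀ n, Fmap U (trL I M (Nat.le_succ n)) 0 (w (n + 1)) = w n := fun n => by
      show Fmap U _ 0 (_ - _) = _
      rw [map_sub, map_smul, hy, unit_natural, trL_mk]
    have hgw : ∀ n, Fmap U (mapQm I g n) 0 (w n) = 0 := fun n => res_injective n hV (by
      show res hV.1 0 (Fmap U _ 0 (_ - _)) = res hV.1 0 0
      rw [map_zero, map_sub, map_sub, map_smul, map_smul, unit_natural, res_unit, hz'',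
        show mapQm I g n (qm I M n m) = qm I M'' n (g m) from LinearMap.congr_fun (mapQm_qm I g n) m, hm,
        ← unit_natural, ← map_smul, ← map_sub, map_smul (unit V M''), pow_add, mul_smul, ← smul_sub, hk, map_zero])
    obtain ⟨y', hy', hfy'⟩ := exists_of_map_eq_zero f g hf hg hfg w hw hgw
    obtain ⟨V1, h1, x', hx'⟩ := h' y' hy'
    refine ⟨b, k + e, V1, h1, Fmap V1 f 0 x' + unit V1 M m, hpb, fun n => ?_⟩
    rw [map_add, ← Fmap_comp, ← mapQm_qm, Fmap_comp, ← hx', ← res_Fmap, hfy', unit_natural]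
    show res h1.1 0 (_ - _) + _ = _
    rw [map_sub, res_unit, sub_add_cancel]
  choose b N V1 hV1 z hpb hz using key
  obtain ⟨s, hs⟩ := (TopologicalSpace.NoetherianSpace.isCompact (V : Set (Spec R))).elim_finite_subcover
    (fun p : V => (specBasicOpen (R := R) (b p) : Set (Spec R))) (fun p => (specBasicOpen (R := R) (b p)).2)
    fun p hpV => Set.mem_iUnion.2 ⟨⟨p, hpV⟩, hpb _⟩
  refine exists_of_local (inj_mid f g hf hg hfg hi' hi'') y (ι := s) (fun i => b i.1) (fun p hp hI => ?_)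
    (fun i => N i.1) (fun i => V1 i.1) (fun i => hV1 i.1) (fun i => z i.1) fun i => hz i.1
  obtain ⟨q, hq, hpq⟩ := Set.mem_iUnion₂.1 (hs (hV.2 p hp hI))
  exact ⟨⟨q, hq⟩, hpq⟩

end SES2

end Groth.Agent.Formal2Lib.ColimSES

namespace Groth.Agent.Formal2Lib.ColimSES

/-- The conditions, in the language of the prelude. -/
theorem formalCohColimBijective_iff (A : Type u) [CommRing A] [IsNoetherianRing A] (I : Ideal A)
    (M : Type u) [AddCommGroup M] [Module A M] (U : (Spec (CommRingCat.of A)).Opens) :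
    Formal2.FormalCohColimBijective A I M 0 U ↔
      Inj (R := CommRingCat.of A) I U (ModuleCat.of A M) ∧ Surj (R := CommRingCat.of A) I U (ModuleCat.of A M) := by
  have hA : ∀ V, Formal2.Admissible A I U V ↔ Adm (R := CommRingCat.of A) I U V := fun V =>
    and_congr Iff.rfl (forall_congr' fun p => forall_congr' fun _ => imp_congr_left Iff.rfl)
  constructor
  · rintro ⟨h1, h2⟩
    refine ⟨fun V hV x hx => ?_, fun y hy => ?_⟩
    · obtain ⟨V', ⟨hV', hle⟩, h0⟩ := h1 V ((hA V).2 hV) x hx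
      exact ⟨V', ⟨(hA V').1 hV', hle⟩, h0⟩
    · obtain ⟨V, hV, x, hx⟩ := h2 y hy
      exact ⟨V, (hA V).1 hV, x, hx⟩
  · rintro ⟨h1, h2⟩
    refine ⟨fun V hV x hx => ?_, fun y hy => ?_⟩
    · obtain ⟨V', ⟨hV', hle⟩, h0⟩ := h1 V ((hA V).1 hV) x hx
      exact ⟨V', ⟨(hA V').2 hV', hle⟩, h0⟩
    · obtain ⟨V, hV, x, hx⟩ := h2 y hy
      exact ⟨V, (hA V).2 hV, x, hx⟩

end Groth.Agent.Formal2Lib.ColimSES
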