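import Groth.Agent.Formal2Lib.PrincipalSys
import Groth.Agent.Coherent.FormalFunctions
import Groth.Agent.AdicRing.Basic
import Groth.Agent.Formal2Lib.ProCohom

/-!
# Formal functions for a regular element and finite cohomology
-/

set_option autoImplicit false
set_option backward.isDefEq.respectTransparency false

universe u

open CategoryTheory CategoryTheory.Limits AlgebraicGeometry Opposite TopologicalSpace
open Groth.Agent.Coherent Groth.Agent.Coherent.Serre Groth.Agent.Coherent.Existence

namespace Groth.Agent.Formal2Lib.FiniteLimit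

attribute [local instance 20000] Groth.Agent.Coherent.hhMod Groth.Agent.Coherent.hhGrp

variable {A : Type u} [CommRing A] {X : Scheme.{u}} [X.Over (Spec (CommRingCat.of A))]

local notation "φ" => baseHom A X

variable (t : A) (F : X.Modules) (hreg : Mono (Formal.smulMod A F t))

/-- The sequence of multiplication by a power. -/
noncomputable def seq (k : ℕ) : ShortComplex X.Modules :=
  ShortComplex.mk (Formal.smulMod A F (t ^ (k + 1))) (Formal.modPowπ (Ideal.span ({t} : Set A)) (k + 1) F) (Principal.smul_π t F (k + 1))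

include hreg in
theorem seq_shortExact (k : ℕ) : (seq t F k).ShortExact := by
  have : Mono (seq t F k).f := Principal.mono_pow t hreg (k + 1)
  have : Epi (seq t F k).g := (inferInstance : Epi (cokernel.π _))
  refine { exact := (ShortComplex.exact_iff_exact_up_to_refinements _).2 fun {Z} x hx => ?_ }
  exact (Principal.exists_refinement t F (k + 1) x hx).imp fun Z' ⟨e, he, y, hy⟩ => ⟨e, he, y, hy⟩

include hreg

theorem π_eq_zero_iff (k q : ℕ) (x : HA φ F (⊤ : X.Opens) q) :
    postA φ (Formal.modPowπ (Ideal.span ({t} : Set A)) (k + 1) F) ⊤ q x = 0 ↔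
      x ∈ (Ideal.span ({t} : Set A)) ^ (k + 1) • (⊤ : Submodule A (HA φ F (⊤ : X.Opens) q)) := by
  rw [Ideal.span_singleton_pow, Submodule.ideal_span_singleton_smul, Submodule.mem_smul_pointwise_iff_exists]
  refine (exact_postA φ (seq_shortExact t F hreg k) ⊤ q x).trans ⟨?_, ?_⟩
  · rintro ⟨y, hy⟩
    exact ⟨y, trivial, hy⟩
  · rintro ⟨y, -, hy⟩
    exact ⟨y, hy⟩

variable [IsNoetherianRing A] [IsAdicComplete (Ideal.span ({t} : Set A)) A]

theorem injective_of_finite (q : ℕ) [Module.Finite A (Coh.HH X F q)] :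
    Function.Injective (Formal.toHHlim (Ideal.span ({t} : Set A)) F q) := by
  refine (injective_iff_map_eq_zero _).2 fun x hx => (HHA (A := A) F q).injective ?_
  rw [map_zero]
  have : Module.Finite A (HA φ F (⊤ : X.Opens) q) := (finite_HH_iff A F q).1 ‹_›
  have hH : IsHausdorff (Ideal.span ({t} : Set A)) (HA φ F (⊤ : X.Opens) q) :=
    IsHausdorff.of_le_jacobson _ _ (IsAdicComplete.le_jacobson_bot _)
  refine hH.haus' _ fun n => SModEq.zero.2 (Submodule.smul_mono_left (Ideal.pow_le_pow_right (Nat.le_succ n)) ?_)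
  refine (π_eq_zero_iff t F hreg n q _).1 ((HHA_natural F (Formal.modPowπ (Ideal.span ({t} : Set A)) (n + 1) F) q x).symm.trans ?_)
  rw [show Sheaf.H.map _ q x = Formal.toHHmodPow (Ideal.span ({t} : Set A)) F q n x from rfl,
    show Formal.toHHmodPow (Ideal.span ({t} : Set A)) F q n x = 0 from congrFun (congrArg Subtype.val hx) n]
  exact map_zero _

/-- Transition between the sequences. -/
noncomputable def seqTr (k : ℕ) : seq t F (k + 1) ⟶ seq t F k where
  τ₁ := Formal.smulMod A F t
  τ₂ := 𝟙 F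
  τ₃ := Formal.modPowTrans (Ideal.span ({t} : Set A)) (k + 1) F
  comm₁₂ := by
    change Formal.smulMod A F t ≫ Formal.smulMod A F (t ^ (k + 1)) = Formal.smulMod A F (t ^ (k + 1 + 1)) ≫ 𝟙 F
    rw [Category.comp_id, ← smulMod_mul]
    congr 1
    ring
  comm₂₃ := by
    change 𝟙 F ≫ Formal.modPowπ (Ideal.span ({t} : Set A)) (k + 1) F = Formal.modPowπ (Ideal.span ({t} : Set A)) (k + 1 + 1) F ≫ Formal.modPowTrans (Ideal.span ({t} : Set A)) (k + 1) F
    rw [Category.id_comp, Formal.modPowπ_trans]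

theorem bijective_of_finite (q : ℕ) [Module.Finite A (Coh.HH X F q)] [Module.Finite A (Coh.HH X F (q + 1))] :
    Function.Bijective (Formal.toHHlim (Ideal.span ({t} : Set A)) F q) := by
  refine ⟨injective_of_finite t F hreg q, fun ξ => ?_⟩
  have : Module.Finite A (HA φ F (⊤ : X.Opens) q) := (finite_HH_iff A F q).1 inferInstance
  have : Module.Finite A (HA φ F (⊤ : X.Opens) (q + 1)) := (finite_HH_iff A F (q + 1)).1 inferInstance
  let z : ∀ k, HA φ (Formal.modPow (Ideal.span ({t} : Set A)) (k + 1) F) (⊤ : X.Opens) q := fun k => HHA (A := A) _ q (ξ.1 k)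
  have hz : ∀ k, postA φ (Formal.modPowTrans (Ideal.span ({t} : Set A)) (k + 1) F) ⊤ q (z (k + 1)) = z k := fun k =>
    (HHA_natural (Formal.modPow (Ideal.span ({t} : Set A)) (k + 1 + 1) F) (Formal.modPowTrans (Ideal.span ({t} : Set A)) (k + 1) F) q (ξ.1 (k + 1))).symm.trans
      (congrArg (HHA (A := A) _ q) (ξ.2 k))
  let w : ℕ → HA φ F (⊤ : X.Opens) (q + 1) := fun k => deltaA φ (seq_shortExact t F hreg k) ⊤ q (z k)
  have hw : ∀ k, t • w (k + 1) = w k := fun k => by
    rw [← postA_smulMod]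
    exact (deltaA_natural φ (seq_shortExact t F hreg (k + 1)) (seq_shortExact t F hreg k) (seqTr t F k) q
      (z (k + 1))).trans (congrArg (deltaA φ (seq_shortExact t F hreg k) ⊤ q) (hz k))
  have hw0 : ∀ k, t ^ (k + 1) • w k = 0 := fun k => by
    rw [← postA_smulMod]
    exact (exact_deltaA_postA φ (seq_shortExact t F hreg k) ⊤ q _).2 ⟨z k, rfl⟩
  have hwm : ∀ m k, t ^ m • w (k + m) = w k := fun m => by
    induction m with
    | zero => intro k; rw [pow_zero, one_smul, add_zero]
    | succ m ih =>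
      intro k
      rw [pow_succ, mul_smul, ← add_assoc, hw, ih]
  obtain ⟨s, hs⟩ := Groth.Agent.Formal2Lib.exists_pow_mem_of_smul (⊥ : Submodule A (HA φ F (⊤ : X.Opens) (q + 1))) t
  have hw00 : ∀ k, w k = 0 := fun k => by
    rw [← hwm s k]
    exact (Submodule.mem_bot A).1 (hs (k + s + 1) _ ((Submodule.mem_bot A).2 (hw0 (k + s))))
  choose y hy using fun k => ((exact_postA_deltaA φ (seq_shortExact t F hreg k) ⊤ q (z k)).1 (hw00 k))
  have hy' : ∀ k, postA φ (Formal.modPowπ (Ideal.span ({t} : Set A)) (k + 1) F) ⊤ q (y k) = z k := hy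
  have hstep : ∀ k, postA φ (Formal.modPowπ (Ideal.span ({t} : Set A)) (k + 1) F) ⊤ q (y (k + 1)) = z k := fun k => by
    rw [← hz k, ← hy' (k + 1), ← postA_comp, Formal.modPowπ_trans]
  have hcauchy : ∀ {m n : ℕ}, m ≤ n → y m ≡ y n [SMOD ((Ideal.span ({t} : Set A)) ^ m • ⊤ : Submodule A (HA φ F (⊤ : X.Opens) q))] := by
    intro m n h
    induction n, h using Nat.le_induction with
    | base => exact SModEq.rfl
    | succ n hn ih =>
      refine ih.trans (SModEq.sub_mem.2 (Submodule.smul_mono_left (Ideal.pow_le_pow_right (Nat.le_succ_of_le hn)) ?_))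
      refine (π_eq_zero_iff t F hreg n q _).1 ?_
      rw [map_sub, hy' n, hstep n, sub_self]
  have hP : IsPrecomplete (Ideal.span ({t} : Set A)) (HA φ F (⊤ : X.Opens) q) := Groth.Agent.AdicRing.isPrecomplete_of_finite (Ideal.span ({t} : Set A)) _
  obtain ⟨L, hL⟩ := hP.prec' y hcauchy
  refine ⟨(HHA (A := A) F q).symm L, Subtype.ext (funext fun k => (HHA (A := A) _ q).injective ?_)⟩
  refine (HHA_natural F (Formal.modPowπ (Ideal.span ({t} : Set A)) (k + 1) F) q _).trans ?_
  rw [LinearEquiv.apply_symm_apply]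
  refine Eq.trans ?_ (hstep k)
  rw [← sub_eq_zero, ← map_sub]
  exact (π_eq_zero_iff t F hreg k q _).2 (SModEq.sub_mem.1 (hL (k + 1)).symm)

end Groth.Agent.Formal2Lib.FiniteLimit
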