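import Groth.Agent.Formal2Lib.PuncturedDepth
import Groth.Agent.Formal2Lib.PuncturedFinite
import Groth.Agent.Formal2Lib.FiniteLimit
import Groth.Agent.LocCoh.FinitenessRegular
import Groth.Prelude.Def_SGA2
import Groth.Prelude.Def_FEt

/-!
# Cohomology of a punctured affine scheme and of its formal completion, under depth conditions
-/

set_option autoImplicit false
set_option backward.isDefEq.respectTransparency false

universe u

open CategoryTheory CategoryTheory.Limits AlgebraicGeometry Opposite TopologicalSpace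
open Groth.Agent.Coherent Groth.Agent.Coherent.Serre

namespace Groth.Agent.Formal2Lib.Punct

variable {R : CommRingCat.{u}} (𝔞 : Ideal R) [IsNoetherianRing R]

theorem exists_model (G : (US 𝔞).Modules) (hG : Coh.IsCoh G) :
    ∃ (M : ModuleCat.{u} R) (_ : Module.Finite R M), Nonempty ((T 𝔞).obj M ≅ G) := by
  obtain ⟨S, hS, hS'⟩ := exists_fg_torsion 𝔞 G hG
  have := hG.1
  have := isIso_θ 𝔞 G
  have := isIso_restrict_tilde_subtype 𝔞 (M := N 𝔞 G) S hS'
  exact ⟨ModuleCat.of R S, Module.Finite.iff_fg.2 hS,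
    ⟨asIso ((Scheme.Modules.restrictFunctor (jU 𝔞)).map (tilde.map (R := R) (ModuleCat.ofHom S.subtype))) ≪≫
      asIso (θ 𝔞 G)⟩⟩

/-- Depth at the points next to the closed set gives finite cohomology. -/
theorem finite_HH_of_depth (S : Type u) [CommRing S] [IsRegularRing S] (π : S →+* R) (hπ : Function.Surjective π)
    (G : (US 𝔞).Modules) (hG : Coh.IsCoh G) (n : ℕ)
    (hdepth : ∀ x : US 𝔞, SGA2.relCodim 𝔞 (jU 𝔞 x) = 1 →
      ((n + 1 : ℕ) : ℕ∞) ≤ _root_.LocCoh.depth ((US 𝔞).presheaf.stalk x) (G.presheaf.stalk x))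
    (q : ℕ) (hq : q ≤ n) : Module.Finite R (Coh.HH (US 𝔞) G q) := by
  obtain ⟨M, _, ⟨e⟩⟩ := exists_model 𝔞 G hG
  refine finite_HH_model 𝔞 M e q ((LocCoh.finite_H_iff_forall_lt π hπ 𝔞 M (n + 1)).2 ?_ (q + 1) (by omega))
  refine (LocCoh.forall_covBy_iff_relCodim_one 𝔞 M (n + 1)).2 fun p hp hc => ?_
  obtain ⟨x, rfl⟩ : ∃ x : US 𝔞, jU 𝔞 x = p := ⟨⟨p, hp⟩, rfl⟩
  exact (hdepth x hc).trans_eq (depth_stalk_model 𝔞 M e x)

/-- The comparison with the formal completion under depth conditions. -/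
theorem toHHlim_of_depth (S : Type u) [CommRing S] [IsRegularRing S] (π : S →+* R) (hπ : Function.Surjective π)
    (t : R) [IsAdicComplete (Ideal.span ({t} : Set R)) R] (V : (Spec R).Opens)
    (hV : V = LocCoh.puncturedOpen R 𝔞) (F : (↑V : Scheme.{u}).Modules) (hF : Coh.IsCoh F)
    (hreg : Mono (Formal.smulMod R F t)) (n : ℕ)
    (hdepth : ∀ x : (↑V : Scheme.{u}), SGA2.relCodim 𝔞 (V.ι.base x) = 1 →
      ((n + 1 : ℕ) : ℕ∞) ≤ _root_.LocCoh.depth ((↑V : Scheme.{u}).presheaf.stalk x) (F.presheaf.stalk x))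
    (i : ℕ) : (i < n → Function.Bijective (Formal.toHHlim (Ideal.span ({t} : Set R)) F i)) ∧
      (i = n → Function.Injective (Formal.toHHlim (Ideal.span ({t} : Set R)) F i)) := by
  subst hV
  have hfin := finite_HH_of_depth 𝔞 S π hπ F hF n hdepth
  refine ⟨fun h => ?_, fun h => ?_⟩
  · have := hfin i h.le
    have := hfin (i + 1) h
    exact FiniteLimit.bijective_of_finite t F hreg i
  · have := hfin i h.le
    exact FiniteLimit.injective_of_finite t F hreg i

theorem puncturedSpec_eq (A : Type u) [CommRing A] [IsLocalRing A] :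
    FEt.puncturedSpec A = LocCoh.puncturedOpen A (IsLocalRing.maximalIdeal A) := by
  refine Opens.ext (Set.ext fun (p : PrimeSpectrum A) => not_congr ?_)
  show p = IsLocalRing.closedPoint A ↔ (IsLocalRing.maximalIdeal A : Set A) ⊆ p.asIdeal
  refine ⟨fun h => by subst h; exact subset_rfl, fun h => PrimeSpectrum.ext ?_⟩
  exact le_antisymm (IsLocalRing.le_maximalIdeal p.2.ne_top) h

/-- Points next to the closed point are closed in the punctured spectrum. -/
theorem isClosed_of_relCodim_eq_one (A : Type u) [CommRing A] [IsLocalRing A]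
    (x : (↑(FEt.puncturedSpec A) : Scheme.{u}))
    (h : SGA2.relCodim (IsLocalRing.maximalIdeal A) ((FEt.puncturedSpec A).ι.base x) = 1) :
    IsClosed ({x} : Set (↑(FEt.puncturedSpec A) : Scheme.{u})) := by
  refine isClosed_of_closure_subset fun y hy => ?_
  let p : PrimeSpectrum A := (FEt.puncturedSpec A).ι.base x
  let q : PrimeSpectrum A := (FEt.puncturedSpec A).ι.base y
  have hpq : p ≤ q := (PrimeSpectrum.le_iff_specializes _ _).2
    ((specializes_iff_mem_closure.2 hy).map (FEt.puncturedSpec A).ι.continuous)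
  rcases eq_or_lt_of_le hpq with he | hlt
  · exact ((FEt.puncturedSpec A).ι.isOpenEmbedding.injective he).symm
  exfalso
  have hqc : q < IsLocalRing.closedPoint A :=
    lt_of_le_of_ne (IsLocalRing.le_maximalIdeal q.2.ne_top) y.2
  have h2 : (2 : ℕ∞) ≤ SGA2.relCodim (IsLocalRing.maximalIdeal A) p := by
    refine le_iInf fun z => ?_
    have hz : z.1 = IsLocalRing.closedPoint A :=
      PrimeSpectrum.ext (le_antisymm (IsLocalRing.le_maximalIdeal z.1.2.ne_top) z.2.2)
    have h1 : (⟨q, hpq⟩ : Set.Ici p) < ⟨z.1, z.2.1⟩ := show q < z.1 from hqc.trans_eq hz.symm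
    have h0 : (⟨p, le_refl p⟩ : Set.Ici p) < ⟨q, hpq⟩ := hlt
    calc (2 : ℕ∞) = 0 + 1 + 1 := by norm_num
      _ ≤ Order.height (⟨p, le_refl p⟩ : Set.Ici p) + 1 + 1 := add_le_add (add_le_add zero_le le_rfl) le_rfl
      _ ≤ Order.height (⟨q, hpq⟩ : Set.Ici p) + 1 := add_le_add (Order.height_add_one_le h0) le_rfl
      _ ≤ _ := Order.height_add_one_le h1
  rw [show SGA2.relCodim (IsLocalRing.maximalIdeal A) p = 1 from h] at h2
  exact absurd h2 (by norm_num)

end Groth.Agent.Formal2Lib.Punct
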