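import Groth.Agent.Formal2Lib.BaseRed
import Groth.Agent.PicDef15.FlatLevels
import Groth.Agent.Coherent.RpushSupport
import Groth.Agent.H8Top.SchemeBasic

/-!
# Ideals with the same zero locus have equivalent categories of coherent formal modules
-/

set_option autoImplicit false
set_option backward.isDefEq.respectTransparency false
set_option linter.style.haveILetI false
set_option maxHeartbeats 400000

universe u

open CategoryTheory CategoryTheory.Limits AlgebraicGeometry Opposite TopologicalSpace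
open Groth.Agent.Coherent Groth.Agent.Coherent.Serre Groth.Agent.Coherent.Existence
open Groth.Agent.PicLib Groth.Agent.AmpleLib

namespace Groth.Agent.Formal2Lib

variable {A : Type u} [CommRing A] {X : Scheme.{u}} [X.Over (Spec (CommRingCat.of A))]

/-- `p` is the quotient by the submodule `K·M`. -/
def QuotBy (K : Ideal A) {M N : X.Modules} (p : M ⟶ N) : Prop :=
  Epi p ∧ Formal.KilledBy K N ∧ ∀ (Y : X.Modules) (φ : M ⟶ Y), Formal.KilledBy K Y → ∃ ψ, p ≫ ψ = φ

/-- Modules killed by `K` are killed by `K'`. -/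
def SLE (X : Scheme.{u}) [X.Over (Spec (CommRingCat.of A))] (K' K : Ideal A) : Prop :=
  ∀ M : X.Modules, Formal.KilledBy K M → Formal.KilledBy K' M

theorem quotBy_π (K : Ideal A) (n : ℕ) (M : X.Modules) : QuotBy (K ^ n) (Formal.modPowπ K n M) :=
  ⟨inferInstanceAs (Epi (cokernel.π _)), killedBy_modPow _ n M, fun _ φ hY => ⟨_, π_modPowDesc K φ hY⟩⟩

theorem QuotBy.comp {K K' : Ideal A} {M N P : X.Modules} {p : M ⟶ N} {q : N ⟶ P} (hp : QuotBy K p)
    (hq : QuotBy K' q) (h : SLE X K K') : QuotBy K' (p ≫ q) := by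
  haveI := hp.1
  haveI := hq.1
  refine ⟨epi_comp p q, hq.2.1, fun Y φ hY => ?_⟩
  obtain ⟨ψ, hψ⟩ := hp.2.2 Y φ (h Y hY)
  obtain ⟨χ, hχ⟩ := hq.2.2 Y ψ hY
  exact ⟨χ, by rw [Category.assoc, hχ, hψ]⟩

theorem QuotBy.cancel {K : Ideal A} {M N P : X.Modules} {p : M ⟶ N} {q : N ⟶ P} [Epi p]
    (h : QuotBy K (p ≫ q)) : QuotBy K q := by
  haveI := h.1
  refine ⟨epi_of_epi p q, h.2.1, fun Y φ hY => ?_⟩
  obtain ⟨ψ, hψ⟩ := h.2.2 Y (p ≫ φ) hY
  exact ⟨ψ, by rw [← cancel_epi p, ← Category.assoc, hψ]⟩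

theorem QuotBy.existsIso {K : Ideal A} {M N N' : X.Modules} {p : M ⟶ N} {p' : M ⟶ N'} (h : QuotBy K p)
    (h' : QuotBy K p') : ∃ e : N ≅ N', p ≫ e.hom = p' := by
  haveI := h.1
  haveI := h'.1
  obtain ⟨u, hu⟩ := h.2.2 N' p' h'.2.1
  obtain ⟨v, hv⟩ := h'.2.2 N p h.2.1
  exact ⟨⟨u, v, by rw [← cancel_epi p, reassoc_of% hu, hv, Category.comp_id],
    by rw [← cancel_epi p', reassoc_of% hv, hu, Category.comp_id]⟩, hu⟩

theorem sle_pow (I : Ideal A) {m n : ℕ} (h : m ≤ n) : SLE X (I ^ n) (I ^ m) := fun _ hM c hc =>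
  hM c (Ideal.pow_le_pow_right h hc)

variable {I J : Ideal A}

theorem quotBy_tr {G : ℕᵒᵖ ⥤ X.Modules} (hG : Formal.IsCohFormal I G) {n m : ℕ} (h : n ≤ m) :
    QuotBy (I ^ (n + 1)) (G.map (homOfLE h).op) := by
  induction m, h using Nat.le_induction with
  | base =>
    rw [show (homOfLE (le_refl n)).op = 𝟙 (op n) from Subsingleton.elim _ _, CategoryTheory.Functor.map_id]
    exact ⟨inferInstance, hG.2.1 n, fun Y φ _ => ⟨φ, Category.id_comp _⟩⟩
  | succ k hk ih =>
    obtain ⟨hw, hd⟩ := hG.2.2 k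
    have hstep : QuotBy (I ^ (k + 1)) (G.map (homOfLE (Nat.le_succ k)).op) := by
      refine ⟨epi_tr hG k, hG.2.1 k, fun Y φ hY => ?_⟩
      haveI := hd
      refine ⟨inv (cokernel.desc _ _ hw) ≫ cokernel.desc _ φ (Sigma.hom_ext _ _ fun c => by
        rw [comp_zero, ← Category.assoc, ι_smulFamily, smulMod_natural, hY c c.2, comp_zero]), ?_⟩
      calc _ = (cokernel.π _ ≫ cokernel.desc _ _ hw) ≫ _ := congrArg (· ≫ _) (cokernel.π_desc _ _ hw).symm
        _ = φ := by rw [Category.assoc, IsIso.hom_inv_id_assoc, cokernel.π_desc]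
    have := hstep.comp ih (sle_pow I (by omega))
    rwa [← Functor.map_comp, Subsingleton.elim ((homOfLE (Nat.le_succ k)).op ≫ (homOfLE hk).op) _] at this

theorem isCohFormal_of_quotBy {H : ℕᵒᵖ ⥤ X.Modules} (hc : ∀ n, Coh.IsCoh (H.obj (op n)))
    (hk : ∀ n, Formal.KilledBy (J ^ (n + 1)) (H.obj (op n)))
    (hq : ∀ n, QuotBy (J ^ (n + 1)) (H.map (homOfLE (Nat.le_succ n)).op)) : Formal.IsCohFormal J H := by
  refine ⟨hc, hk, fun n => ?_⟩
  let t := H.map (homOfLE (Nat.le_succ n)).op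
  have h : Formal.smulFamily (J ^ (n + 1)) (H.obj (op (n + 1))) ≫ t = 0 := Sigma.hom_ext _ _ fun c => by
    rw [comp_zero, ← Category.assoc, ι_smulFamily, smulMod_natural, (hq n).2.1 c c.2, comp_zero]
  obtain ⟨ψ, hψ⟩ := (hq n).2.2 _ (Formal.modPowπ J (n + 1) (H.obj (op (n + 1)))) (killedBy_modPow _ _ _)
  haveI := (hq n).1
  refine ⟨h, ψ, ?_, ?_⟩
  · apply coequalizer.hom_ext
    show cokernel.π _ ≫ cokernel.desc _ t h ≫ ψ = cokernel.π _ ≫ 𝟙 _
    rw [← Category.assoc, cokernel.π_desc, Category.comp_id]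
    exact hψ
  · rw [← cancel_epi t, reassoc_of% hψ, Category.comp_id]
    exact cokernel.π_desc _ _ h

section Transfer

variable [IsNoetherian X] (m : ℕ → ℕ) (hmono : Monotone m)
  (hIJ : ∀ n, SLE X (I ^ (m n + 1)) (J ^ (n + 1)))

theorem isCoh_modPow' (J : Ideal A) {M : X.Modules} (hM : Coh.IsCoh M) (n : ℕ) :
    Coh.IsCoh (Formal.modPow J n M) := by
  obtain ⟨A₀, _, _, J₀, o, h⟩ := exists_baseRed X J
  exact isCoh_of_iso (h.modPowIso n M) (isCoh_modPow J₀ hM n)

include hmono in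
variable (J) in
/-- The system `(G_(m n) / J^(n+1))`. -/
noncomputable def transferObj (G : ℕᵒᵖ ⥤ X.Modules) : ℕᵒᵖ ⥤ X.Modules where
  obj n := Formal.modPow J (n.unop + 1) (G.obj (op (m n.unop)))
  map {n n'} i := modPowDesc J (G.map (homOfLE (hmono i.unop.le)).op ≫ Formal.modPowπ J (n'.unop + 1) _)
    (sle_pow J (Nat.succ_le_succ i.unop.le) _ (killedBy_modPow _ _ _))
  map_id n := by
    haveI := (quotBy_π J (n.unop + 1) (G.obj (op (m n.unop)))).1
    rw [← cancel_epi (Formal.modPowπ J (n.unop + 1) (G.obj (op (m n.unop)))), π_modPowDesc,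
      Subsingleton.elim (homOfLE _).op (𝟙 (op (m n.unop))), CategoryTheory.Functor.map_id, Category.id_comp,
      Category.comp_id]
  map_comp {n n' n''} i i' := by
    haveI := (quotBy_π J (n.unop + 1) (G.obj (op (m n.unop)))).1
    rw [← cancel_epi (Formal.modPowπ J (n.unop + 1) (G.obj (op (m n.unop)))), π_modPowDesc, ← Category.assoc,
      π_modPowDesc, Category.assoc, π_modPowDesc, ← Category.assoc, ← Functor.map_comp]
    congr 2

theorem π_transferObj_map (G : ℕᵒᵖ ⥤ X.Modules) {n n' : ℕᵒᵖ} (i : n ⟶ n') :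
    Formal.modPowπ J (n.unop + 1) (G.obj (op (m n.unop))) ≫ (transferObj J m hmono G).map i =
      G.map (homOfLE (hmono i.unop.le)).op ≫ Formal.modPowπ J (n'.unop + 1) (G.obj (op (m n'.unop))) :=
  π_modPowDesc J _ (sle_pow J (Nat.succ_le_succ i.unop.le) _ (killedBy_modPow _ _ _))

include hIJ in
theorem isCohFormal_transfer {G : ℕᵒᵖ ⥤ X.Modules} (hG : Formal.IsCohFormal I G) :
    Formal.IsCohFormal J (transferObj J m hmono G) := by
  refine isCohFormal_of_quotBy (fun n => isCoh_modPow' J (hG.1 _) _) (fun n => killedBy_modPow _ _ _) fun n => ?_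
  haveI := (quotBy_π J (n + 1 + 1) (G.obj (op (m (n + 1))))).1
  refine QuotBy.cancel (p := Formal.modPowπ J (n + 1 + 1) (G.obj (op (m (n + 1))))) ?_
  rw [show Formal.modPowπ J (n + 1 + 1) (G.obj (op (m (n + 1)))) ≫
      (transferObj J m hmono G).map (homOfLE (Nat.le_succ n)).op = _ from π_transferObj_map m hmono G (homOfLE (Nat.le_succ n)).op]
  exact (quotBy_tr hG (hmono (Nat.le_succ n))).comp (quotBy_π J (n + 1) _) (hIJ n)

include hmono hIJ in
variable (I J) in
/-- The transfer functor. -/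
noncomputable def transfer : Formal2.CohFormalCat I X ⥤ Formal2.CohFormalCat J X :=
  ObjectProperty.lift _
    { obj := fun G => transferObj J m hmono G.obj
      map := fun {G G'} φ =>
        { app := fun n => modPowMap J (n.unop + 1) (φ.hom.app (op (m n.unop)))
          naturality := fun n n' i => by
            haveI := (quotBy_π J (n.unop + 1) (G.obj.obj (op (m n.unop)))).1
            rw [← cancel_epi (Formal.modPowπ J (n.unop + 1) (G.obj.obj (op (m n.unop))))]
            refine ((Category.assoc _ _ _).symm.trans (congrArg (· ≫ modPowMap J _ _) (π_transferObj_map m hmono G.obj i))).trans ?_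
            refine Eq.trans ?_ ((congrArg (· ≫ (transferObj J m hmono G'.obj).map i)
              (π_modPowMap J (n.unop + 1) (φ.hom.app (op (m n.unop))))).symm.trans (Category.assoc _ _ _))
            refine ((Category.assoc _ _ _).trans (congrArg _ (π_modPowMap J _ _))).trans ?_
            refine Eq.trans ?_ ((congrArg _ (π_transferObj_map m hmono G'.obj i)).symm.trans (Category.assoc _ _ _).symm)
            rw [φ.hom.naturality_assoc] }
      map_id := fun G => NatTrans.ext (funext fun n => by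
        haveI := (quotBy_π J (n.unop + 1) (G.obj.obj (op (m n.unop)))).1
        rw [← cancel_epi (Formal.modPowπ J (n.unop + 1) (G.obj.obj (op (m n.unop))))]
        show Formal.modPowπ J _ _ ≫ modPowMap J _ _ = Formal.modPowπ J _ _ ≫ 𝟙 _
        rw [π_modPowMap]
        exact (Category.id_comp _).trans (Category.comp_id _).symm)
      map_comp := fun {G G' G''} φ ψ => NatTrans.ext (funext fun n => by
        haveI := (quotBy_π J (n.unop + 1) (G.obj.obj (op (m n.unop)))).1
        rw [← cancel_epi (Formal.modPowπ J (n.unop + 1) (G.obj.obj (op (m n.unop))))]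
        show Formal.modPowπ J _ _ ≫ modPowMap J _ _ = Formal.modPowπ J _ _ ≫ modPowMap J _ _ ≫ modPowMap J _ _
        rw [π_modPowMap, ← Category.assoc, π_modPowMap, Category.assoc, π_modPowMap]
        exact Category.assoc _ _ _) }
    fun G => isCohFormal_transfer m hmono hIJ G.property

end Transfer

theorem π_π_transferObj_map [IsNoetherian X] (m : ℕ → ℕ) (hmono : Monotone m) (G : ℕᵒᵖ ⥤ X.Modules) {n n' : ℕᵒᵖ} (i : n ⟶ n') :
    (Formal.modPowπ J (m n.unop + 1) (G.obj (op (m (m n.unop)))) ≫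
        Formal.modPowπ I (n.unop + 1) ((transferObj J m hmono G).obj (op (m n.unop)))) ≫
      (transferObj I m hmono (transferObj J m hmono G)).map i =
    G.map (homOfLE (hmono (hmono i.unop.le))).op ≫ Formal.modPowπ J (m n'.unop + 1) (G.obj (op (m (m n'.unop)))) ≫
        Formal.modPowπ I (n'.unop + 1) ((transferObj J m hmono G).obj (op (m n'.unop))) := by
  refine (Category.assoc _ _ _).trans ((congrArg _ (π_transferObj_map m hmono (transferObj J m hmono G) i)).trans ?_)
  refine (Category.assoc _ _ _).symm.trans ((congrArg (· ≫ Formal.modPowπ I (n'.unop + 1) _)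
    (π_transferObj_map m hmono G (homOfLE (hmono i.unop.le)).op)).trans ?_)
  exact Category.assoc _ _ _

theorem nonempty_compIso [IsNoetherian X] (m : ℕ → ℕ) (hmono : Monotone m) (hm : ∀ n, n ≤ m n)
    (hIJ : ∀ n, SLE X (I ^ (m n + 1)) (J ^ (n + 1))) (hJI : ∀ n, SLE X (J ^ (m n + 1)) (I ^ (n + 1))) :
    Nonempty (𝟭 (Formal2.CohFormalCat I X) ≅ transfer I J m hmono hIJ ⋙ transfer J I m hmono hJI) := by
  let H : Formal2.CohFormalCat I X → ℕᵒᵖ ⥤ X.Modules := fun G => transferObj I m hmono (transferObj J m hmono G.obj)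
  let p : ∀ (G : Formal2.CohFormalCat I X) (n : ℕ), G.obj.obj (op (m (m n))) ⟶ (H G).obj (op n) :=
    fun G n => Formal.modPowπ J (m n + 1) (G.obj.obj (op (m (m n)))) ≫ Formal.modPowπ I (n + 1) _
  let t : ∀ (G : Formal2.CohFormalCat I X) (n : ℕ), G.obj.obj (op (m (m n))) ⟶ G.obj.obj (op n) :=
    fun G n => G.obj.map (homOfLE ((hm n).trans (hm (m n)))).op
  have hp : ∀ G n, QuotBy (I ^ (n + 1)) (p G n) := fun G n => (quotBy_π J _ _).comp (quotBy_π I _ _) (hJI n)
  have ht : ∀ G n, QuotBy (I ^ (n + 1)) (t G n) := fun G n => quotBy_tr G.property _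
  choose e he using fun G n => (ht G n).existsIso (hp G n)
  have hnat : ∀ (G : Formal2.CohFormalCat I X) {n n' : ℕᵒᵖ} (i : n ⟶ n'),
      G.obj.map i ≫ (e G n'.unop).hom = (e G n.unop).hom ≫ (H G).map i := fun G n n' i => by
    haveI := (ht G n.unop).1
    rw [← cancel_epi (t G n.unop)]
    refine Eq.trans ?_ ((congrArg (· ≫ (H G).map i) (he G n.unop)).symm.trans (Category.assoc _ _ _))
    refine Eq.trans ?_ (π_π_transferObj_map m hmono G.obj i).symm
    refine (Category.assoc _ _ _).symm.trans ((congrArg (· ≫ (e G n'.unop).hom) ((G.obj.map_comp _ _).symm.trans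
      ((congrArg G.obj.map (Subsingleton.elim _ ((homOfLE (hmono (hmono i.unop.le))).op ≫
        (homOfLE ((hm n'.unop).trans (hm (m n'.unop)))).op))).trans (G.obj.map_comp _ _)))).trans ?_)
    exact (Category.assoc _ _ _).trans (congrArg _ (he G n'.unop))
  let η : ∀ G, (𝟭 (Formal2.CohFormalCat I X)).obj G ≅ (transfer I J m hmono hIJ ⋙ transfer J I m hmono hJI).obj G :=
    fun G => ObjectProperty.isoMk _ (NatIso.ofComponents (fun n => e G n.unop) (fun i => hnat G i))
  refine ⟨NatIso.ofComponents η fun {G G'} φ => ObjectProperty.hom_ext _ (NatTrans.ext (funext fun n => ?_))⟩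
  haveI := (ht G n.unop).1
  show φ.hom.app n ≫ (e G' n.unop).hom =
    (e G n.unop).hom ≫ modPowMap I (n.unop + 1) (modPowMap J (m n.unop + 1) (φ.hom.app (op (m (m n.unop)))))
  rw [← cancel_epi (t G n.unop)]
  refine (Category.assoc _ _ _).symm.trans ((congrArg (· ≫ (e G' n.unop).hom) (φ.hom.naturality _)).trans ?_)
  refine ((Category.assoc _ _ _).trans (congrArg _ (he G' n.unop))).trans ?_
  refine Eq.trans ?_ ((congrArg (· ≫ _) (he G n.unop)).symm.trans (Category.assoc _ _ _))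
  refine Eq.trans ?_ ((congrArg _ (π_modPowMap I (n.unop + 1) _)).symm.trans (Category.assoc _ _ _).symm)
  exact (Category.assoc _ _ _).symm.trans ((congrArg (· ≫ Formal.modPowπ I (n.unop + 1) _)
    (π_modPowMap J _ _).symm).trans (Category.assoc _ _ _))

theorem nonempty_equivalence [IsNoetherian X] (m : ℕ → ℕ) (hmono : Monotone m) (hm : ∀ n, n ≤ m n)
    (hIJ : ∀ n, SLE X (I ^ (m n + 1)) (J ^ (n + 1))) (hJI : ∀ n, SLE X (J ^ (m n + 1)) (I ^ (n + 1))) :
    Nonempty (Formal2.CohFormalCat I X ≌ Formal2.CohFormalCat J X) :=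
  ⟨CategoryTheory.Equivalence.mk (transfer I J m hmono hIJ) (transfer J I m hmono hJI)
    (nonempty_compIso m hmono hm hIJ hJI).some (nonempty_compIso m hmono hm hJI hIJ).some.symm⟩

theorem killedBy_of_sheafIdeal {K K' : Ideal A} {κ : Type u} (U : κ → X.Opens) (hU : ⨆ i, U i = ⊤)
    (h : ∀ i, sheafIdeal K' (U i) ≤ sheafIdeal K (U i)) : SLE X K' K := by
  intro M hM c hc
  refine Scheme.Modules.hom_ext _ _ fun W => ?_
  ext s
  show (Formal.smulMod A M c).app W s = 0
  refine AmpleLib.sec_ext _ _ _ fun x hx => ?_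
  obtain ⟨i, hxi⟩ := Opens.mem_iSup.1 (hU.ge (Opens.mem_top x))
  refine ⟨W ⊓ U i, inf_le_left, ⟨hx, hxi⟩, ?_⟩
  rw [map_zero, ← app_resM, smulMod_app]
  let χ : Γ(X, U i) →+* Γ(X, W ⊓ U i) := rmap (inf_le_right : W ⊓ U i ≤ U i)
  have key : ∀ r ∈ sheafIdeal K (U i), ∀ m' : Γ(M, W ⊓ U i), χ r • m' = 0 := by
    intro r hr
    induction hr using Submodule.span_induction with
    | mem r hr =>
      obtain ⟨a, ha, rfl⟩ := hr
      intro m'
      have e : χ ((rmap (le_top : U i ≤ ⊤)).comp (baseHom A X) a) =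
          (X.presheaf.map (homOfLE (le_top (a := W ⊓ U i))).op (baseHom A X a) : Γ(X, W ⊓ U i)) :=
        rmap_rmap _ _ _
      rw [e, ← smulMod_app M a (W ⊓ U i) m', hM a ha]
      rfl
    | zero => intro m'; rw [map_zero, zero_smul]
    | add a b _ _ iha ihb => intro m'; rw [map_add, add_smul, iha, ihb, add_zero]
    | smul t a _ iha => intro m'; rw [smul_eq_mul, map_mul, mul_smul, iha, smul_zero]
  have := key _ (h i (Ideal.mem_map_of_mem _ hc)) (resM M inf_le_left s)
  rw [RingHom.comp_apply, rmap_rmap] at this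
  exact this

theorem exists_pow_sle [IsNoetherian X]
    (hV : (fun x : X => (X ↘ Spec (CommRingCat.of A)) x) ⁻¹' PrimeSpectrum.zeroLocus (J : Set A) ⊆
      (fun x : X => (X ↘ Spec (CommRingCat.of A)) x) ⁻¹' PrimeSpectrum.zeroLocus (I : Set A)) :
    ∃ a : ℕ, ∀ k, SLE X (I ^ (a * k)) (J ^ k) := by
  obtain ⟨s, hs⟩ := Groth.Agent.H8Top.exists_finite_affine_cover X
  have key : ∀ U : s, ∃ a, sheafIdeal I U.1.1 ^ a ≤ sheafIdeal J U.1.1 := fun U => by
    haveI := IsLocallyNoetherian.component_noetherian (X := X) U.1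
    refine Ideal.exists_pow_le_of_le_radical_of_fg ?_ (IsNoetherian.noetherian _)
    rw [Ideal.radical_eq_sInf]
    refine le_sInf fun P hP => ?_
    obtain ⟨hP, hPp⟩ := hP
    let y : X := U.1.2.fromSpec ⟨P, hPp⟩
    have hy : ((X ↘ Spec (CommRingCat.of A)) y).asIdeal =
        P.comap (PicDef15.phi (X ↘ Spec (CommRingCat.of A)) U.1.1) := by
      have h := congrArg (fun φ : Spec Γ(X, U.1.1) ⟶ Spec (CommRingCat.of A) => (φ ⟨P, hPp⟩).asIdeal)
        (PicDef15.fromSpec_comp (X ↘ Spec (CommRingCat.of A)) U.1.2)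
      exact h
    have hJ : (J : Set A) ⊆ ((X ↘ Spec (CommRingCat.of A)) y).asIdeal := by
      rw [hy]
      exact fun c hc => hP (Ideal.mem_map_of_mem _ hc)
    have hI : (I : Set A) ⊆ ((X ↘ Spec (CommRingCat.of A)) y).asIdeal := hV (a := y) hJ
    rw [hy] at hI
    exact Ideal.map_le_iff_le_comap.2 hI
  choose a ha using key
  refine ⟨Finset.univ.sup a, fun k => killedBy_of_sheafIdeal (fun U : s => U.1.1) hs fun U => ?_⟩
  show Ideal.map _ _ ≤ Ideal.map _ _
  rw [Ideal.map_pow, Ideal.map_pow, pow_mul]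
  exact Ideal.pow_right_mono ((Ideal.pow_le_pow_right (Finset.le_sup (Finset.mem_univ U))).trans (ha U)) k

end Groth.Agent.Formal2Lib
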