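import Groth.Agent.Coherent.Existence.AffineLimit
import Groth.Agent.RelVALib.DirImgFull
import Groth.Agent.Coherent.ProjSpaceFinite
import Mathlib.RingTheory.Filtration

/-!
# Artin–Rees bounds for the relations in the levels of a coherent formal module
-/

set_option autoImplicit false
set_option backward.isDefEq.respectTransparency false
set_option linter.style.haveILetI false
set_option maxHeartbeats 400000

universe u

attribute [local instance] CategoryTheory.Abelian.hasFiniteBiproducts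

open CategoryTheory CategoryTheory.Limits AlgebraicGeometry Opposite TopologicalSpace
open Groth.Agent.Coherent Groth.Agent.Coherent.Serre Groth.Agent.Coherent.Existence Groth.Agent.PicLib

namespace Groth.Agent.Formal2Lib

/-- Elements deep in the filtration which are deep after multiplication by a power of the ideal are deep. -/
theorem exists_deep {R M : Type u} [CommRing R] [IsNoetherianRing R] [AddCommGroup M] [Module R M]
    [Module.Finite R M] (P : Ideal R) :
    ∃ t : ℕ, ∀ (k N : ℕ) (h : Fin k → R), Ideal.span (Set.range h) = P ^ N → ∀ m : ℕ,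
      ∃ r₀ : ℕ, ∀ r, r₀ ≤ r → ∀ v ∈ P ^ t • (⊤ : Submodule R M),
        (∀ i, h i • v ∈ P ^ (r + 1) • (⊤ : Submodule R M)) → v ∈ P ^ (m + 1) • (⊤ : Submodule R M) := by
  haveI : IsNoetherian R M := isNoetherian_of_isNoetherianRing_of_finite R M
  let T : ℕ →o Submodule R M :=
    ⟨fun N => Submodule.torsionBySet R M ((P ^ N : Ideal R) : Set R),
      fun a b hab => Submodule.torsionBySet_le_torsionBySet_of_subset (Ideal.pow_le_pow_right hab)⟩
  obtain ⟨c₀, hc₀⟩ := monotone_stabilizes_iff_noetherian.2 ‹IsNoetherian R M› T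
  obtain ⟨c₁, hc₁⟩ := Ideal.exists_pow_inf_eq_pow_smul P (T c₀)
  refine ⟨c₁ + c₀, fun k N h hh m => ?_⟩
  have hsep : ∀ v ∈ P ^ (c₁ + c₀) • (⊤ : Submodule R M), v ∈ T N → v = 0 := by
    intro v hv hvN
    have hv0 : v ∈ T c₀ := by
      rcases le_total c₀ N with hN | hN
      · exact (hc₀ N hN).ge hvN
      · exact T.mono hN hvN
    have := (hc₁ (c₁ + c₀) (Nat.le_add_right _ _)).le ⟨hv, hv0⟩
    rw [Nat.add_sub_cancel_left] at this
    refine Submodule.smul_induction_on this (fun a ha x hx => ?_) fun x y hx hy => by rw [hx, hy, add_zero]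
    exact (Submodule.mem_torsionBySet_iff _ _).1 hx.2 ⟨a, ha⟩
  let Φ : M →ₗ[R] (Fin k → M) := LinearMap.pi fun i => h i • LinearMap.id
  let V : Submodule R M := P ^ (c₁ + c₀) • ⊤
  obtain ⟨c, hc⟩ := Ideal.exists_pow_inf_eq_pow_smul P (V.map Φ)
  refine ⟨c + m + (c₁ + c₀), fun r hr v hv hvr => ?_⟩
  have hΦ : Φ v ∈ P ^ (r + 1) • (⊤ : Submodule R (Fin k → M)) := by
    have : Φ v = ∑ i, (LinearMap.single R (fun _ : Fin k => M) i) (h i • v) := by
      funext j
      simp [Φ, Pi.single_apply]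
    rw [this]
    refine Submodule.sum_mem _ fun i _ => ?_
    refine Submodule.smul_induction_on (hvr i) (fun a ha x _ => ?_) fun x y hx hy => by
      rw [map_add]; exact add_mem hx hy
    rw [map_smul]
    exact Submodule.smul_mem_smul ha trivial
  have h2 : Φ v ∈ P ^ (r + 1 - c) • V.map Φ :=
    Submodule.smul_mono le_rfl inf_le_right ((hc (r + 1) (by omega)).le ⟨hΦ, Submodule.mem_map_of_mem hv⟩)
  rw [← Submodule.map_smul''] at h2
  obtain ⟨w, hw, hwv⟩ := Submodule.mem_map.1 h2
  have hwV : w ∈ V := Submodule.smul_le_right hw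
  have : v - w = 0 := by
    refine hsep _ (sub_mem hv hwV) ((Submodule.mem_torsionBySet_iff _ _).2 fun a => ?_)
    have hle : (P ^ N : Ideal R) ≤ LinearMap.ker ((LinearMap.id : R →ₗ[R] R).smulRight (v - w)) := by
      rw [← hh, Ideal.span_le]
      rintro _ ⟨i, rfl⟩
      show h i • (v - w) = 0
      have := congrFun hwv i
      simp only [Φ, LinearMap.pi_apply, LinearMap.smul_apply, LinearMap.id_apply] at this
      rw [smul_sub, this, sub_self]
    exact hle a.2
  rw [sub_eq_zero.1 this]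
  exact Submodule.smul_mono (Ideal.pow_le_pow_right (by omega)) le_top hw

variable {A : Type u} [CommRing A] {X : Scheme.{u}} [X.Over (Spec (CommRingCat.of A))] {I : Ideal A}
  {G : ℕᵒᵖ ⥤ X.Modules} (hG : Formal.IsCohFormal I G) [IsLocallyNoetherian X] [IsNoetherianRing A]

/-- The base ring on an open. -/
noncomputable abbrev baseOn (U : X.Opens) : A →+* Γ(X, U) := (rmap (le_top : U ≤ ⊤)).comp (baseHom A X)

theorem lim_coe_sum {U : X.Opens} {k r : ℕ} (β : A →+* Cpl I U) (b : A →+* Γ(X, U))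
    (hβ : ∀ a, β a = algebraMap Γ(X, U) (Cpl I U) (b a)) (a : Fin k → A) (S : Fin k → lim hG U)
    (s : Fin k → Γ(G.obj (op r), U)) (hS : ∀ i, (S i).1 r = s i) :
    (∑ i, β (a i) • S i).1 r = (∑ i, b (a i) • s i : Γ(G.obj (op r), U)) := by
  let π : lim hG U →ₗ[Cpl I U] Lev hG U r := (LinearMap.proj r).comp (lim hG U).subtype
  have h : ∀ i, π (β (a i) • S i) = b (a i) • (S i).1 r := fun i => by
    rw [map_smul, hβ, IsScalarTower.algebraMap_smul]
    rfl
  show π (∑ i, β (a i) • S i) = _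
  rw [map_sum]
  exact Finset.sum_congr rfl fun i _ => (h i).trans (congrArg _ (hS i))

include hG in
theorem exists_level_bound {U : X.Opens} (hU : IsAffineOpen U) :
    ∃ t₀ : ℕ, ∀ t, t₀ ≤ t → ∀ (k N : ℕ) (g : Fin k → A), Ideal.span (Set.range g) = I ^ N →
      ∀ co : Fin k → A, (∀ i, co i ∈ I ^ t) → (∀ i l, g l * co i = g i * co l) → ∀ m : ℕ,
        ∃ r₀ : ℕ, ∀ r (hmr : m ≤ r), r₀ ≤ r → ∀ s : Fin k → Γ(G.obj (op r), U),
          ∑ i, baseOn U (g i) • s i = 0 → (trLE G hmr).app U (∑ i, baseOn U (co i) • s i) = 0 := by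
  haveI := isNoetherianRing_cpl (I := I) U hU
  obtain ⟨hfin, hker⟩ := finite_lim_and_ker hG U hU
  obtain ⟨t₀, ht₀⟩ := exists_deep (M := lim hG U) (cplIdeal I U)
  refine ⟨t₀, fun t htt k N g hg co hco hrel m => ?_⟩
  let β : A →+* Cpl I U := (algebraMap Γ(X, U) (Cpl I U)).comp (baseOn U)
  have hP : cplIdeal I U = I.map β := Ideal.map_map _ _
  have hspan : Ideal.span (Set.range fun i => β (g i)) = cplIdeal I U ^ N := by
    rw [hP, ← Ideal.map_pow, ← hg, Ideal.map_span, ← Set.range_comp]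
    rfl
  obtain ⟨r₀, hr₀⟩ := ht₀ k N _ hspan m
  refine ⟨r₀, fun r hmr hr s hs => ?_⟩
  choose S hS using fun i => lim_proj_surjective hG U hU r (s i)
  have hcomp : ∀ (a : Fin k → A),
      (∑ i, β (a i) • S i).1 r = (∑ i, baseOn U (a i) • s i : Γ(G.obj (op r), U)) := fun a =>
    lim_coe_sum hG β _ (fun _ => rfl) a S s hS
  have hsum : (∑ i, β (g i) • S i) ∈ cplIdeal I U ^ (r + 1) • (⊤ : Submodule (Cpl I U) (lim hG U)) :=
    (hker r _).1 ((hcomp g).trans hs)
  have hv : (∑ i, β (co i) • S i) ∈ cplIdeal I U ^ t₀ • (⊤ : Submodule (Cpl I U) (lim hG U)) :=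
    Submodule.sum_mem _ fun i _ => Submodule.smul_mem_smul (by
      rw [hP, ← Ideal.map_pow]
      exact Ideal.mem_map_of_mem _ (Ideal.pow_le_pow_right htt (hco i))) trivial
  have hmem := hr₀ r hr _ hv fun l => by
    have : β (g l) • ∑ i, β (co i) • S i = β (co l) • ∑ i, β (g i) • S i := by
      rw [Finset.smul_sum, Finset.smul_sum]
      refine Finset.sum_congr rfl fun i _ => ?_
      rw [smul_smul, smul_smul, ← map_mul, ← map_mul, hrel i l, mul_comm (g i)]
    rw [this]
    exact Submodule.smul_mem _ _ hsum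
  rw [← hcomp co, lim_trLE hG U _ hmr]
  exact (hker m _).2 hmem

variable [CompactSpace X]

include hG in
theorem exists_level_bound_global :
    ∃ t₀ : ℕ, ∀ t, t₀ ≤ t → ∀ (k N : ℕ) (g : Fin k → A), Ideal.span (Set.range g) = I ^ N →
      ∀ co : Fin k → A, (∀ i, co i ∈ I ^ t) → (∀ i l, g l * co i = g i * co l) → ∀ m : ℕ,
        ∃ (r : ℕ) (hmr : m ≤ r),
          kernel.ι (biproduct.desc fun i : Fin k => Formal.smulMod A (G.obj (op r)) (g i)) ≫
            biproduct.desc (fun i : Fin k => Formal.smulMod A (G.obj (op r)) (co i) ≫ trLE G hmr) = 0 := by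
  classical
  obtain ⟨S, hS⟩ : ∃ S : Finset X.affineOpens, ∀ x : X, ∃ U ∈ S, x ∈ U.1 := by
    obtain ⟨S, hS⟩ := isCompact_univ.elim_finite_subcover (fun U : X.affineOpens => (U.1 : Set X))
      (fun U => U.1.2) fun x _ => by
        obtain ⟨U, hU, hx, -⟩ := exists_isAffineOpen_mem_and_subset (x := x) (U := (⊤ : X.Opens)) trivial
        exact Set.mem_iUnion.2 ⟨⟨U, hU⟩, hx⟩
    exact ⟨S, fun x => by simpa using hS (Set.mem_univ x)⟩
  choose t ht using fun U : X.affineOpens => exists_level_bound hG U.2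
  refine ⟨S.sup t, fun t' htt k N g hg co hco hrel m => ?_⟩
  choose r hr using fun U : X.affineOpens => fun hU : U ∈ S =>
    ht U t' ((Finset.le_sup hU).trans htt) k N g hg co hco hrel m
  let R := m + S.attach.sup fun U => r U.1 U.2
  refine ⟨R, Nat.le_add_right _ _, ?_⟩
  haveI : Coh.IsQCoh (G.obj (op R)) := (hG.1 R).1
  haveI : Coh.IsQCoh (⨁ fun _ : Fin k => G.obj (op R)) := isQCoh_biproduct _ fun _ => inferInstance
  haveI := isQCoh_kernel (biproduct.desc fun i : Fin k => Formal.smulMod A (G.obj (op R)) (g i))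
  refine RelVALib.hom_eq_zero_of_affine_cover _ fun x => ?_
  obtain ⟨U, hUS, hxU⟩ := hS x
  refine ⟨U.1, hxU, U.2, fun s => ?_⟩
  let Ψ := biproduct.desc fun i : Fin k => Formal.smulMod A (G.obj (op R)) (g i)
  let si : Fin k → Γ(G.obj (op R), U.1) := fun i => (kernel.ι Ψ ≫ biproduct.π _ i).app U.1 s
  have hd : ∀ {Q : X.Modules} (a : Fin k → (G.obj (op R) ⟶ Q)),
      (kernel.ι Ψ ≫ biproduct.desc a).app U.1 s = ∑ i, (a i).app U.1 (si i) := fun a => by
    rw [biproduct.desc_eq, Preadditive.comp_sum, app_sum]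
    exact Finset.sum_congr rfl fun i _ => by rw [← Category.assoc, comp_app_eq]
  have h0 : ∑ i, baseOn U.1 (g i) • si i = 0 := by
    refine Eq.trans ?_ ((hd _).symm.trans (congrArg (fun φ : kernel Ψ ⟶ G.obj (op R) => φ.app U.1 s) (kernel.condition Ψ)))
    exact Finset.sum_congr rfl fun i _ => (smulMod_app _ _ _ _).symm
  rw [hd]
  refine Eq.trans ?_ (hr U hUS R (Nat.le_add_right _ _)
    ((Finset.le_sup (f := fun U => r U.1 U.2) (Finset.mem_attach S ⟨U, hUS⟩)).trans (Nat.le_add_left _ _)) si h0)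
  exact ((map_sum _ _ _).trans (Finset.sum_congr rfl fun i _ => by rw [comp_app_eq, smulMod_app]; rfl)).symm

end Groth.Agent.Formal2Lib
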