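import Groth.Agent.Coherent.Existence.PullSys
import Groth.Agent.Coherent.RpushSupport

/-!
# Pullback of modules killed by the ideal of a closed subscheme along a morphism which is an isomorphism there
-/

set_option autoImplicit false
set_option backward.isDefEq.respectTransparency false

universe u

open CategoryTheory CategoryTheory.Limits AlgebraicGeometry Opposite TopologicalSpace
open Groth.Agent.Coherent Groth.Agent.Coherent.Existence

namespace Groth.Agent.Formal2Lib

section Basic

variable {X Z : Scheme.{u}} (a : Z ⟶ X) [IsClosedImmersion a]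

theorem bijective_map_pullback_of_killed {M N : X.Modules} (hN : ClSub.KilledByIdeal a.ker N) :
    Function.Bijective ((Scheme.Modules.pullback a).map : (M ⟶ N) → _) := by
  haveI := isIso_clUnit a hN
  let adj := Scheme.Modules.pullbackPushforwardAdjunction a
  refine ⟨fun φ ψ h => ?_, fun ψ => ⟨adj.unit.app M ≫ (Coh.push a).map ψ ≫ inv (clUnit a N), ?_⟩⟩
  · rw [← cancel_mono (clUnit a N)]
    exact (etaHom_natural φ).trans
      ((congrArg (fun z => etaHom a M ≫ (Coh.push a).map z) h).trans (etaHom_natural ψ).symm)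
  · refine pull_hom_ext ?_
    rw [← etaHom_natural, Category.assoc, Category.assoc, IsIso.inv_hom_id, Category.comp_id]

theorem isIso_of_push {M N : Z.Modules} (ψ : M ⟶ N)
    (h : ∀ U : X.Opens, Function.Bijective (ψ.app (a ⁻¹ᵁ U))) : IsIso ψ :=
  Scheme.Modules.Hom.isIso_iff_isIso_app.2 fun W => by
    obtain ⟨s, hs, he⟩ := a.isClosedEmbedding.isInducing.isOpen_iff.1 W.isOpen
    obtain rfl : a ⁻¹ᵁ ⟨s, hs⟩ = W := Opens.ext he
    exact (ConcreteCategory.isIso_iff_bijective _).2 (h ⟨s, hs⟩)

end Basic

theorem bijective_map_pullback_of_isIso {Z Z' : Scheme.{u}} (w : Z' ⟶ Z) [IsIso w] {M N : Z.Modules} :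
    Function.Bijective ((Scheme.Modules.pullback w).map : (M ⟶ N) → _) :=
  let e : Z.Modules ≌ Z'.Modules := CategoryTheory.Equivalence.mk (Scheme.Modules.pullback w)
    (Scheme.Modules.pullback (inv w))
    ((Scheme.Modules.pullbackComp (inv w) w ≪≫ Scheme.Modules.pullbackCongr (IsIso.inv_hom_id w) ≪≫
      Scheme.Modules.pullbackId Z).symm)
    (Scheme.Modules.pullbackComp w (inv w) ≪≫ Scheme.Modules.pullbackCongr (IsIso.hom_inv_id w) ≪≫
      Scheme.Modules.pullbackId Z')
  ⟨fun φ ψ h => e.functor.map_injective h, fun ψ => e.functor.map_surjective ψ⟩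

section Square

variable {X X' Z Z' : Scheme.{u}} {f : X' ⟶ X} {a : Z ⟶ X} {a' : Z' ⟶ X'} [IsClosedImmersion a]
  [IsClosedImmersion a'] {w : Z' ⟶ Z} [IsIso w] (hsq : a' ≫ f = w ≫ a)

include hsq

theorem bijective_map_pullback {M N : X.Modules} (hN : ClSub.KilledByIdeal a.ker N)
    (hN' : ClSub.KilledByIdeal a'.ker ((Scheme.Modules.pullback f).obj N)) :
    Function.Bijective ((Scheme.Modules.pullback f).map : (M ⟶ N) → _) := by
  let α : Scheme.Modules.pullback f ⋙ Scheme.Modules.pullback a' ≅
      Scheme.Modules.pullback a ⋙ Scheme.Modules.pullback w :=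
    Scheme.Modules.pullbackComp a' f ≪≫ Scheme.Modules.pullbackCongr hsq ≪≫
      (Scheme.Modules.pullbackComp w a).symm
  have h1 : Function.Bijective ((Scheme.Modules.pullback f ⋙ Scheme.Modules.pullback a').map : (M ⟶ N) → _) := by
    have h2 := (bijective_map_pullback_of_isIso w).comp (bijective_map_pullback_of_killed a (M := M) hN)
    have e : ((Scheme.Modules.pullback f ⋙ Scheme.Modules.pullback a').map : (M ⟶ N) → _) =
        (fun ψ => α.hom.app M ≫ ψ ≫ α.inv.app N) ∘
          fun φ => (Scheme.Modules.pullback w).map ((Scheme.Modules.pullback a).map φ) := funext fun φ => by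
      show _ = α.hom.app M ≫ (Scheme.Modules.pullback a ⋙ Scheme.Modules.pullback w).map φ ≫ α.inv.app N
      rw [← Category.assoc, ← NatTrans.naturality, Category.assoc, Iso.hom_inv_id_app, Category.comp_id]
    rw [e]
    refine Function.Bijective.comp ?_ h2
    exact ⟨fun p q h => by simpa using h, fun t => ⟨α.inv.app M ≫ t ≫ α.hom.app N, by simp⟩⟩
  refine ⟨fun φ ψ h => h1.1 (congrArg (Scheme.Modules.pullback a').map h), fun ψ => ?_⟩
  obtain ⟨φ, hφ⟩ := h1.2 ((Scheme.Modules.pullback a').map ψ)
  exact ⟨φ, (bijective_map_pullback_of_killed a' hN').1 hφ⟩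

omit [IsClosedImmersion a'] in
theorem isClosedImmersion_comp : IsClosedImmersion (a' ≫ f) := by rw [hsq]; infer_instance

theorem isIso_of_push_map {M N : X'.Modules} (hM : ClSub.KilledByIdeal a'.ker M)
    (hN : ClSub.KilledByIdeal a'.ker N) (φ : M ⟶ N) [IsIso ((Coh.push f).map φ)] : IsIso φ := by
  haveI := isIso_clUnit a' hM
  haveI := isIso_clUnit a' hN
  haveI := isClosedImmersion_comp hsq
  have e : (Coh.push a').map ((Scheme.Modules.pullback a').map φ) = inv (clUnit a' M) ≫ φ ≫ clUnit a' N := by
    rw [IsIso.eq_inv_comp]; exact (etaHom_natural φ).symm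
  haveI : IsIso ((Coh.push f).map ((Coh.push a').map ((Scheme.Modules.pullback a').map φ))) := by
    rw [e, Functor.map_comp, Functor.map_comp]
    infer_instance
  haveI : IsIso ((Scheme.Modules.pullback a').map φ) := isIso_of_push (a' ≫ f) _ fun U =>
    ConcreteCategory.bijective_of_isIso
      (((Coh.push f).map ((Coh.push a').map ((Scheme.Modules.pullback a').map φ))).app U)
  have : φ = clUnit a' M ≫ (Coh.push a').map ((Scheme.Modules.pullback a').map φ) ≫ inv (clUnit a' N) := by
    rw [e]; simp
  rw [this]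
  infer_instance

theorem isIso_unit {M : X.Modules} (hM : ClSub.KilledByIdeal a.ker M)
    (hM' : ClSub.KilledByIdeal a'.ker ((Scheme.Modules.pullback f).obj M))
    (hFM : ClSub.KilledByIdeal a.ker ((Coh.push f).obj ((Scheme.Modules.pullback f).obj M)))
    (hFM' : ClSub.KilledByIdeal a'.ker
      ((Scheme.Modules.pullback f).obj ((Coh.push f).obj ((Scheme.Modules.pullback f).obj M)))) :
    IsIso (etaHom f M) := by
  let adj := Scheme.Modules.pullbackPushforwardAdjunction f
  obtain ⟨θ, hθ⟩ := (bijective_map_pullback hsq (M := (Coh.push f).obj ((Scheme.Modules.pullback f).obj M))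
    hM hM').2 (adj.counit.app _)
  refine ⟨θ, ?_, ?_⟩
  · refine (bijective_map_pullback hsq hM hM').1 ?_
    rw [Functor.map_comp, hθ, CategoryTheory.Functor.map_id]
    exact adj.left_triangle_components M
  · rw [etaHom_natural, hθ]
    exact adj.right_triangle_components _

theorem isCoh_push [IsLocallyNoetherian X] [IsLocallyNoetherian X'] [IsLocallyNoetherian Z'] {M : X'.Modules}
    (hM : ClSub.KilledByIdeal a'.ker M) (hc : Coh.IsCoh M) : Coh.IsCoh ((Coh.push f).obj M) := by
  haveI := isClosedImmersion_comp hsq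
  refine isCoh_of_iso ((Coh.push f).mapIso (clIso a' hM) ≪≫
    (Scheme.Modules.pushforwardComp a' f).app _).symm ?_
  exact isCoh_push_finite (a' ≫ f) (isCoh_pullback_of_killed a' hM hc)

end Square

end Groth.Agent.Formal2Lib
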