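import Groth.Agent.Coherent.Existence.TwoStep

/-!
# Coherent formal modules killed by a fixed power of the ideal
-/

set_option autoImplicit false
set_option backward.isDefEq.respectTransparency false
set_option maxHeartbeats 400000

universe u

open CategoryTheory CategoryTheory.Limits AlgebraicGeometry Opposite TopologicalSpace
open Groth.Agent.Coherent Groth.Agent.Coherent.Serre Groth.Agent.Coherent.Existence

namespace Groth.Agent.Formal2Lib

variable {X : Scheme.{u}}

/-- The components of a morphism of systems form a compatible family. -/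
theorem compat_app {F G : ℕᵒᵖ ⥤ X.Modules} (α : F ⟶ G) :
    Compat (P := F) (G := G) fun n => α.app (op n) :=
  fun n => α.naturality (homOfLE (Nat.le_succ n)).op

/-- A compatible family as a morphism of systems. -/
noncomputable def homOfCompat {F G : ℕᵒᵖ ⥤ X.Modules} {f : ∀ n, F.obj (op n) ⟶ G.obj (op n)}
    (hf : Compat f) : F ⟶ G :=
  NatTrans.ofOpSequence f fun n => hf n

theorem homOfCompat_app {F G : ℕᵒᵖ ⥤ X.Modules} {f : ∀ n, F.obj (op n) ⟶ G.obj (op n)}
    (hf : Compat f) (n : ℕ) : (homOfCompat hf).app (op n) = f n := rfl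

/-- A levelwise invertible compatible family as an isomorphism of systems. -/
theorem exists_iso_of_compat {F G : ℕᵒᵖ ⥤ X.Modules} {f : ∀ n, F.obj (op n) ⟶ G.obj (op n)}
    (hf : Compat f) (h : ∀ n, IsIso (f n)) : ∃ e : F ≅ G, ∀ n, e.hom.app (op n) = f n := by
  have : ∀ k, IsIso ((homOfCompat hf).app k) := fun k => h k.unop
  have : IsIso (homOfCompat hf) := NatIso.isIso_of_isIso_app _
  exact ⟨asIso (homOfCompat hf), fun n => rfl⟩

variable {A : Type u} [CommRing A] [X.Over (Spec (CommRingCat.of A))] (I : Ideal A)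

/-- `M → M/Iⁿ M` as a map of levels of the completion. -/
noncomputable abbrev cπ (M : X.Modules) (n : ℕ) : M ⟶ (Formal.completion I M).obj (op n) :=
  Formal.modPowπ I (n + 1) M

/-- The completion of a morphism. -/
noncomputable abbrev cm {M N : X.Modules} (f : M ⟶ N) (n : ℕ) :
    (Formal.completion I M).obj (op n) ⟶ (Formal.completion I N).obj (op n) :=
  modPowMap I (n + 1) f

theorem compat_cm {M N : X.Modules} (f : M ⟶ N) :
    Compat (P := Formal.completion I M) (G := Formal.completion I N) (cm I f) :=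
  compat_modPowMap I f

theorem cπ_cm {M N : X.Modules} (f : M ⟶ N) (n : ℕ) : cπ I M n ≫ cm I f n = f ≫ cπ I N n :=
  π_modPowMap I (n + 1) f

theorem cπ_trLE (M : X.Modules) {n k : ℕ} (h : n ≤ k) :
    cπ I M k ≫ trLE (Formal.completion I M) h = cπ I M n :=
  modPowπ_completion_map I M h

instance (M : X.Modules) (n : ℕ) : Epi (cπ I M n) :=
  inferInstanceAs (Epi (Formal.modPowπ I (n + 1) M))

theorem cm_comp {M N K : X.Modules} (f : M ⟶ N) (g : N ⟶ K) (n : ℕ) :
    cm I f n ≫ cm I g n = cm I (f ≫ g) n :=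
  modPowMap_comp I (n + 1) f g

theorem cm_zero (M N : X.Modules) (n : ℕ) : cm I (0 : M ⟶ N) n = 0 :=
  modPowMap_zero I (n + 1) M N

theorem cm_id (M : X.Modules) (n : ℕ) : cm I (𝟙 M) n = 𝟙 _ :=
  modPowMap_id I (n + 1) M

theorem cm_add {M N : X.Modules} (f g : M ⟶ N) (n : ℕ) :
    cm I (f + g) n = cm I f n + cm I g n := by
  rw [← cancel_epi (cπ I M n), cπ_cm, Preadditive.comp_add, cπ_cm, cπ_cm, Preadditive.add_comp]

theorem isIso_cπ {M : X.Modules} {n : ℕ} (hM : Formal.KilledBy (I ^ (n + 1)) M) :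
    IsIso (cπ I M n) :=
  ⟨modPowDesc I (𝟙 M) hM, π_modPowDesc _ _ _, by
    rw [← cancel_epi (cπ I M n), ← Category.assoc]
    exact (congrArg (· ≫ cπ I M n) (π_modPowDesc I (𝟙 M) hM)).trans
      ((Category.id_comp _).trans (Category.comp_id _).symm)⟩

variable {I} {F G : ℕᵒᵖ ⥤ X.Modules}

/-- A level killed by a power of the ideal maps isomorphically to the lower one. -/
theorem isIso_trLE (hG : Formal.IsCohFormal I G) {n k : ℕ} (h : n ≤ k)
    (hk : Formal.KilledBy (I ^ (n + 1)) (G.obj (op k))) : IsIso (trLE G h) := by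
  obtain ⟨g, hg⟩ := exists_desc_trLE hG h hk (𝟙 _)
  have := epi_trLE hG h
  exact ⟨g, hg, by rw [← cancel_epi (trLE G h), ← Category.assoc, hg, Category.id_comp, Category.comp_id]⟩

/-- A system killed by a fixed power of the ideal is a completion. -/
theorem exists_iso_completion_of_killed (hG : Formal.IsCohFormal I G) {c : ℕ}
    (hc : ∀ n, Formal.KilledBy (I ^ c) (G.obj (op n))) :
    ∃ e : Formal.completion I (G.obj (op c)) ≅ G,
      ∀ n, c ≤ n → ∀ h : c ≤ n, cπ I (G.obj (op c)) n ≫ e.hom.app (op n) ≫ trLE G h = 𝟙 _ := by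
  have hiso : ∀ n, c ≤ n → ∀ k (h : n ≤ k), IsIso (trLE G h) := fun n hn k h =>
    isIso_trLE hG h (killedBy_of_le (Ideal.pow_le_pow_right (hn.trans (Nat.le_succ n))) (hc k))
  let v : ∀ n, G.obj (op c) ⟶ G.obj (op n) := fun n =>
    haveI := hiso c le_rfl (n + c) (Nat.le_add_left c n)
    inv (trLE G (Nat.le_add_left c n)) ≫ trLE G (Nat.le_add_right n c)
  have hv : ∀ n k (hk : c ≤ k) (hnk : n ≤ k), trLE G hk ≫ v n = trLE G hnk := by
    intro n k hk hnk
    have := hiso c le_rfl (n + c) (Nat.le_add_left c n)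
    have := hiso c le_rfl k hk
    let l := max k (n + c)
    have hl : k ≤ l := le_max_left _ _
    have := epi_trLE hG hl
    rw [← cancel_epi (trLE G hl), ← Category.assoc, trLE_trans, trLE_trans,
      ← trLE_trans G (Nat.le_add_left c n) (le_max_right k (n + c)), Category.assoc]
    simp only [v, IsIso.hom_inv_id_assoc]
    rw [trLE_trans]
  have hvc : ∀ n, v (n + 1) ≫ tr G n = v n := fun n => by
    have := epi_trLE hG (Nat.le_add_left c (n + 1))
    rw [← cancel_epi (trLE G (Nat.le_add_left c (n + 1))), ← Category.assoc,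
      hv (n + 1) (n + 1 + c) _ (Nat.le_add_right _ _), hv n (n + 1 + c) _ (by omega)]
    exact trLE_trans G _ _
  let u : ∀ n, (Formal.completion I (G.obj (op c))).obj (op n) ⟶ G.obj (op n) :=
    fun n => modPowDesc I (v n) (hG.2.1 n)
  have hu : ∀ n, cπ I (G.obj (op c)) n ≫ u n = v n := fun n => π_modPowDesc _ _ _
  have huc : Compat u := fun n => by
    refine (cancel_epi (cπ I (G.obj (op c)) (n + 1))).1 ?_
    rw [← Category.assoc, ← Category.assoc, hu, hvc]
    exact (congrArg (· ≫ u n) (cπ_trLE I _ (Nat.le_succ n))).trans (hu n)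
  have huiso : ∀ n, IsIso (u n) := fun n => by
    have := hiso c le_rfl (n + c) (Nat.le_add_left c n)
    have := epi_trLE hG (Nat.le_add_right n c)
    obtain ⟨g, hg⟩ := exists_desc_trLE hG (Nat.le_add_right n c)
      (killedBy_modPow I (n + 1) (G.obj (op c)))
      (trLE G (Nat.le_add_left c n) ≫ cπ I (G.obj (op c)) n)
    refine ⟨g, ?_, ?_⟩
    · rw [← cancel_epi (cπ I (G.obj (op c)) n), ← Category.assoc, hu,
        ← cancel_epi (trLE G (Nat.le_add_left c n)), ← Category.assoc,
        hv n (n + c) _ (Nat.le_add_right n c), hg, Category.comp_id]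
    · rw [← cancel_epi (trLE G (Nat.le_add_right n c)), ← Category.assoc, hg, Category.assoc, hu,
        hv n (n + c) _ (Nat.le_add_right n c), Category.comp_id]
  obtain ⟨e, he⟩ := exists_iso_of_compat huc huiso
  refine ⟨e, fun n hn h => ?_⟩
  rw [he, ← Category.assoc, hu]
  have := epi_trLE hG h
  rw [← cancel_epi (trLE G h), ← Category.assoc, hv n n h le_rfl, trLE_refl, Category.id_comp,
    Category.comp_id]

variable (I) in
/-- Morphisms into the completion of a module killed by a power of the ideal. -/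
theorem existsUnique_hom_of_killed_target {M N : X.Modules} {c : ℕ}
    (hc : Formal.KilledBy (I ^ c) N) (ψ : Formal.completion I M ⟶ Formal.completion I N) :
    ∃! φ : M ⟶ N, ∀ n : ℕ, cπ I M n ≫ ψ.app (op n) = φ ≫ cπ I N n := by
  have hiso : ∀ n, c ≤ n → IsIso (cπ I N n) := fun n hn =>
    isIso_cπ I (killedBy_of_le (Ideal.pow_le_pow_right (hn.trans (Nat.le_succ n))) hc)
  have := hiso c le_rfl
  refine ⟨cπ I M c ≫ ψ.app (op c) ≫ inv (cπ I N c), fun n => ?_, fun φ hφ => ?_⟩
  · let k := max n c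
    have h1 : n ≤ k := le_max_left _ _
    have h2 : c ≤ k := le_max_right _ _
    have := hiso k h2
    obtain ⟨φ, hφ⟩ : ∃ φ, cπ I M k ≫ ψ.app (op k) = φ ≫ cπ I N k :=
      ⟨cπ I M k ≫ ψ.app (op k) ≫ inv (cπ I N k), by simp⟩
    have key : ∀ j (hj : j ≤ k), cπ I M j ≫ ψ.app (op j) = φ ≫ cπ I N j := fun j hj => by
      rw [← cπ_trLE I M hj, Category.assoc, (compat_app ψ).trLE_comp hj, ← Category.assoc, hφ,
        Category.assoc, cπ_trLE I N hj]
    rw [key n h1, ← Category.assoc (cπ I M c), key c h2]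
    simp only [Category.assoc, IsIso.hom_inv_id, Category.comp_id]
  · rw [← Category.assoc, hφ c, Category.assoc, IsIso.hom_inv_id, Category.comp_id]

/-- A morphism to a module killed by a power of the ideal is zero if its completion is. -/
theorem eq_zero_of_cm_eq_zero {M N : X.Modules} {c : ℕ} (hc : Formal.KilledBy (I ^ c) N)
    (f : M ⟶ N) (h : ∀ n, cm I f n = 0) : f = 0 := by
  have := isIso_cπ I (n := c) (killedBy_of_le (Ideal.pow_le_pow_right (Nat.le_succ c)) hc)
  rw [← cancel_mono (cπ I N c), ← cπ_cm, h, comp_zero, zero_comp]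

end Groth.Agent.Formal2Lib
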