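import Groth.Agent.Coherent.Existence.SysKernel
import Groth.Agent.Formal2Lib.Torsion
import Groth.Prelude.Def_Formal2

/-!
# The limit of a quasi-coherent formal system
-/

set_option autoImplicit false
set_option backward.isDefEq.respectTransparency false

universe u

open CategoryTheory CategoryTheory.Limits AlgebraicGeometry Opposite TopologicalSpace
open Groth.Agent.Coherent Groth.Agent.Coherent.Serre Groth.Agent.Coherent.Existence
open Groth.Agent.PicLib Groth.Agent.AmpleLib

namespace Groth.Agent.Formal2Lib.LimQCoh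

attribute [local instance] hasFiniteBiproducts

variable {A : Type u} [CommRing A] {X : Scheme.{u}} [X.Over (Spec (CommRingCat.of A))] {I : Ideal A}
  {G : ℕᵒᵖ ⥤ X.Modules}

/-- The sections of a limit are the compatible families. -/
theorem existsUnique_section (U : X.Opens) (x : ∀ n, Γ(G.obj (op n), U))
    (hx : ∀ n, (tr G n).app U (x (n + 1)) = x n) :
    ∃! s : Γ(limit G, U), ∀ n, (limit.π G (op n)).app U s = x n := by
  have hle : ∀ {n k : ℕ} (h : n ≤ k), (trLE G h).app U (x k) = x n := fun {n k} h => by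
    induction k, h using Nat.le_induction with
    | base => rw [trLE_refl]; rfl
    | succ k hk ih => rw [trLE_succ G hk, comp_app_eq, hx]; exact ih
  let F := Scheme.Modules.toPresheaf X ⋙ (evaluation _ _).obj (op U) ⋙ forget Ab
  have : PreservesLimitsOfSize.{0, 0} F := by
    have : PreservesLimitsOfSize.{u, u} (Scheme.Modules.toPresheaf X) := inferInstance
    have : PreservesLimitsOfSize.{u, u} ((evaluation X.Opensᵒᵖ Ab.{u}).obj (op U) ⋙ forget Ab.{u}) :=
      comp_preservesLimits _ _
    have : PreservesLimitsOfSize.{u, u} F := comp_preservesLimits _ _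
    exact preservesLimitsOfSize_shrink.{0, u, 0, u} F
  have hF : IsLimit (F.mapCone (limit.cone G)) := isLimitOfPreserves F (limit.isLimit G)
  obtain ⟨s, hs, hu⟩ := (Types.isLimit_iff (F.mapCone (limit.cone G))).1 ⟨hF⟩
    (fun k => x k.unop) fun {j k} f => hle (leOfHom f.unop)
  exact ⟨s, fun n => hs (op n), fun t ht => hu t fun k => ht k.unop⟩

theorem section_ext {U : X.Opens} {s t : Γ(limit G, U)}
    (h : ∀ n, (limit.π G (op n)).app U s = (limit.π G (op n)).app U t) : s = t := by
  obtain ⟨z, -, hu⟩ := existsUnique_section (G := G) U (fun n => (limit.π G (op n)).app U s) fun n => by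
    rw [← comp_app_eq]
    exact app_congr (limit.w G (homOfLE (Nat.le_succ n)).op) U s
  exact (hu s fun n => rfl).trans (hu t fun n => (h n).symm).symm

variable (hG : Formal2.IsQCohFormal I G)
include hG

theorem epi_tr (n : ℕ) : Epi (tr G n) := by
  obtain ⟨h, hiso⟩ := hG.2.2 n
  have e : cokernel.π _ ≫ cokernel.desc _ _ h = tr G n := cokernel.π_desc _ _ _
  rw [← e]
  exact epi_comp' inferInstance (@IsIso.epi_of_iso _ _ _ _ _ hiso)

theorem tr_surjective (n : ℕ) {U : X.Opens} (hU : IsAffineOpen U) :
    Function.Surjective ((tr G n).app U) := by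
  have := hG.1 n
  have := hG.1 (n + 1)
  have := epi_tr hG n
  exact app_surjective_of_epi _ hU

theorem exists_of_tr_eq_zero (n : ℕ) {ι : Type} [Fintype ι] (g : ι → A)
    (hg : Ideal.span (Set.range g) = I ^ (n + 1)) {U : X.Opens} (hU : IsAffineOpen U)
    (x : Γ(G.obj (op (n + 1)), U)) (hx : (tr G n).app U x = 0) :
    ∃ y : ι → Γ(G.obj (op (n + 1)), U),
      x = ∑ i, (Formal.smulMod A (G.obj (op (n + 1))) (g i)).app U (y i) := by
  classical
  let e := Fintype.equivFin ι
  let M := G.obj (op (n + 1))
  let Ψ := biproduct.desc fun i : Fin (Fintype.card ι) => Formal.smulMod A M (g (e.symm i))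
  obtain ⟨h, hiso⟩ := hG.2.2 n
  have := isQCoh_biproduct (fun _ : Fin (Fintype.card ι) => M) fun _ => hG.1 (n + 1)
  have := hG.1 (n + 1)
  have hv : ∃ v : G.obj (op n) ⟶ cokernel Ψ, tr G n ≫ v = cokernel.π Ψ := by
    refine ⟨inv (cokernel.desc _ _ h) ≫ cokernel.desc _ (cokernel.π Ψ) (Sigma.hom_ext _ _ fun c => ?_), ?_⟩
    · rw [comp_zero, ← Category.assoc, Serre.ι_smulFamily]
      obtain ⟨t, ht⟩ := (Submodule.mem_span_range_iff_exists_fun A).1 (hg.ge c.2)
      let sm : A →+ (M ⟶ M) := AddMonoidHom.mk' (Formal.smulMod A M) (smulMod_add _)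
      show sm (c : A) ≫ _ = 0
      rw [← ht, map_sum, Preadditive.sum_comp]
      refine Finset.sum_eq_zero fun i _ => ?_
      show Formal.smulMod A M (t i • g i) ≫ _ = 0
      have e1 : Formal.smulMod A M (g i) = biproduct.ι (fun _ => M) (e i) ≫ Ψ := by
        simp [Ψ, M]
      rw [smul_eq_mul, mul_comm, smulMod_mul, Category.assoc, e1, Category.assoc, cokernel.condition,
        comp_zero, comp_zero]
    · have e1 : cokernel.π _ ≫ cokernel.desc _ _ h = tr G n := cokernel.π_desc _ _ _
      rw [← e1, Category.assoc, IsIso.hom_inv_id_assoc, cokernel.π_desc]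
  obtain ⟨v, hv⟩ := hv
  have h0 : (cokernel.π Ψ).app U x = 0 := by
    rw [← app_congr hv, comp_app_eq, hx, map_zero]
  obtain ⟨k, hk⟩ := kernel_sections_exact (cokernel.π Ψ) x h0
  have : Coh.IsQCoh (cokernel Ψ) := isQCoh_cokernel Ψ
  have : Coh.IsQCoh (Abelian.image Ψ) := isQCoh_kernel (cokernel.π Ψ)
  obtain ⟨z, hz⟩ := app_surjective_of_epi (Abelian.factorThruImage Ψ) hU k
  have hzx : Ψ.app U z = x := by
    rw [← app_congr (Abelian.image.fac Ψ), comp_app_eq, hz]; exact hk
  refine ⟨fun i => (biproduct.π (fun _ => M) (e i)).app U z, ?_⟩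
  rw [← hzx, ← biproduct_sections_total (fun _ : Fin (Fintype.card ι) => M) U z, map_sum]
  refine (Fintype.sum_equiv e _ _ fun i => ?_).symm
  rw [biproduct_sections_total]
  exact ((comp_app_eq _ _ _ _).symm.trans (app_congr (by simp [Ψ, M]) U _)).symm

variable (hI : I.FG)
include hI

/-- A compatible family vanishing at level `n` is a combination of generators of `Iⁿ⁺¹`. -/
theorem exists_combination (n : ℕ) {r : ℕ} (a : Fin r → A)
    (ha : Ideal.span (Set.range a) = I ^ (n + 1)) {U : X.Opens} (hU : IsAffineOpen U)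
    (x : ∀ j, Γ(G.obj (op j), U)) (hx : ∀ j, (tr G j).app U (x (j + 1)) = x j) (h0 : x n = 0) :
    ∃ Y : Fin r → ∀ j, Γ(G.obj (op j), U), (∀ i j, (tr G j).app U (Y i (j + 1)) = Y i j) ∧
      ∀ j, x j = ∑ i, (Formal.smulMod A (G.obj (op j)) (a i)).app U (Y i j) := by
  classical
  have hsm : ∀ {j k : ℕ} (h : j ≤ k) (c : A) (w : Γ(G.obj (op k), U)),
      (trLE G h).app U ((Formal.smulMod A (G.obj (op k)) c).app U w) =
        (Formal.smulMod A (G.obj (op j)) c).app U ((trLE G h).app U w) := fun h c w => by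
    rw [← comp_app_eq, ← comp_app_eq, smulMod_natural]
  let S : ∀ d, (Fin r → Γ(G.obj (op (n + d)), U)) → Prop := fun d y =>
    x (n + d) = ∑ i, (Formal.smulMod A (G.obj (op (n + d))) (a i)).app U (y i)
  have step : ∀ d (y : Fin r → Γ(G.obj (op (n + d)), U)), ∃ y' : Fin r → Γ(G.obj (op (n + d + 1)), U),
      S d y → S (d + 1) y' ∧ ∀ i j (hj : j ≤ n + d), j < d →
        (trLE G hj).app U ((tr G (n + d)).app U (y' i)) = (trLE G hj).app U (y i) := by
    intro d y
    by_cases hy : S d y
    swap
    · exact ⟨0, fun h => absurd h hy⟩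
    obtain ⟨q, c, hc⟩ := Submodule.fg_iff_exists_fin_generating_family.1 (hI.pow (n := d))
    have hgen : Ideal.span (Set.range fun p : Fin r × Fin q => a p.1 * c p.2) = I ^ (n + d + 1) := by
      rw [show n + d + 1 = (n + 1) + d by omega, pow_add, ← ha,
        show I ^ d = Ideal.span (Set.range c) from hc.symm, Ideal.span_mul_span']
      congr 1
      ext b
      simp [Set.mem_mul]
    choose z hz using fun i => tr_surjective hG (n + d) hU (y i)
    obtain ⟨w, hw⟩ := exists_of_tr_eq_zero hG (n + d) _ hgen hU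
      (x (n + d + 1) - ∑ i, (Formal.smulMod A (G.obj (op (n + d + 1))) (a i)).app U (z i)) (by
        rw [map_sub, hx, map_sum, hy, sub_eq_zero]
        refine Finset.sum_congr rfl fun i _ => ?_
        rw [← hz i]
        exact (hsm (Nat.le_succ (n + d)) (a i) (z i)).symm)
    refine ⟨fun i => z i + ∑ k, (Formal.smulMod A (G.obj (op (n + d + 1))) (c k)).app U (w (i, k)),
      fun _ => ⟨?_, fun i j hj hjd => ?_⟩⟩
    · show x (n + d + 1) = _
      rw [sub_eq_iff_eq_add] at hw
      rw [hw, Fintype.sum_prod_type, ← Finset.sum_add_distrib]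
      refine Finset.sum_congr rfl fun i _ => ?_
      rw [map_add, map_sum]
      refine (add_comm _ _).trans ?_
      congr 1
      refine Finset.sum_congr rfl fun k _ => ?_
      exact (app_congr (smulMod_mul _ (a i) (c k)) U _).trans rfl
    · rw [map_add, map_add, hz, map_sum, map_sum]
      refine add_eq_left.2 (Finset.sum_eq_zero fun k _ => ?_)
      rw [hsm (Nat.le_succ (n + d)), hsm hj]
      have hck : c k ∈ I ^ (j + 1) :=
        Ideal.pow_le_pow_right hjd (hc.le (Submodule.subset_span ⟨k, rfl⟩))
      rw [hG.2.1 j (c k) hck]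
      rfl
  choose next hnext using step
  let y : ∀ d, Fin r → Γ(G.obj (op (n + d)), U) := fun d =>
    Nat.rec (motive := fun d => Fin r → Γ(G.obj (op (n + d)), U)) 0 next d
  have hy : ∀ d, S d (y d) := fun d => by
    induction d with
    | zero =>
      show x n = _
      rw [h0]
      exact (Finset.sum_eq_zero fun i _ => map_zero _).symm
    | succ d ih => exact (hnext d (y d) ih).1
  refine ⟨fun i j => (trLE G (show j ≤ n + (j + 1) by omega)).app U (y (j + 1) i), fun i j => ?_,
    fun j => ?_⟩
  · show (tr G j).app U ((trLE G _).app U (y (j + 1 + 1) i)) = (trLE G _).app U (y (j + 1) i)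
    rw [← comp_app_eq, ← (hnext (j + 1) (y (j + 1)) (hy _)).2 i j (by omega) (Nat.lt_succ_self j),
      ← comp_app_eq (tr G (n + (j + 1)))]
    refine app_congr ?_ U (y (j + 1 + 1) i)
    exact (trLE_trans G (Nat.le_succ j) _).trans (trLE_trans G _ (Nat.le_succ (n + (j + 1)))).symm
  · have hle : ∀ {j k : ℕ} (h : j ≤ k), (trLE G h).app U (x k) = x j := fun {j k} h => by
      induction k, h using Nat.le_induction with
      | base => rw [trLE_refl]; rfl
      | succ k hk ih => rw [trLE_succ G hk, comp_app_eq, hx]; exact ih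
    rw [← hle (show j ≤ n + (j + 1) by omega), hy (j + 1), map_sum]
    exact Finset.sum_congr rfl fun i _ => hsm _ _ _

/-- The quotient of the limit by `Iⁿ⁺¹` is the `n`th level. -/
theorem isIso_desc (n : ℕ) : ∃ h : Formal.smulFamily (I ^ (n + 1)) (limit G) ≫ limit.π G (op n) = 0,
    IsIso (cokernel.desc _ _ h) := by
  classical
  have h : Formal.smulFamily (I ^ (n + 1)) (limit G) ≫ limit.π G (op n) = 0 :=
    Sigma.hom_ext _ _ fun c => by
      rw [comp_zero, ← Category.assoc, Serre.ι_smulFamily, smulMod_natural, hG.2.1 n c c.2, comp_zero]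
  refine ⟨h, ?_⟩
  have hepi : Epi (limit.π G (op n)) := by
    refine epi_of_affine_surjective _ fun U hU z => ?_
    choose lift hlift using fun m => tr_surjective hG m hU
    let up : ∀ d, Γ(G.obj (op (n + d)), U) := fun d =>
      Nat.rec (motive := fun d => Γ(G.obj (op (n + d)), U)) z (fun d w => lift (n + d) w) d
    have hup : ∀ j k (hk : k ≤ n + j), (trLE G (hk.trans (Nat.le_succ _))).app U (up (j + 1)) =
        (trLE G hk).app U (up j) := fun j k hk => by
      rw [trLE_succ G hk, comp_app_eq]
      exact congrArg _ (hlift (n + j) (up j))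
    obtain ⟨s, hs, -⟩ := existsUnique_section (G := G) U
      (fun j => (trLE G (Nat.le_add_left j n)).app U (up j)) fun j => by
        rw [← comp_app_eq, ← hup j j (Nat.le_add_left j n)]
        exact app_congr (trLE_trans G (Nat.le_succ j) _) U _
    refine ⟨s, (hs n).trans ?_⟩
    have key : ∀ j (hj : n ≤ n + j), (trLE G hj).app U (up j) = z := fun j => by
      induction j with
      | zero => intro hj; exact app_congr (trLE_refl G n) U z
      | succ j ih => intro hj; exact (hup j n (Nat.le_add_right n j)).trans (ih _)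
    exact key n _
  let q := cokernel.π (Formal.smulFamily (I ^ (n + 1)) (limit G))
  obtain ⟨r, a, ha⟩ := Submodule.fg_iff_exists_fin_generating_family.1 (hI.pow (n := n + 1))
  have hker : kernel.ι (limit.π G (op n)) ≫ q = 0 := by
    refine Scheme.Modules.hom_ext _ _ fun W => ?_
    ext k
    refine AmpleLib.sec_ext _ _ _ fun p hp => ?_
    obtain ⟨U, hU, hpU, hUW⟩ := exists_isAffineOpen_mem_and_subset (x := p) (U := W) hp
    refine ⟨U, fun z hz => hUW hz, hpU, ?_⟩
    rw [← app_resM, ← app_resM]
    refine Eq.trans (b := (0 : Γ(cokernel (Formal.smulFamily (I ^ (n + 1)) (limit G)), U))) ?_ rfl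
    show q.app U ((kernel.ι (limit.π G (op n))).app U (resM _ _ k)) = 0
    set x := (kernel.ι (limit.π G (op n))).app U (resM _ (fun z hz => hUW hz : U ≤ W) k) with hxdef
    obtain ⟨Y, hYc, hY⟩ := exists_combination hG hI n a ha hU
      (fun j => (limit.π G (op j)).app U x)
      (fun j => (comp_app_eq _ _ _ _).symm.trans (app_congr (limit.w G (homOfLE (Nat.le_succ j)).op) U x))
      (kernel_ι_app_zero _ _ _)
    choose s hs using fun i => (existsUnique_section (G := G) U (Y i) (hYc i)).exists
    have hxs : x = ∑ i, (Formal.smulMod A (limit G) (a i)).app U (s i) := section_ext fun j => by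
      rw [hY j, map_sum]
      refine Finset.sum_congr rfl fun i _ => ?_
      rw [← hs i j, ← comp_app_eq, ← comp_app_eq, smulMod_natural]
    rw [hxs, map_sum]
    refine (Finset.sum_eq_zero fun i _ => ?_).trans rfl
    have e : Formal.smulMod A (limit G) (a i) ≫ q = 0 := by
      rw [← Serre.ι_smulFamily (I ^ (n + 1)) _ ⟨a i, ha.le (Submodule.subset_span ⟨i, rfl⟩)⟩,
        Category.assoc, cokernel.condition, comp_zero]
    rw [← comp_app_eq, e]
    rfl
  refine ⟨Abelian.epiDesc (limit.π G (op n)) q hker, ?_, ?_⟩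
  · rw [← cancel_epi q, ← Category.assoc]
    refine (congrArg (· ≫ Abelian.epiDesc (limit.π G (op n)) q hker) (cokernel.π_desc _ _ h)).trans ?_
    rw [Abelian.comp_epiDesc, Category.comp_id]
  · rw [← cancel_epi (limit.π G (op n)), ← Category.assoc, Abelian.comp_epiDesc, cokernel.π_desc,
      Category.comp_id]

end Groth.Agent.Formal2Lib.LimQCoh
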