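import Groth.Agent.Formal2Lib.LimQCoh
import Mathlib.CategoryTheory.Abelian.Refinements

/-!
# Systems modulo the powers of an element
-/

set_option autoImplicit false
set_option backward.isDefEq.respectTransparency false

universe u

open CategoryTheory CategoryTheory.Limits AlgebraicGeometry Opposite TopologicalSpace
open Groth.Agent.Coherent Groth.Agent.Coherent.Serre Groth.Agent.Coherent.Existence

namespace Groth.Agent.Formal2Lib.Principal

variable {A : Type u} [CommRing A] {X : Scheme.{u}} [X.Over (Spec (CommRingCat.of A))] (f : A)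

theorem pow_span_le {n : ℕ} {c : A} (hc : c ∈ Ideal.span ({f} : Set A) ^ n) : ∃ d, c = d * f ^ n := by
  rw [Ideal.span_singleton_pow] at hc
  obtain ⟨d, hd⟩ := Ideal.mem_span_singleton'.1 hc
  exact ⟨d, hd.symm⟩

theorem killedBy_pow {n : ℕ} {M : X.Modules} (h : Formal.smulMod A M (f ^ n) = 0) :
    Formal.KilledBy (Ideal.span ({f} : Set A) ^ n) M := fun c hc => by
  obtain ⟨d, rfl⟩ := pow_span_le f hc
  rw [smulMod_mul, h, zero_comp]

theorem exists_desc {M Z : X.Modules} (n : ℕ) (u : M ⟶ Z) (h : Formal.smulMod A M (f ^ n) ≫ u = 0) :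
    ∃ d, Formal.modPowπ (Ideal.span ({f} : Set A)) n M ≫ d = u := by
  refine ⟨cokernel.desc _ u (Sigma.hom_ext _ _ fun c => ?_), cokernel.π_desc _ _ _⟩
  obtain ⟨d, hd⟩ := pow_span_le f c.2
  rw [comp_zero, ← Category.assoc, Serre.ι_smulFamily, hd, mul_comm, smulMod_mul, Category.assoc, h,
    comp_zero]

theorem pow_mem_span_pow (n : ℕ) : f ^ n ∈ Ideal.span ({f} : Set A) ^ n :=
  Ideal.pow_mem_pow (Ideal.mem_span_singleton_self f) n

theorem smul_π (M : X.Modules) (n : ℕ) :
    Formal.smulMod A M (f ^ n) ≫ Formal.modPowπ (Ideal.span ({f} : Set A)) n M = 0 :=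
  smulMod_modPowπ _ M (pow_mem_span_pow f n)

/-- What dies in `M/fⁿ M` is a multiple of `fⁿ`, up to refinement. -/
theorem exists_refinement (M : X.Modules) (n : ℕ) {Z : X.Modules} (x : Z ⟶ M)
    (hx : x ≫ Formal.modPowπ (Ideal.span ({f} : Set A)) n M = 0) :
    ∃ (Z' : X.Modules) (e : Z' ⟶ Z) (_ : Epi e) (y : Z' ⟶ M), e ≫ x = y ≫ Formal.smulMod A M (f ^ n) := by
  obtain ⟨d, hd⟩ := exists_desc f n (cokernel.π (Formal.smulMod A M (f ^ n))) (cokernel.condition _)
  exact (ShortComplex.exact_of_g_is_cokernel (ShortComplex.mk _ _ (cokernel.condition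
    (Formal.smulMod A M (f ^ n)))) (cokernelIsCokernel _)).exact_up_to_refinements x
    (by show x ≫ cokernel.π _ = 0; rw [← hd, ← Category.assoc, hx, zero_comp])

theorem mono_pow {M : X.Modules} (hM : Mono (Formal.smulMod A M f)) (n : ℕ) :
    Mono (Formal.smulMod A M (f ^ n)) := by
  induction n with
  | zero => rw [pow_zero, smulMod_one]; infer_instance
  | succ n ih => rw [pow_succ, smulMod_mul]; exact mono_comp _ _

theorem exists_shortExact (F : X.Modules) (hF : Mono (Formal.smulMod A F f)) (n : ℕ) :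
    ∃ i : Formal.modPow (Ideal.span ({f} : Set A)) 1 F ⟶ Formal.modPow (Ideal.span ({f} : Set A)) (n + 1) F,
      Mono i ∧ Formal2.modPowLE (Ideal.span ({f} : Set A)) (Nat.le_add_left 1 n) F ≫ i =
        Formal.smulMod A (Formal.modPow (Ideal.span ({f} : Set A)) (n + 1) F) (f ^ n) ∧
      ∃ w : i ≫ Formal.modPowTrans (Ideal.span ({f} : Set A)) n F = 0,
        (ShortComplex.mk i (Formal.modPowTrans (Ideal.span ({f} : Set A)) n F) w).ShortExact := by
  let J := Ideal.span ({f} : Set A)
  let π := fun k => Formal.modPowπ J k F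
  have := mono_pow f hF n
  obtain ⟨i, hi⟩ := exists_desc f 1 (Formal.smulMod A F (f ^ n) ≫ π (n + 1)) (by
    rw [← Category.assoc, ← smulMod_mul, ← pow_add, smul_π])
  have hiπ : π 1 ≫ i = Formal.smulMod A F (f ^ n) ≫ π (n + 1) := hi
  have hmono : Mono i := Preadditive.mono_of_cancel_zero _ fun {Z} x hx => by
    obtain ⟨Z', e, he, x', hx'⟩ := surjective_up_to_refinements_of_epi (π 1) x
    have h0 : (x' ≫ Formal.smulMod A F (f ^ n)) ≫ π (n + 1) = 0 := by
      rw [Category.assoc, ← hiπ, ← Category.assoc, ← hx', Category.assoc, hx, comp_zero]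
    obtain ⟨Z'', e', he', y, hy⟩ := exists_refinement f F (n + 1) _ h0
    rw [pow_succ, smulMod_mul, ← Category.assoc, ← Category.assoc] at hy
    have hy' := (cancel_mono (Formal.smulMod A F (f ^ n))).1 hy
    rw [← cancel_epi e, comp_zero, hx', ← cancel_epi e', comp_zero, ← Category.assoc, hy', Category.assoc,
      show Formal.smulMod A F f ≫ π 1 = 0 by simpa using smul_π f F 1, comp_zero]
  have ht : π (n + 1) ≫ Formal.modPowTrans J n F = π n := Formal.modPowπ_trans J n F
  have : Epi (Formal.modPowTrans J n F) := epi_of_epi_fac ht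
  have w : i ≫ Formal.modPowTrans J n F = 0 := by
    rw [← cancel_epi (π 1), comp_zero, ← Category.assoc, hiπ, Category.assoc, ht, smul_π]
  refine ⟨i, hmono, ?_, w, ?_⟩
  · rw [← cancel_epi (π (n + 1)), ← Category.assoc, Formal2.modPowπ_modPowLE, hiπ, smulMod_natural]
  · refine { exact := ?_, mono_f := hmono, epi_g := inferInstance }
    refine (ShortComplex.exact_iff_exact_up_to_refinements _).2 fun {Z} x hx => ?_
    obtain ⟨Z', e, he, x', hx'⟩ := surjective_up_to_refinements_of_epi (π (n + 1)) x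
    have h0 : x' ≫ π n = 0 := by
      rw [← ht, ← Category.assoc, ← hx', Category.assoc, hx, comp_zero]
    obtain ⟨Z'', e', he', y, hy⟩ := exists_refinement f F n _ h0
    refine ⟨Z'', e' ≫ e, epi_comp _ _, y ≫ π 1, ?_⟩
    show (e' ≫ e) ≫ x = (y ≫ π 1) ≫ i
    rw [Category.assoc, hx', ← Category.assoc, hy, Category.assoc, Category.assoc, hiπ]

section System

variable {G : ℕᵒᵖ ⥤ X.Modules}
  (h1 : ∀ n : ℕ, ∃ i : G.obj (op n) ⟶ G.obj (op (n + 1)), Mono i ∧
    G.map (homOfLE (Nat.le_succ n)).op ≫ i = Formal.smulMod A (G.obj (op (n + 1))) f ∧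
    ∃ w : i ≫ G.map (homOfLE (Nat.zero_le (n + 1))).op = 0,
      (ShortComplex.mk i (G.map (homOfLE (Nat.zero_le (n + 1))).op) w).ShortExact)
include h1

theorem level_zero : Formal.smulMod A (G.obj (op 0)) f = 0 := by
  obtain ⟨i, -, hti, w, hw⟩ := h1 0
  have : Epi (tr G 0) := hw.epi_g
  rw [← cancel_epi (tr G 0), comp_zero, ← smulMod_natural, ← hti, Category.assoc]
  exact (congrArg (tr G 0 ≫ ·) w).trans comp_zero

theorem killed (n : ℕ) : Formal.smulMod A (G.obj (op n)) (f ^ (n + 1)) = 0 := by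
  induction n with
  | zero => rw [pow_one]; exact level_zero f h1
  | succ n ih =>
    obtain ⟨i, -, hti, -⟩ := h1 n
    rw [pow_succ, smulMod_mul, ← hti, Category.assoc, ← smulMod_natural, ih, zero_comp, comp_zero]

theorem epi_tr (n : ℕ) : Epi (tr G n) := by
  induction n with
  | zero => obtain ⟨i, -, -, w, hw⟩ := h1 0; exact hw.epi_g
  | succ n ih =>
    obtain ⟨i, -, hti, w, hw⟩ := h1 n
    let q := cokernel.π (tr G (n + 1))
    have hg : Epi (trLE G (Nat.zero_le (n + 1 + 1))) := by
      obtain ⟨j, -, -, w', hw'⟩ := h1 (n + 1); exact hw'.epi_g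
    haveI := hw.epi_g
    have hiq : Epi (i ≫ q) := Preadditive.epi_of_cancel_zero _ fun {Z} g hg' => by
      obtain ⟨g', hg''⟩ : ∃ g', trLE G (Nat.zero_le (n + 1)) ≫ g' = q ≫ g :=
        ⟨hw.exact.gIsCokernel.desc (CokernelCofork.ofπ (q ≫ g) (by
          show i ≫ q ≫ g = 0
          rw [← Category.assoc, hg'])), hw.exact.gIsCokernel.fac _ WalkingParallelPair.one⟩
      have h0 : g' = 0 := by
        rw [← cancel_epi (trLE G (Nat.zero_le (n + 1 + 1))), comp_zero,
          trLE_succ G (Nat.zero_le (n + 1)), Category.assoc, hg'', ← Category.assoc]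
        exact (congrArg (· ≫ g) (cokernel.condition _)).trans zero_comp
      rw [← cancel_epi q, comp_zero, ← hg'', h0, comp_zero]
    have hfe : Epi (Formal.smulMod A (cokernel (tr G (n + 1))) f) := by
      have : Epi (q ≫ Formal.smulMod A (cokernel (tr G (n + 1))) f) := by
        rw [← smulMod_natural, ← hti, Category.assoc]
        exact epi_comp' ih hiq
      exact epi_of_epi q _
    have hpow : ∀ k, Epi (Formal.smulMod A (cokernel (tr G (n + 1))) (f ^ k)) := fun k => by
      induction k with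
      | zero => rw [pow_zero, smulMod_one]; infer_instance
      | succ k ihk => rw [pow_succ, smulMod_mul]; exact epi_comp' hfe ihk
    have hz : Formal.smulMod A (cokernel (tr G (n + 1))) (f ^ (n + 1 + 1)) = 0 := by
      rw [← cancel_epi q, comp_zero, ← smulMod_natural, killed f h1 (n + 1), zero_comp]
    have := hpow (n + 1 + 1)
    refine Preadditive.epi_of_cancel_zero _ fun {Z} g hg => ?_
    rw [← cokernel.π_desc (tr G (n + 1)) g hg,
      show cokernel.desc (tr G (n + 1)) g hg = 0 by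
        rw [← cancel_epi (Formal.smulMod A (cokernel (tr G (n + 1))) (f ^ (n + 1 + 1))), hz, zero_comp,
          comp_zero], comp_zero]

theorem exists_refinement_tr (n : ℕ) : ∀ {Z : X.Modules} (x : Z ⟶ G.obj (op (n + 1))),
    x ≫ tr G n = 0 → ∃ (Z' : X.Modules) (e : Z' ⟶ Z) (_ : Epi e) (y : Z' ⟶ G.obj (op (n + 1))),
      e ≫ x = y ≫ Formal.smulMod A (G.obj (op (n + 1))) (f ^ (n + 1)) := by
  induction n with
  | zero =>
    intro Z x hx
    obtain ⟨i, -, hti, w, hw⟩ := h1 0
    obtain ⟨Z', e, he, z, hz⟩ := hw.exact.exact_up_to_refinements x hx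
    have := epi_tr f h1 0
    obtain ⟨Z'', e', he', z', hz'⟩ := surjective_up_to_refinements_of_epi (tr G 0) z
    refine ⟨Z'', e' ≫ e, epi_comp _ _, z', ?_⟩
    have hz2 : e ≫ x = z ≫ i := hz
    rw [Category.assoc, hz2, ← Category.assoc, hz', Category.assoc, pow_one]
    exact congrArg (z' ≫ ·) hti
  | succ n ih =>
    intro Z x hx
    obtain ⟨i, hi, hti, w, hw⟩ := h1 (n + 1)
    obtain ⟨i', hi', hti', -⟩ := h1 n
    obtain ⟨Z', e, he, z, hz⟩ := hw.exact.exact_up_to_refinements x (by
      show x ≫ trLE G (Nat.zero_le (n + 1 + 1)) = 0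
      rw [trLE_succ G (Nat.zero_le (n + 1)), ← Category.assoc, hx, zero_comp])
    have hz2 : e ≫ x = z ≫ i := hz
    have := epi_tr f h1 (n + 1)
    have hcomm : i ≫ tr G (n + 1) = tr G n ≫ i' := by
      rw [← cancel_epi (tr G (n + 1)), ← Category.assoc]
      refine (congrArg (· ≫ tr G (n + 1)) hti).trans ?_
      rw [smulMod_natural]
      exact congrArg (tr G (n + 1) ≫ ·) hti'.symm
    have hzt : z ≫ tr G n = 0 := by
      rw [← cancel_mono i', zero_comp, Category.assoc, ← hcomm, ← Category.assoc, ← hz2, Category.assoc,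
        hx, comp_zero]
    obtain ⟨Z'', e', he', y, hy⟩ := ih z hzt
    obtain ⟨Z₃, e'', he'', y', hy'⟩ := surjective_up_to_refinements_of_epi (tr G (n + 1)) y
    refine ⟨Z₃, e'' ≫ e' ≫ e, epi_comp _ _, y', ?_⟩
    rw [Category.assoc, Category.assoc, hz2, reassoc_of% hy, reassoc_of% hy', smulMod_natural i,
      ← Category.assoc (tr G (n + 1))]
    refine congrArg (y' ≫ ·) ((congrArg (· ≫ _) hti).trans ?_)
    rw [← smulMod_mul, ← pow_succ]

theorem isQCohFormal (hqc : ∀ n : ℕᵒᵖ, Coh.IsQCoh (G.obj n)) :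
    Formal2.IsQCohFormal (Ideal.span ({f} : Set A)) G := by
  refine ⟨fun n => hqc _, fun n => killedBy_pow f (killed f h1 n), fun n => ?_⟩
  have hk := killedBy_pow f (killed f h1 n)
  have h : Formal.smulFamily (Ideal.span ({f} : Set A) ^ (n + 1)) (G.obj (op (n + 1))) ≫ tr G n = 0 :=
    Sigma.hom_ext _ _ fun c => by
      rw [comp_zero, ← Category.assoc, Serre.ι_smulFamily, smulMod_natural, hk c c.2, comp_zero]
  refine ⟨h, ?_⟩
  let π := Formal.modPowπ (Ideal.span ({f} : Set A)) (n + 1) (G.obj (op (n + 1)))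
  have := epi_tr f h1 n
  have hker : kernel.ι (tr G n) ≫ π = 0 := by
    obtain ⟨Z', e, he, y, hy⟩ := exists_refinement_tr f h1 n _ (kernel.condition (tr G n))
    rw [← cancel_epi e, comp_zero, ← Category.assoc, hy, Category.assoc, smul_π, comp_zero]
  refine ⟨Abelian.epiDesc (tr G n) π hker, ?_, ?_⟩
  · rw [← cancel_epi π, ← Category.assoc]
    refine (congrArg (· ≫ Abelian.epiDesc (tr G n) π hker) (cokernel.π_desc _ _ h)).trans ?_
    rw [Abelian.comp_epiDesc]
    exact (Category.comp_id _).symm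
  · rw [← cancel_epi (tr G n), ← Category.assoc, Abelian.comp_epiDesc, Category.comp_id]
    exact cokernel.π_desc _ _ _

theorem exists_limit_model (hqc : ∀ n : ℕᵒᵖ, Coh.IsQCoh (G.obj n)) :
    ∃ F : X.Modules, Mono (Formal.smulMod A F f) ∧
      Nonempty (Formal.completion (Ideal.span ({f} : Set A)) F ≅ G) := by
  have hG := isQCohFormal f h1 hqc
  have hw : ∀ n, limit.π G (op (n + 1)) ≫ tr G n = limit.π G (op n) := fun n =>
    limit.w G (homOfLE (Nat.le_succ n)).op
  refine ⟨limit G, Preadditive.mono_of_cancel_zero _ fun {Z} g hg => limit.hom_ext fun k => ?_, ?_⟩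
  · obtain ⟨n⟩ := k
    obtain ⟨i, hi, hti, -⟩ := h1 n
    rw [zero_comp, ← cancel_mono i, zero_comp, ← hw n, Category.assoc, Category.assoc]
    refine (congrArg (g ≫ limit.π G (op (n + 1)) ≫ ·) hti).trans ?_
    rw [← smulMod_natural, ← Category.assoc, hg, zero_comp]
  · choose hd hiso using fun n => LimQCoh.isIso_desc hG ⟨{f}, by simp⟩ n
    let u : ∀ n, (Formal.completion (Ideal.span ({f} : Set A)) (limit G)).obj (op n) ⟶ G.obj (op n) :=
      fun n => cokernel.desc _ _ (hd n)
    have hu : ∀ n, cπ (Ideal.span ({f} : Set A)) (limit G) n ≫ u n = limit.π G (op n) := fun n =>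
      cokernel.π_desc _ _ _
    have huc : Compat u := fun n => by
      refine (cancel_epi (cπ (Ideal.span ({f} : Set A)) (limit G) (n + 1))).1 ?_
      rw [← Category.assoc, ← Category.assoc, hu, hw]
      exact (congrArg (· ≫ u n) (cπ_trLE _ _ (Nat.le_succ n))).trans (hu n)
    obtain ⟨e, -⟩ := exists_iso_of_compat huc hiso
    exact ⟨e⟩

end System

end Groth.Agent.Formal2Lib.Principal
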