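import Groth.Agent.Formal2Lib.ComplModFF
import Groth.Agent.FModLib.ComplFunctor
import Groth.Agent.FModLib.PullSys
import Groth.Agent.Coherent.Existence.ProperSupport
import Groth.Agent.S3864
import Groth.Prelude.Def_FSch6

/-!
# Algebraizable modules on the completion of a scheme separated of finite type over a complete ring
-/

set_option autoImplicit false
set_option backward.isDefEq.respectTransparency false
set_option linter.style.haveILetI false
set_option linter.unusedSectionVars false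

universe u

open CategoryTheory CategoryTheory.Limits AlgebraicGeometry Opposite TopologicalSpace
open Groth.Agent.Coherent Groth.Agent.Coherent.Serre Groth.Agent.Coherent.Existence

namespace Groth.Agent.Formal2Lib.ProperSupp

/-- The support of the middle term of an exact sequence. -/
theorem support_subset_of_exact {X : Scheme.{u}} {S : ShortComplex X.Modules} (hS : S.Exact) :
    CohB1.support S.X₂ ⊆ CohB1.support S.X₁ ∪ CohB1.support S.X₃ := fun z hz => by
  by_contra h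
  rw [Set.mem_union, not_or] at h
  exact (notMem_support_iff _ z).2
    ((hS.map (DerSch.stalkFunctor X z)).isZero_X₂
      (((notMem_support_iff _ z).1 h.1).eq_of_src _ _)
      (((notMem_support_iff _ z).1 h.2).eq_of_tgt _ _)) hz

variable {A : Type u} [CommRing A] [IsNoetherianRing A] (J : Ideal A) [IsAdicComplete J A] {X : Scheme.{u}}
  (f : X ⟶ Spec (CommRingCat.of A)) [LocallyOfFiniteType f] [QuasiCompact f]
  (𝓘 : X.IdealSheafData) (h𝓘 : 𝓘 = (FSch.idealSpec A J).comap f)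
  (hX : (FSch.completionAlong X 𝓘).IsFormal)

/-- A module on the completion is algebraizable: it is the completion of a coherent module with proper support. -/
def Algz (𝔉 : FSch.ModF (FSch.completionAlong X 𝓘) hX) : Prop :=
  ∃ G : X.Modules, Coh.IsCoh G ∧ ClSub.IsProperOver f (CohB1.support G) ∧
    Nonempty (𝔉 ≅ (FSch.complMod 𝓘 G).realMod hX)

include h𝓘 in
/-- Kernels, images and cokernels of morphisms of algebraizable modules are algebraizable. -/
theorem algz_kernel_image_cokernel {𝔉 𝔊 : FSch.ModF (FSch.completionAlong X 𝓘) hX} (h𝔉 : Algz f 𝓘 hX 𝔉)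
    (h𝔊 : Algz f 𝓘 hX 𝔊) (u : 𝔉 ⟶ 𝔊) :
    Algz f 𝓘 hX (kernel u) ∧ Algz f 𝓘 hX (Abelian.image u) ∧ Algz f 𝓘 hX (cokernel u) := by
  obtain ⟨F, hF, hsF, ⟨a⟩⟩ := h𝔉
  obtain ⟨G, hG, hsG, ⟨b⟩⟩ := h𝔊
  letI : X.Over (Spec (CommRingCat.of A)) := ⟨f⟩
  haveI : LocallyOfFiniteType (X ↘ Spec (CommRingCat.of A)) := ‹LocallyOfFiniteType f›
  haveI : QuasiCompact (X ↘ Spec (CommRingCat.of A)) := ‹QuasiCompact f›
  haveI : IsLocallyNoetherian X := LocallyOfFiniteType.isLocallyNoetherian f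
  have hcl : ∀ {M : X.Modules}, Coh.IsCoh M → IsClosed (CohB1.support M) := fun {M} hM =>
    isClosed_support M (locallyFinGen_of_isFT M hM.2)
  obtain ⟨ψ, hψ⟩ := (FModLib.bijective_realModMap_complMod 𝓘 hX (G := G) hF).2 (a.inv ≫ u ≫ b.hom)
  obtain ⟨φ, rfl⟩ := (ModSysAlgz.bijective_complModMap_of_isProperOver J 𝓘 h𝓘 hF hG
    (Et18.IsProperOver.of_subset hsF ((hcl hF).inter (hcl hG)) Set.inter_subset_left)).2 ψ
  have hu : u = a.hom ≫ (FModLib.complF 𝓘 hX).map φ ≫ b.inv := by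
    refine Eq.trans ?_ (congrArg (fun χ => a.hom ≫ χ ≫ b.inv) hψ).symm
    simp
  obtain ⟨⟨eK⟩, ⟨eI⟩, ⟨eQ⟩⟩ := FModLib.kernel_image_cokernel_complF 𝓘 hX hF hG φ a b.symm u hu
  have hQ : Coh.IsCoh (cokernel φ) := isCoh_cokernel φ hF.1 hG
  have hI : Coh.IsCoh (Abelian.image φ) := isCoh_kernel (cokernel.π φ) hG hQ.1
  have hK : Coh.IsCoh (kernel φ) := isCoh_kernel φ hF hG.1
  exact ⟨⟨_, hK, Et18.IsProperOver.of_subset hsF (hcl hK) (support_subset_of_mono (kernel.ι φ)), ⟨eK⟩⟩,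
    ⟨_, hI, Et18.IsProperOver.of_subset hsG (hcl hI) (support_subset_of_mono (Abelian.image.ι φ)), ⟨eI⟩⟩,
    ⟨_, hQ, Et18.IsProperOver.of_subset hsG (hcl hQ) (support_subset_of_epi (cokernel.π φ)), ⟨eQ⟩⟩⟩

include h𝓘 in
/-- Coherent extensions of algebraizable modules are algebraizable. -/
theorem algz_of_shortExact [IsSeparated f] (S : ShortComplex (FSch.ModF (FSch.completionAlong X 𝓘) hX))
    (hS : S.ShortExact) (h₂ : FSch.IsCohF _ hX S.X₂) (a₁ : Algz f 𝓘 hX S.X₁) (a₃ : Algz f 𝓘 hX S.X₃) :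
    Algz f 𝓘 hX S.X₂ := by
  obtain ⟨G₁, hG₁, hs₁, ⟨e₁⟩⟩ := a₁
  obtain ⟨G₃, hG₃, hs₃, ⟨e₃⟩⟩ := a₃
  letI : X.Over (Spec (CommRingCat.of A)) := ⟨f⟩
  haveI : LocallyOfFiniteType (X ↘ Spec (CommRingCat.of A)) := ‹LocallyOfFiniteType f›
  haveI : QuasiCompact (X ↘ Spec (CommRingCat.of A)) := ‹QuasiCompact f›
  haveI : IsSeparated (X ↘ Spec (CommRingCat.of A)) := ‹IsSeparated f›
  haveI : IsLocallyNoetherian X := LocallyOfFiniteType.isLocallyNoetherian f
  have hX' := FSchLib.isLocNoethFormal_completionAlong 𝓘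
  let 𝔐 := FModLib.downSys hX S.X₂
  have h𝔐 : 𝔐.IsCoh := FModLib.isCoh_down hX hX' S.X₂ h₂
  haveI := FModLib.isIso_theta hX hX' S.X₂ h₂
  let p₀ := FSch.completionToX X 𝓘 0
  haveI : IsClosedImmersion p₀ := inferInstanceAs (IsClosedImmersion (𝓘 ^ (0 + 1)).subschemeι)
  -- the bottom level
  let P := (FSch.levelMor (FSch.completionAlong X 𝓘) hX 0).pull
  have hlevel : ∀ (G : X.Modules), Coh.IsCoh G → ∀ (𝔉 : FSch.ModF (FSch.completionAlong X 𝓘) hX),
      (𝔉 ≅ (FSch.complMod 𝓘 G).realMod hX) →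
      CohB1.support (P.obj 𝔉) ⊆ p₀ ⁻¹' CohB1.support G := by
    intro G hG 𝔉 e
    have hiso := FModLib.isIso_adjunct_realProj hX hX' (FSch.complMod 𝓘 G) (FModLib.isCoh_complMod 𝓘 hG) 0
    let i : P.obj 𝔉 ≅ (Scheme.Modules.pullback p₀).obj G := P.mapIso e ≪≫ @asIso _ _ _ _ _ hiso
    exact (support_subset_of_mono i.hom).trans (support_pullback_qcoh p₀ hG.1 hG.2).le
  haveI : P.IsLeftAdjoint := (FSch.levelMor (FSch.completionAlong X 𝓘) hX 0).adj.isLeftAdjoint
  haveI : P.Additive := inferInstance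
  have hex : (S.map P).Exact :=
    ShortComplex.Exact.map_of_epi_of_preservesCokernel hS.exact P hS.epi_g inferInstance
  have hsupp : CohB1.support (P.obj S.X₂) ⊆ p₀ ⁻¹' (CohB1.support G₁ ∪ CohB1.support G₃) :=
    (support_subset_of_exact hex).trans
      (Set.union_subset ((hlevel G₁ hG₁ _ e₁).trans (Set.preimage_mono Set.subset_union_left))
        ((hlevel G₃ hG₃ _ e₃).trans (Set.preimage_mono Set.subset_union_right)))
  have hclP : IsClosed (CohB1.support (𝔐.F 0)) :=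
    isClosed_support _ (locallyFinGen_of_isFT _ (h𝔐 0).2)
  have hform := ModSysAlgz.isCohFormal_formalMod J 𝓘 h𝓘 𝔐 h𝔐
  have hs : ClSub.IsProperOver (X ↘ Spec (CommRingCat.of A))
      (CohB1.support ((ModSysAlgz.formalMod J 𝓘 h𝓘 𝔐).obj (op 0))) := by
    refine Et18.IsProperOver.of_subset (Et18.IsProperOver.union hs₁ hs₃)
      (isClosed_support _ (locallyFinGen_of_isFT _ (hform.1 0).2)) ?_
    show CohB1.support ((Coh.push p₀).obj (𝔐.F 0)) ⊆ _
    exact (support_push_subset_image p₀ p₀.isClosedEmbedding.isClosedMap (𝔐.F 0) hclP).trans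
      ((Set.image_mono hsupp).trans (Set.image_preimage_subset _ _))
  obtain ⟨M, hM, hsM, ⟨e⟩⟩ := algebraizable_of_properSupport X (ModSysAlgz.formalMod J 𝓘 h𝓘 𝔐) hform hs
  obtain ⟨i⟩ := S3864.nonempty_iso_complMod J 𝓘 h𝓘 𝔐 M M e (Iso.refl M)
  exact ⟨M, hM, hsM, ⟨asIso (FModLib.theta hX S.X₂) ≪≫ FModLib.realModIso hX i⟩⟩

include h𝓘 in
/-- A coherent module with algebraizable target, kernel and cokernel is algebraizable. -/
theorem algz_of_kernel_cokernel [IsSeparated f] {𝔉 𝔊 : FSch.ModF (FSch.completionAlong X 𝓘) hX}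
    (h𝔉 : FSch.IsCohF _ hX 𝔉) (u : 𝔉 ⟶ 𝔊) (a𝔊 : Algz f 𝓘 hX 𝔊) (ak : Algz f 𝓘 hX (kernel u))
    (ac : Algz f 𝓘 hX (cokernel u)) : Algz f 𝓘 hX 𝔉 := by
  have aI : Algz f 𝓘 hX (Abelian.image u) :=
    (algz_kernel_image_cokernel J f 𝓘 h𝓘 hX a𝔊 ac (cokernel.π u)).1
  have h0 : kernel.ι u ≫ Abelian.factorThruImage u = 0 := by
    rw [← cancel_mono (Abelian.image.ι u), Category.assoc, kernel.lift_ι, kernel.condition, zero_comp]
  exact algz_of_shortExact J f 𝓘 h𝓘 hX (ShortComplex.mk (kernel.ι u) (Abelian.factorThruImage u) h0)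
    { exact := (ShortComplex.exact_iff_of_epi_of_isIso_of_mono
        (S₁ := ShortComplex.mk (kernel.ι u) (Abelian.factorThruImage u) h0)
        (S₂ := ShortComplex.mk (kernel.ι u) u (kernel.condition u))
        { τ₁ := 𝟙 _, τ₂ := 𝟙 _, τ₃ := Abelian.image.ι u }).2 (ShortComplex.exact_kernel u)
      mono_f := inferInstanceAs (Mono (kernel.ι u))
      epi_g := inferInstanceAs (Epi (Abelian.factorThruImage u)) } h𝔉 ak aI

end Groth.Agent.Formal2Lib.ProperSupp
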