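import Groth.Agent.Formal2Lib.PuncturedSat
import Groth.Agent.QCohLoc.Basic
import Groth.Agent.CAlgH3.Depth


/-!
# Depth of stalks on a punctured affine scheme through a module model
-/

set_option autoImplicit false
set_option backward.isDefEq.respectTransparency false

universe u

open CategoryTheory CategoryTheory.Limits AlgebraicGeometry Opposite TopologicalSpace
open Groth.Agent.Coherent Groth.Agent.Coherent.Serre

namespace Groth.Agent.Formal2Lib.Punct

variable {R : CommRingCat.{u}} (𝔞 : Ideal R)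

/-- Morphisms of modules on stalks, linearly. -/
noncomputable def stalkIsoLin {X : Scheme.{u}} {F G : X.Modules} (e : F ≅ G) (x : X) :
    F.presheaf.stalk x ≃ₗ[X.presheaf.stalk x] G.presheaf.stalk x :=
  { ((TopCat.Presheaf.stalkFunctor AddCommGrpCat.{u} x).mapIso
      ((Scheme.Modules.toPresheaf X).mapIso e)).addCommGroupIsoToAddEquiv with
    map_smul' := fun c z => by
      obtain ⟨U, hU, r, rfl⟩ := X.presheaf.exists_germ_eq c
      obtain ⟨W, hW, s, rfl⟩ := F.presheaf.exists_germ_eq z
      have key : ∀ (V : X.Opens) (hV : x ∈ V) (m : Γ(F, V)),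
          (TopCat.Presheaf.stalkFunctor AddCommGrpCat.{u} x).map ((Scheme.Modules.toPresheaf X).map e.hom)
            (F.presheaf.germ V x hV m) = G.presheaf.germ V x hV (e.hom.app V m) := fun V hV m =>
        TopCat.Presheaf.stalkFunctor_map_germ_apply V x hV _ m
      rw [← TopCat.Presheaf.germ_res_apply X.presheaf (homOfLE (inf_le_left : U ⊓ W ≤ U)) x ⟨hU, hW⟩,
        ← TopCat.Presheaf.germ_res_apply F.presheaf (homOfLE (inf_le_right : U ⊓ W ≤ W)) x ⟨hU, hW⟩,
        ← QCohLoc.germ_smul']
      simp only [AddEquiv.toEquiv_eq_coe, Equiv.toFun_as_coe, EquivLike.coe_coe, RingHom.id_apply]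
      refine (key _ _ _).trans ?_
      rw [Scheme.Modules.Hom.app_smul, QCohLoc.germ_smul']
      exact congrArg _ (key _ _ _).symm }

/-- Restricting to an open subscheme does not change stalks, semilinearly. -/
theorem restrictStalk_smul {X Y : Scheme.{u}} (f : X ⟶ Y) [IsOpenImmersion f] (M : Y.Modules) (x : X)
    (c : Y.presheaf.stalk (f x)) (z : M.presheaf.stalk (f x)) :
    (Scheme.Modules.restrictStalkNatIso f x).inv.app M (c • z) =
      (show ((Scheme.Modules.restrictFunctor f).obj M).presheaf.stalk x from f.stalkMap x c •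
        (show ((Scheme.Modules.restrictFunctor f).obj M).presheaf.stalk x from
          (Scheme.Modules.restrictStalkNatIso f x).inv.app M z)) := by
  obtain ⟨U, hU, r, rfl⟩ := Y.presheaf.exists_germ_eq c
  obtain ⟨W, hW, s, rfl⟩ := M.presheaf.exists_germ_eq z
  change _ = f.stalkMap x (Y.presheaf.germ U (f x) hU r) • (show ((Scheme.Modules.restrictFunctor f).obj M).presheaf.stalk x from
    (Scheme.Modules.restrictStalkNatIso f x).inv.app M (M.presheaf.germ W (f x) hW s))
  let V := f ⁻¹ᵁ (U ⊓ W)
  have hxV : x ∈ V := ⟨hU, hW⟩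
  have hxfV : f x ∈ f ''ᵁ V := ⟨x, hxV, rfl⟩
  have hV1 : f ''ᵁ V ≤ U ⊓ W := f.image_preimage_le _
  have hinv : ∀ m : Γ(M, f ''ᵁ V), (Scheme.Modules.restrictStalkNatIso f x).inv.app M
      (M.presheaf.germ (f ''ᵁ V) (f x) hxfV m) =
      ((Scheme.Modules.restrictFunctor f).obj M).presheaf.germ V x hxV m := fun m =>
    ConcreteCategory.congr_hom (Scheme.Modules.germ_restrictStalkNatIso_inv_app f x M hxV) m
  rw [← TopCat.Presheaf.germ_res_apply Y.presheaf (homOfLE (hV1.trans inf_le_left)) (f x) hxfV,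
    ← TopCat.Presheaf.germ_res_apply M.presheaf (homOfLE (hV1.trans inf_le_right)) (f x) hxfV,
    ← QCohLoc.germ_smul', hinv, hinv]
  refine Eq.trans (congrArg (((Scheme.Modules.restrictFunctor f).obj M).presheaf.germ V x hxV) ?_)
    ((QCohLoc.germ_smul' ((Scheme.Modules.restrictFunctor f).obj M) hxV
      (X.presheaf.map (homOfLE (fun y hy => hy.1 : V ≤ f ⁻¹ᵁ U)).op (f.app U r))
      (show Γ((Scheme.Modules.restrictFunctor f).obj M, V) from M.presheaf.map (homOfLE (hV1.trans inf_le_right)).op s)).trans ?_)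
  · exact congrArg (fun t : Γ(Y, f ''ᵁ V) => t • M.presheaf.map (homOfLE (hV1.trans inf_le_right)).op s)
      (show Y.presheaf.map (homOfLE (hV1.trans inf_le_left)).op r = (f.appIso V).inv
        (X.presheaf.map (homOfLE (fun y hy => hy.1 : V ≤ f ⁻¹ᵁ U)).op (f.app U r)) by
        rw [← CommRingCat.comp_apply, ← CommRingCat.comp_apply, f.appIso_inv_naturality, f.app_appIso_inv_assoc,
          ← Functor.map_comp]
        exact congrArg (fun g => Y.presheaf.map g r) (Subsingleton.elim _ _))
  · refine congrArg (· • _) ?_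
    rw [TopCat.Presheaf.germ_res_apply, TopCat.Presheaf.germ_res_apply]
    exact (Scheme.Hom.germ_stalkMap_apply f U x hU r).symm

/-- The depth of a stalk of `T M` is that of the localized module. -/
theorem depth_T_stalk [IsNoetherianRing R] (M : ModuleCat.{u} R) (x : US 𝔞) :
    _root_.LocCoh.depth (Localization.AtPrime (jU 𝔞 x).asIdeal)
        (LocalizedModule (jU 𝔞 x).asIdeal.primeCompl M) =
      _root_.LocCoh.depth ((US 𝔞).presheaf.stalk x) (((T 𝔞).obj M).presheaf.stalk x) := by
  let p := jU 𝔞 x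
  let Z : (Spec R).Modules := tilde (R := R) M
  let E := (Scheme.Modules.restrictStalkNatIso (jU 𝔞) x).app Z
  let _ : Algebra R ((Spec R).presheaf.stalk p) := (StructureSheaf.toStalk R p).hom.toAlgebra
  have : IsLocalization.AtPrime ((Spec R).presheaf.stalk p) p.asIdeal :=
    StructureSheaf.IsLocalization.to_stalk R p
  let _ : Algebra R ((US 𝔞).presheaf.stalk x) :=
    ((jU 𝔞).stalkMap x).hom.comp (algebraMap R ((Spec R).presheaf.stalk p)) |>.toAlgebra
  let _ : Module R (((T 𝔞).obj M).presheaf.stalk x) :=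
    Module.compHom (((T 𝔞).obj M).presheaf.stalk x) (algebraMap R ((US 𝔞).presheaf.stalk x))
  have : IsScalarTower R ((US 𝔞).presheaf.stalk x) (((T 𝔞).obj M).presheaf.stalk x) :=
    IsScalarTower.of_algebraMap_smul fun _ _ => rfl
  let er : (Spec R).presheaf.stalk p ≃ₐ[R] (US 𝔞).presheaf.stalk x :=
    { (asIso ((jU 𝔞).stalkMap x)).commRingCatIsoToRingEquiv with commutes' := fun _ => rfl }
  have : IsLocalization.AtPrime ((US 𝔞).presheaf.stalk x) p.asIdeal :=
    IsLocalization.isLocalization_of_algEquiv p.asIdeal.primeCompl er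
  have hsm : ∀ (r : R) (z : Z.presheaf.stalk p), r • z = algebraMap R ((Spec R).presheaf.stalk p) r • z :=
    fun _ _ => rfl
  let φ : M →ₗ[R] ((T 𝔞).obj M).presheaf.stalk x :=
    { toFun := fun m => E.inv ((tilde.toStalk M p).hom m)
      map_add' := fun a b => by rw [map_add, map_add]
      map_smul' := fun r m => by
        rw [map_smul, hsm]
        exact restrictStalk_smul (jU 𝔞) Z x _ _ }
  let El : Z.presheaf.stalk p ≃ₗ[R] ((T 𝔞).obj M).presheaf.stalk x :=
    { E.symm.addCommGroupIsoToAddEquiv with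
      map_smul' := fun r z => (congrArg E.inv (hsm r z)).trans (restrictStalk_smul (jU 𝔞) Z x _ _) }
  have : IsLocalizedModule p.asIdeal.primeCompl φ :=
    IsLocalizedModule.of_linearEquiv p.asIdeal.primeCompl (tilde.toStalk M p).hom El
  let B := Localization.AtPrime p.asIdeal
  let e := IsLocalization.algEquiv p.asIdeal.primeCompl B ((US 𝔞).presheaf.stalk x)
  let _ : Algebra B ((US 𝔞).presheaf.stalk x) := e.toRingEquiv.toRingHom.toAlgebra
  let _ : Module B (((T 𝔞).obj M).presheaf.stalk x) :=
    Module.compHom (((T 𝔞).obj M).presheaf.stalk x) e.toRingEquiv.toRingHom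
  have : IsScalarTower B ((US 𝔞).presheaf.stalk x) (((T 𝔞).obj M).presheaf.stalk x) :=
    IsScalarTower.of_algebraMap_smul fun _ _ => rfl
  have : IsScalarTower R B (((T 𝔞).obj M).presheaf.stalk x) :=
    IsScalarTower.of_algebraMap_smul fun r m => by
      show e (algebraMap R B r) • m = r • m
      rw [e.commutes]
      rfl
  rw [CAlgH3.depth_of_surjective (R := B) (S := (US 𝔞).presheaf.stalk x) e.surjective]
  exact CAlgH3.depth_congr ((IsLocalizedModule.iso p.asIdeal.primeCompl φ).extendScalarsOfIsLocalization p.asIdeal.primeCompl B)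

/-- Depth of stalks through a model. -/
theorem depth_stalk_model [IsNoetherianRing R] (M : ModuleCat.{u} R) {G : (US 𝔞).Modules} (e : (T 𝔞).obj M ≅ G) (x : US 𝔞) :
    _root_.LocCoh.depth ((US 𝔞).presheaf.stalk x) (G.presheaf.stalk x) =
      _root_.LocCoh.depth (Localization.AtPrime (jU 𝔞 x).asIdeal)
        (LocalizedModule (jU 𝔞 x).asIdeal.primeCompl M) :=
  ((depth_T_stalk 𝔞 M x).trans (CAlgH3.depth_congr (stalkIsoLin e x))).symm

end Groth.Agent.Formal2Lib.Punct
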