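import Groth.Agent.Formal2Lib.PuncturedMod
import Groth.Agent.Formal2Lib.SatBasic
import Groth.Agent.Formal2Lib.PrincipalSys
import Mathlib.Algebra.Category.ModuleCat.Biproducts

/-!
# Sections on a punctured affine scheme are saturated; local models of locally free modules
-/

set_option autoImplicit false
set_option backward.isDefEq.respectTransparency false

universe u

open CategoryTheory CategoryTheory.Limits AlgebraicGeometry Opposite TopologicalSpace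
open Groth.Agent.Coherent Groth.Agent.Coherent.Serre Groth.Agent.Coherent.Existence

namespace Groth.Agent.Formal2Lib.Punct

variable {R : CommRingCat.{u}} (𝔞 : Ideal R)

/-- Tilde, restricted to the punctured scheme. -/
noncomputable abbrev T : ModuleCat.{u} R ⥤ (US 𝔞).Modules :=
  tilde.functor R ⋙ Scheme.Modules.restrictFunctor (jU 𝔞)

/-- It is left adjoint to the module of sections. -/
noncomputable def adj : T 𝔞 ⊣ (Coh.push (jU 𝔞) ⋙ moduleSpecΓFunctor) :=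
  tilde.adjunction.comp (Scheme.Modules.restrictAdjunction (jU 𝔞))

theorem adj_counit (G : (US 𝔞).Modules) : (adj 𝔞).counit.app G = θ 𝔞 G := by
  simp only [adj, Adjunction.comp_counit_app]
  rfl

theorem adj_homEquiv_symm {Q : ModuleCat.{u} R} {G : (US 𝔞).Modules} (φ : Q ⟶ N 𝔞 G) :
    ((adj 𝔞).homEquiv Q G).symm φ =
      (Scheme.Modules.restrictFunctor (jU 𝔞)).map (tilde.map φ) ≫ θ 𝔞 G := by
  rw [Adjunction.homEquiv_counit, adj_counit]
  rfl

theorem Nmap_smul (G : (US 𝔞).Modules) (c : R) (x : N 𝔞 G) :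
    (Nmap 𝔞 (Formal.smulMod R G c)).hom x = c • x :=
  smul_app 𝔞 G c ⊤ x

theorem T_smul (M : ModuleCat.{u} R) (c : R) :
    (T 𝔞).map (ModuleCat.ofHom (c • LinearMap.id : M →ₗ[R] M)) = Formal.smulMod R ((T 𝔞).obj M) c := by
  refine ((adj 𝔞).homEquiv _ _).injective (ModuleCat.hom_ext (LinearMap.ext fun x => ?_))
  rw [Adjunction.homEquiv_unit, Adjunction.homEquiv_unit]
  have h := ConcreteCategory.congr_hom
    ((adj 𝔞).unit.naturality (ModuleCat.ofHom (c • LinearMap.id : M →ₗ[R] M))) x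
  refine h.symm.trans (Eq.trans ?_ (Nmap_smul 𝔞 _ c _).symm)
  show ((adj 𝔞).unit.app M).hom (c • x) = _
  exact map_smul _ _ _

/-- Reduction of `T M` modulo a power of an element. -/
theorem exists_modPowT (f : R) (k : ℕ) (M : ModuleCat.{u} R) :
    ∃ e : Formal.modPow (Ideal.span ({f} : Set R)) k ((T 𝔞).obj M) ≅
        (T 𝔞).obj (ModuleCat.of R (M ⧸ LinearMap.range (f ^ k • LinearMap.id : M →ₗ[R] M))),
      Formal.modPowπ (Ideal.span ({f} : Set R)) k ((T 𝔞).obj M) ≫ e.hom =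
        (T 𝔞).map (ModuleCat.ofHom (Submodule.mkQ _)) := by
  let φ : M ⟶ M := ModuleCat.ofHom (f ^ k • LinearMap.id)
  have hc := CokernelCofork.mapIsColimit _ (ModuleCat.cokernelIsColimit φ) (T 𝔞)
  let π' := (T 𝔞).map (ModuleCat.ofHom (LinearMap.range (f ^ k • LinearMap.id : M →ₗ[R] M)).mkQ)
  have hz : (T 𝔞).map φ ≫ π' = 0 := by
    rw [← Functor.map_comp, show φ ≫ ModuleCat.ofHom (LinearMap.range (f ^ k • LinearMap.id : M →ₗ[R] M)).mkQ = 0 from
      ModuleCat.hom_ext (LinearMap.ext fun x => (Submodule.Quotient.mk_eq_zero _).2 ⟨x, rfl⟩), Functor.map_zero]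
  obtain ⟨d, hd⟩ := Principal.exists_desc f k π' (by rw [← T_smul]; exact hz)
  obtain ⟨d', hd'⟩ : ∃ d', π' ≫ d' = Formal.modPowπ (Ideal.span ({f} : Set R)) k ((T 𝔞).obj M) :=
    ⟨hc.desc (CokernelCofork.ofπ _ (show (T 𝔞).map φ ≫ Formal.modPowπ _ k _ = 0 by
      rw [T_smul]; exact Principal.smul_π f _ k)), hc.fac _ WalkingParallelPair.one⟩
  have : Epi π' := epi_of_isColimit_cofork hc
  refine ⟨⟨d, d', ?_, ?_⟩, hd⟩
  · rw [← cancel_epi (Formal.modPowπ (Ideal.span ({f} : Set R)) k ((T 𝔞).obj M)), ← Category.assoc, hd, hd']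
    exact (Category.comp_id _).symm
  · rw [← cancel_epi π', ← Category.assoc, hd', hd]
    exact (Category.comp_id _).symm

/-- Free modules come from free modules. -/
theorem nonempty_freeMod_iso (r : ℕ) :
    Nonempty (FlatMod.freeMod (US 𝔞) r ≅ (T 𝔞).obj (ModuleCat.of R (Fin r → R))) := by
  let e1 : Coh.structureModule (US 𝔞) ≅ (T 𝔞).obj (ModuleCat.of R R) :=
    (Scheme.Modules.restrictUnitIso (jU 𝔞)).symm
  have : (T 𝔞).IsLeftAdjoint := (adj 𝔞).isLeftAdjoint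
  let F : Fin r → ModuleCat.{u} R := fun _ => ModuleCat.of R R
  let e2 : (∐ F) ≅ ModuleCat.of R (Fin r → R) :=
    (biproduct.isoCoproduct F).symm ≪≫ ModuleCat.biproductIsoPi F
  exact ⟨Sigma.mapIso (fun _ => e1) ≪≫ (PreservesCoproduct.iso (T 𝔞) F).symm ≪≫ (T 𝔞).mapIso e2⟩

/-- A map of restrictions gives a map on sections of smaller opens, compatible with scalars. -/
theorem exists_sections_equiv {G H : (US 𝔞).Modules} (V : (US 𝔞).Opens)
    (e : (Scheme.Modules.restrictFunctor V.ι).obj G ≅ (Scheme.Modules.restrictFunctor V.ι).obj H)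
    (W : (US 𝔞).Opens) (hW : W ≤ V) :
    ∃ b : Γ(G, W) ≃+ Γ(H, W), ∀ (c : R) (x : Γ(G, W)),
      b ((Formal.smulMod R G c).app W x) = (Formal.smulMod R H c).app W (b x) := by
  obtain ⟨W', rfl⟩ : ∃ W', V.ι ''ᵁ W' = W :=
    ⟨V.ι ⁻¹ᵁ W, (V.ι.image_preimage_eq_opensRange_inf W).trans
      (by rw [Scheme.Opens.opensRange_ι, inf_eq_right]; exact hW)⟩
  have : IsIso (e.hom.app W') := inferInstance
  refine ⟨AddEquiv.ofBijective ((e.hom.app W').hom : _ →+ _) (ConcreteCategory.bijective_of_isIso (e.hom.app W')),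
    fun c x => ?_⟩
  rw [smulMod_app, smulMod_app]
  have key : ∀ (M : (US 𝔞).Modules) (r : Γ(US 𝔞, V.ι ''ᵁ W')) (y : Γ(M, V.ι ''ᵁ W')),
      ((show Γ((V : Scheme.{u}), W') from r) • (show Γ((Scheme.Modules.restrictFunctor V.ι).obj M, W') from y) :) =
        (show Γ((Scheme.Modules.restrictFunctor V.ι).obj M, W') from r • y) := fun M r y => by
    change (show Γ(US 𝔞, V.ι ''ᵁ W') from (V.ι.appIso W').inv r) • y = r • y
    simp [Scheme.Opens.ι_appIso]
    rfl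
  exact (congrArg (e.hom.app W') (key G _ x).symm).trans
    ((Scheme.Modules.Hom.app_smul e.hom _ _).trans (key H _ _))

variable [IsNoetherianRing R]

/-- Modules of sections are saturated. -/
theorem isSat_N (G : (US 𝔞).Modules) : Sat.IsSat 𝔞 (N 𝔞 G) where
  sep x hx := by
    obtain ⟨m, hm⟩ := hx
    have hcov : (jU 𝔞 ⁻¹ᵁ (⊤ : (Spec R).Opens)) ≤ ⨆ a : 𝔞, jU 𝔞 ⁻¹ᵁ D (a : R) := by
      intro y _
      obtain ⟨a, ha, hay⟩ := Set.not_subset.1 y.2
      exact Opens.mem_iSup.2 ⟨⟨a, ha⟩, hay⟩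
    refine TopCat.Sheaf.eq_of_locally_eq' (X := (US 𝔞).toTopCat) (Coh.toAb G) (fun a : 𝔞 => jU 𝔞 ⁻¹ᵁ D (a : R))
      (jU 𝔞 ⁻¹ᵁ ⊤) (fun a => homOfLE fun _ _ => trivial) hcov _ _ fun a => ?_
    show ρ 𝔞 G (D (a : R)) x = ρ 𝔞 G (D (a : R)) 0
    refine ((Scheme.Modules.isSMulRegular_of_le_basicOpen (M := P 𝔞 G) (U := D (a : R)) (f := (a : R))
      le_rfl).pow m) ?_
    show (a : R) ^ m • ρ 𝔞 G (D (a : R)) x = (a : R) ^ m • ρ 𝔞 G (D (a : R)) 0
    rw [← map_smul, ← map_smul, hm _ (Ideal.pow_mem_pow a.2 m), smul_zero]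
  ext m φ := by
    let i : ModuleCat.of R ↥(𝔞 ^ m) ⟶ ModuleCat.of R R := ModuleCat.ofHom (Submodule.subtype (𝔞 ^ m))
    have := isIso_restrict_tilde_subtype 𝔞 (M := ModuleCat.of R R) (𝔞 ^ m) fun x =>
      ⟨m, fun b hb => Ideal.mul_mem_right _ _ hb⟩
    have : IsIso ((T 𝔞).map i) := this
    let φ' : ModuleCat.of R ↥(𝔞 ^ m) ⟶ N 𝔞 G := ModuleCat.ofHom (Y := ↥(N 𝔞 G)) φ
    let ψ := inv ((T 𝔞).map i) ≫ ((adj 𝔞).homEquiv _ G).symm φ'
    have h : i ≫ (adj 𝔞).homEquiv _ G ψ = φ' := by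
      rw [← Adjunction.homEquiv_naturality_left, IsIso.hom_inv_id_assoc, Equiv.apply_symm_apply]
    let v : ModuleCat.of R R ⟶ N 𝔞 G := (adj 𝔞).homEquiv _ G ψ
    refine ⟨v.hom (1 : R), fun b => ?_⟩
    refine (ConcreteCategory.congr_hom h b).symm.trans ?_
    show v.hom (b : R) = _
    rw [← map_smul v.hom, smul_eq_mul, mul_one]

/-- The localization map of a module. -/
noncomputable def lam (Q : ModuleCat.{u} R) (b : R) : Q →ₗ[R] Γ(P 𝔞 ((T 𝔞).obj Q), D b) :=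
  (ρ 𝔞 _ (D b)).comp ((adj 𝔞).unit.app Q).hom

theorem isLocalizedModule_lam (Q : ModuleCat.{u} R) {b : R} (hb : D b ≤ LocCoh.puncturedOpen R 𝔞) :
    IsLocalizedModule (.powers b) (lam 𝔞 Q b) := by
  let η := (Scheme.Modules.restrictAdjunction (jU 𝔞)).unit.app (tilde Q)
  let l : Γ(tilde Q, D b) →ₗ[R] Γ(P 𝔞 ((T 𝔞).obj Q), D b) :=
    ((modulesSpecToSheaf.map η).hom.app (op (D b))).hom
  have himg : jU 𝔞 ''ᵁ (jU 𝔞 ⁻¹ᵁ D b) = D b := by
    refine ((jU 𝔞).image_preimage_eq_opensRange_inf _).trans ?_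
    rw [Scheme.Opens.opensRange_ι, inf_eq_right]
    exact hb
  have hl : Function.Bijective l := by
    show Function.Bijective (η.app (D b))
    rw [show η.app (D b) = (tilde Q).presheaf.map (homOfLE ((jU 𝔞).image_preimage_le (D b))).op from
      Scheme.Modules.restrictAdjunction_unit_app_app _ _ _]
    exact resM_bijective_of_eq (tilde Q) ((jU 𝔞).image_preimage_le (D b)) himg.symm
  have : IsLocalizedModule (.powers b) (tilde.toOpen Q (PrimeSpectrum.basicOpen b)).hom :=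
    inferInstanceAs (IsLocalizedModule.Away b (tilde.toOpen Q (PrimeSpectrum.basicOpen b)).hom)
  have heq : lam 𝔞 Q b = (LinearEquiv.ofBijective l hl).toLinearMap ∘ₗ
      (tilde.toOpen Q (PrimeSpectrum.basicOpen b)).hom := by
    refine LinearMap.ext fun q => ?_
    show (ρ 𝔞 _ (D b)) (((adj 𝔞).unit.app Q).hom q) = l ((tilde.toOpen Q (D b)).hom q)
    simp only [adj, Adjunction.comp_unit_app]
    show ((modulesSpecToSheaf.obj (P 𝔞 ((T 𝔞).obj Q))).obj.map _).hom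
      (((modulesSpecToSheaf.map η).hom.app (op ⊤)).hom ((tilde.toOpen Q ⊤).hom q)) = _
    refine (ConcreteCategory.congr_hom
      ((modulesSpecToSheaf.map η).hom.naturality (homOfLE (le_top : D b ≤ ⊤)).op) _).symm.trans ?_
    exact congrArg l (ConcreteCategory.congr_hom (tilde.toOpen_res Q ⊤ (D b) (homOfLE le_top)) q)
  rw [heq]
  exact IsLocalizedModule.of_linearEquiv _ _ _

/-- Local models of finite locally free modules over `O/f^k`. -/
theorem exists_localModel (f : R) (k : ℕ) (G : (US 𝔞).Modules)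
    (hG : Formal2.IsFinLocFreeMod (Ideal.span ({f} : Set R)) k G) (x : (US 𝔞)) :
    ∃ b : R, D b ≤ LocCoh.puncturedOpen R 𝔞 ∧ jU 𝔞 x ∈ D b ∧
      ∃ (r : ℕ) (l : (Fin r → R ⧸ Ideal.span ({f ^ k} : Set R)) →ₗ[R] Γ(P 𝔞 G, D b)),
        IsLocalizedModule (.powers b) l := by
  obtain ⟨V, r, hxV, ⟨e⟩⟩ := hG x
  obtain ⟨_, ⟨b, rfl⟩, hxb, hb⟩ := PrimeSpectrum.isTopologicalBasis_basic_opens.exists_subset_of_mem_open
    (show jU 𝔞 x ∈ jU 𝔞 ''ᵁ V from ⟨x, hxV, rfl⟩) (jU 𝔞 ''ᵁ V).2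
  have hbU : D b ≤ LocCoh.puncturedOpen R 𝔞 := fun y hy => by
    obtain ⟨z, -, rfl⟩ := hb hy
    exact z.2
  have hle : jU 𝔞 ⁻¹ᵁ D b ≤ V := fun y hy => by
    obtain ⟨z, hz, hzy⟩ := hb hy
    rwa [← (jU 𝔞).isOpenEmbedding.injective hzy]
  refine ⟨b, hbU, hxb, r, ?_⟩
  obtain ⟨eF⟩ := nonempty_freeMod_iso 𝔞 r
  let M0 : ModuleCat.{u} R := ModuleCat.of R (Fin r → R)
  let Q : ModuleCat.{u} R := ModuleCat.of R (M0 ⧸ LinearMap.range (f ^ k • LinearMap.id : M0 →ₗ[R] M0))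
  obtain ⟨eQ, -⟩ := exists_modPowT 𝔞 f k M0
  let I := Ideal.span ({f} : Set R)
  let em : Formal.modPow I k (FlatMod.freeMod (US 𝔞) r) ≅ (T 𝔞).obj Q :=
    cokernel.mapIso _ _ (Sigma.mapIso fun _ => eF) eF (Sigma.hom_ext _ _ fun c => by
      simp [Formal.smulFamily, Sigma.mapIso, smulMod_natural]
      exact (Sigma.ι_desc (fun a : ↥(I ^ k) => Formal.smulMod R ((T 𝔞).obj M0) (a : R)) c).symm) ≪≫ eQ
  obtain ⟨β, hβ⟩ := exists_sections_equiv 𝔞 V
    (e ≪≫ (Scheme.Modules.restrictFunctor V.ι).mapIso em) (jU 𝔞 ⁻¹ᵁ D b) hle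
  let βl : Γ(P 𝔞 G, D b) ≃ₗ[R] Γ(P 𝔞 ((T 𝔞).obj Q), D b) :=
    AddEquiv.toLinearEquiv β fun c y => by
      rw [← smul_app 𝔞 G c (D b) y]
      exact (hβ c y).trans (smul_app 𝔞 _ c (D b) _)
  let π : Q →ₗ[R] Fin r → R ⧸ Ideal.span ({f ^ k} : Set R) :=
    Submodule.liftQ _ (LinearMap.compLeft (Submodule.mkQ (Ideal.span ({f ^ k} : Set R))) (Fin r)) (by
      rintro _ ⟨v, rfl⟩
      refine funext fun i => (Submodule.Quotient.mk_eq_zero _).2 ?_
      exact Ideal.mem_span_singleton'.2 ⟨v i, mul_comm _ _⟩)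
  have hπ : Function.Bijective π := by
    refine ⟨LinearMap.ker_eq_bot.1 (Submodule.ker_liftQ_eq_bot' _ _ (le_antisymm ?_ fun v hv => ?_)), fun y => ?_⟩
    · rintro _ ⟨v, rfl⟩
      exact funext fun i => (Submodule.Quotient.mk_eq_zero _).2 (Ideal.mem_span_singleton'.2 ⟨v i, mul_comm _ _⟩)
    · choose w hw using fun i => Ideal.mem_span_singleton'.1
        ((Submodule.Quotient.mk_eq_zero _).1 (congrFun hv i))
      exact ⟨w, funext fun i => (mul_comm _ _).trans (hw i)⟩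
    · choose v hv using fun i => Submodule.Quotient.mk_surjective _ (y i)
      exact ⟨Submodule.Quotient.mk v, funext hv⟩
  have := isLocalizedModule_lam 𝔞 Q hbU
  have h1 : IsLocalizedModule (.powers b) (βl.symm.toLinearMap ∘ₗ lam 𝔞 Q b) :=
    IsLocalizedModule.of_linearEquiv _ _ _
  exact ⟨(βl.symm.toLinearMap ∘ₗ lam 𝔞 Q b) ∘ₗ (LinearEquiv.ofBijective π hπ).symm.toLinearMap,
    IsLocalizedModule.of_linearEquiv_right _ _ _⟩

end Groth.Agent.Formal2Lib.Punct
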