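import Groth.Agent.Formal2Lib.SecU

/-!
# Local nature of sections of tilde modules
-/

set_option autoImplicit false
set_option backward.isDefEq.respectTransparency false

universe u

open CategoryTheory CategoryTheory.Limits AlgebraicGeometry Opposite TopologicalSpace
open Groth.Agent.Coherent Groth.Agent.Coherent.Serre

namespace Groth.Agent.Formal2Lib.SecU

variable {R : CommRingCat.{u}} {M N : ModuleCat.{u} R} {V W : (Spec R).Opens}

/-- Restriction. -/
noncomputable def res (h : W ≤ V) (q : ℕ) : F V M q →ₗ[R] F W M q :=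
  resA (φ0 R) (tilde (R := R) M) h q

theorem secV_res (X : (Spec R).Modules) (h : W ≤ V) (x : HA (φ0 R) X V 0) :
    secV W X (resA (φ0 R) X h 0 x) = resM X h (secV V X x) :=
  secH_resH (X := (Spec R).toTopCat) h x

theorem res_unit (h : W ≤ V) (m : M) : res h 0 (unit V M m) = unit W M m := by
  refine (secV W (tilde M)).injective ((secV_res _ h _).trans ?_)
  show resM (tilde M) h (secV V (tilde M) ((secV V (tilde M)).symm _)) =
    secV W (tilde M) ((secV W (tilde M)).symm _)
  rw [LinearEquiv.apply_symm_apply, LinearEquiv.apply_symm_apply]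
  exact Misc15.Koszul.rho_res M h m

theorem res_res {W' : (Spec R).Opens} (h : W ≤ V) (h' : W' ≤ W) (x : F V M 0) :
    res h' 0 (res h 0 x) = res (h'.trans h) 0 x := by
  refine (secV W' (tilde M)).injective ?_
  refine (secV_res _ h' _).trans ?_
  refine (congrArg (resM (tilde M) h') (secV_res (tilde M) h x)).trans ?_
  rw [resM_resM]
  exact (secV_res (tilde M) (h'.trans h) x).symm

theorem res_Fmap (g : M →ₗ[R] N) (h : W ≤ V) (x : F V M 0) :
    res h 0 (Fmap V g 0 x) = Fmap W g 0 (res h 0 x) := by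
  refine (secV W (tilde N)).injective ?_
  refine (secV_res _ h _).trans ?_
  refine (congrArg (resM (tilde N) h) (secV_natural V _ x)).trans ?_
  refine Eq.trans ?_ (secV_natural W _ _).symm
  refine (app_resM (tilde.map (R := R) (ModuleCat.ofHom g)) h _).symm.trans ?_
  exact congrArg _ (secV_res (tilde M) h x).symm

/-- Sections vanish when they vanish locally. -/
theorem eq_zero_of_local (x : F V M 0)
    (h : ∀ p ∈ V, ∃ (W : (Spec R).Opens) (hW : W ≤ V), p ∈ W ∧ res hW 0 x = 0) : x = 0 := by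
  choose W hW hp h0 using h
  refine (secV V (tilde M)).injective (Misc15.Koszul.sections_ext (R := R) (tilde M)
    (fun p : V => W p.1 p.2) (fun p => hW p.1 p.2) (fun p hpV => Opens.mem_iSup.2 ⟨⟨p, hpV⟩, hp p hpV⟩) _ _ fun p => ?_)
  rw [map_zero, map_zero, ← secV_res, show resA (φ0 R) _ (hW p.1 p.2) 0 x = 0 from h0 p.1 p.2, map_zero]

/-- Sections are fractions on a neighbourhood. -/
theorem exists_num (x : F V M 0) {p : Spec R} (hp : p ∈ V) :
    ∃ (b : R) (h : specBasicOpen (R := R) b ≤ V) (e : ℕ) (m : M),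
      p ∈ specBasicOpen (R := R) b ∧ b ^ e • res h 0 x = unit (specBasicOpen (R := R) b) M m := by
  obtain ⟨_, ⟨b, rfl⟩, hpb, hle⟩ := Opens.isBasis_iff_nbhd.1 PrimeSpectrum.isBasis_basic_opens hp
  obtain ⟨e, m, hm⟩ := Misc15.Koszul.exists_rho_eq (R := R) M b (secV _ (tilde M) (res hle 0 x))
  refine ⟨b, hle, e, m, hpb, (secV (specBasicOpen (R := R) b) (tilde M)).injective ?_⟩
  rw [map_smul]
  exact hm.symm.trans ((secV (specBasicOpen (R := R) b) (tilde M)).apply_symm_apply _).symm

theorem unit_eq_zero_iff (b : R) (m : M) :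
    unit (specBasicOpen (R := R) b) M m = 0 ↔ ∃ e : ℕ, b ^ e • m = 0 := by
  refine ⟨fun h => Misc15.Koszul.exists_pow_of_rho_eq_zero (R := R) M b m
    (((secV (specBasicOpen (R := R) b) (tilde M)).symm).injective (h.trans (map_zero _).symm)), fun ⟨e, he⟩ => ?_⟩
  exact (congrArg (secV (specBasicOpen (R := R) b) (tilde M)).symm
    (Misc15.Koszul.rho_eq_zero_of_pow (R := R) M b le_rfl he)).trans (map_zero _)

/-- Scalars invertible on a basic open act bijectively. -/
theorem smul_bijective (b : R) (c : R) (hc : ∃ e : ℕ, c ∣ b ^ e) :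
    Function.Bijective (fun x : F (specBasicOpen (R := R) b) M 0 => c • x) := by
  obtain ⟨e, d, hd⟩ := hc
  have hb : Function.Bijective (fun x : F (specBasicOpen (R := R) b) M 0 => b ^ e • x) := by
    have h1 := (Module.End.isUnit_iff _).1
      ((Misc15.Koszul.rho_basicOpen (R := R) M b).map_units ⟨b ^ e, e, rfl⟩)
    let s := secV (specBasicOpen (R := R) b) (tilde (R := R) M)
    have : (fun x : F (specBasicOpen (R := R) b) M 0 => b ^ e • x) =
        s.symm ∘ (fun y => b ^ e • y) ∘ s := by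
      funext x
      simp [s, map_smul]
    rw [this]
    exact s.symm.bijective.comp (h1.comp s.bijective)
  refine ⟨fun x y hxy => hb.1 ?_, fun y => ?_⟩
  · show b ^ e • x = b ^ e • y
    rw [hd, mul_comm, mul_smul, mul_smul, show c • x = c • y from hxy]
  · obtain ⟨z, hz⟩ := hb.2 y
    exact ⟨d • z, by
      show c • d • z = y
      rw [← mul_smul, ← hd]; exact hz⟩

/-- A map which is an isomorphism near every point of `V` is bijective on sections over `V`. -/
theorem Fmap_bijective_of_local (g : M →ₗ[R] N) (V : (Spec R).Opens)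
    (hker : ∀ p ∈ V, ∀ m, g m = 0 → ∃ b : R, b ∉ p.asIdeal ∧ b • m = 0)
    (hcok : ∀ p ∈ V, ∀ n, ∃ b : R, b ∉ p.asIdeal ∧ ∃ m, g m = b • n) :
    Function.Bijective (Fmap V g 0) := by
  have hinj : ∀ W, W ≤ V → Function.Injective (Fmap W g 0) := fun W hW =>
    (injective_iff_map_eq_zero _).2 fun x hx => eq_zero_of_local x fun p hp => by
      obtain ⟨b, hb, e, m, hpb, hm⟩ := exists_num x hp
      have h1 : unit (specBasicOpen (R := R) b) N (g m) = 0 := by
        rw [← unit_natural, ← hm, map_smul, ← res_Fmap, hx, map_zero, smul_zero]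
      obtain ⟨e', he'⟩ := (unit_eq_zero_iff b _).1 h1
      rw [← map_smul] at he'
      obtain ⟨c, hcp, hc⟩ := hker p (hW hp) _ he'
      refine ⟨specBasicOpen (R := R) (b * c), ?_, ?_, ?_⟩
      · exact ((PrimeSpectrum.basicOpen_mul_le_left b c : specBasicOpen (R := R) (b * c) ≤ specBasicOpen (R := R) b)).trans hb
      · exact fun h => (p.2.mem_or_mem h).elim hpb hcp
      refine (smul_bijective (b * c) (c * b ^ (e' + e)) ⟨e' + e + 1, ?_⟩).1 ?_
      · exact ⟨b * c ^ (e' + e), by ring⟩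
      show (c * b ^ (e' + e)) • res _ 0 x = (c * b ^ (e' + e)) • 0
      rw [smul_zero, mul_smul, pow_add, mul_smul, ← res_res hb ((PrimeSpectrum.basicOpen_mul_le_left b c : specBasicOpen (R := R) (b * c) ≤ specBasicOpen (R := R) b)) x,
        ← map_smul (res _ 0) (b ^ e), hm, res_unit, ← map_smul, ← map_smul, hc, map_zero]
  refine ⟨hinj V le_rfl, fun y => ?_⟩
  have key : ∀ p : V, ∃ (W : (Spec R).Opens) (hW : W ≤ V) (x : F W M 0), p.1 ∈ W ∧ Fmap W g 0 x = res hW 0 y := by
    rintro ⟨p, hp⟩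
    obtain ⟨b, hb, e, n, hpb, hn⟩ := exists_num y hp
    obtain ⟨c, hcp, m, hm⟩ := hcok p hp n
    have hle := (PrimeSpectrum.basicOpen_mul_le_left b c : specBasicOpen (R := R) (b * c) ≤ specBasicOpen (R := R) b)
    obtain ⟨x, hx⟩ := (smul_bijective (M := M) (b * c) (c * b ^ e) ⟨e + 1, ⟨b * c ^ e, by ring⟩⟩).2
      (unit (specBasicOpen (R := R) (b * c)) M m)
    refine ⟨_, hle.trans hb, x, fun h => (p.2.mem_or_mem h).elim hpb hcp, ?_⟩
    refine (smul_bijective (M := N) (b * c) (c * b ^ e) ⟨e + 1, ⟨b * c ^ e, by ring⟩⟩).1 ?_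
    show (c * b ^ e) • Fmap _ g 0 x = (c * b ^ e) • res _ 0 y
    rw [← map_smul, show (c * b ^ e) • x = _ from hx, unit_natural, hm, map_smul, mul_smul,
      ← res_res hb hle y, ← map_smul (res _ 0) (b ^ e), hn, res_unit]
  choose W hW x hp hx using key
  obtain ⟨s, hs, -⟩ := TopCat.Sheaf.existsUnique_gluing' (X := (Spec R).toTopCat) (Coh.toAb (tilde (R := R) M))
    W V (fun p => homOfLE (hW p)) (fun p hpV => Opens.mem_iSup.2 ⟨⟨p, hpV⟩, hp ⟨p, hpV⟩⟩)
    (fun p => secV (W p) (tilde M) (x p)) fun p q => by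
      have h := hinj (W p ⊓ W q) (inf_le_left.trans (hW p))
        (a₁ := res inf_le_left 0 (x p)) (a₂ := res inf_le_right 0 (x q))
        (by rw [← res_Fmap, ← res_Fmap, hx, hx, res_res, res_res])
      exact (secV_res (tilde M) inf_le_left (x p)).symm.trans
        ((congrArg (secV _ (tilde M)) h).trans (secV_res (tilde M) inf_le_right (x q)))
  refine ⟨(secV V (tilde M)).symm s, sub_eq_zero.1 (eq_zero_of_local _ fun p hpV => ?_)⟩
  refine ⟨W ⟨p, hpV⟩, hW _, hp _, ?_⟩
  rw [map_sub, res_Fmap, ← hx, sub_eq_zero]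
  refine congrArg _ ((secV (W ⟨p, hpV⟩) (tilde M)).injective ?_)
  refine (secV_res _ _ _).trans ?_
  rw [LinearEquiv.apply_symm_apply]
  exact hs ⟨p, hpV⟩

end Groth.Agent.Formal2Lib.SecU
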