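import Groth.Agent.Formal2Lib.SecUTorsion
import Groth.Agent.AdicRing.Basic

/-!
# Formal sections on the complement of `V(𝔞)` when `H¹` and `H²` are killed by a power of `f`
-/

set_option autoImplicit false
set_option backward.isDefEq.respectTransparency false

universe u

open CategoryTheory CategoryTheory.Limits AlgebraicGeometry Opposite TopologicalSpace
open Groth.Agent.Coherent Groth.Agent.Coherent.Serre

namespace Groth.Agent.Formal2Lib.SecU

variable {R : CommRingCat.{u}} [IsNoetherianRing R] (f : R)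


theorem range_pow_smul (M : Type u) [AddCommGroup M] [Module R M] (k : ℕ) :
    LinearMap.range (f ^ k • LinearMap.id : M →ₗ[R] M) = Ideal.span ({f} : Set R) ^ k • (⊤ : Submodule R M) := by
  rw [Ideal.span_singleton_pow, Submodule.ideal_span_singleton_smul]
  ext x
  simp [Submodule.mem_smul_pointwise_iff_exists]

/-- A module which is, up to a power of `f`, a finite submodule, with bounded `f`-torsion, is `f`-adically
separated, and its Cauchy sequences converge. -/
theorem separated_and_complete [IsAdicComplete (Ideal.span ({f} : Set R)) R] {M D : Type u} [AddCommGroup M]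
    [Module R M] [Module.Finite R M] [AddCommGroup D] [Module R D] (u : M →ₗ[R] D) (c : ℕ)
    (hc : ∀ y, ∃ m, u m = f ^ c • y) (s : ℕ) (hs : ∀ (j : ℕ) (y : D), f ^ j • y = 0 → f ^ s • y = 0) :
    (∀ x : D, (∀ j : ℕ, ∃ y, f ^ j • y = x) → x = 0) ∧
      ∀ z : ℕ → D, (∀ n, ∃ w, f ^ n • w = z (n + 1) - z n) → ∃ x : D, ∀ n, ∃ w, f ^ n • w = x - z n := by
  refine ⟨fun x hx => ?_, fun z hz => ?_⟩
  · have h0 : f ^ c • x = 0 := by
      let P := LinearMap.range u
      have hP : IsHausdorff (Ideal.span ({f} : Set R)) P :=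
        IsHausdorff.of_le_jacobson _ _ (IsAdicComplete.le_jacobson_bot _)
      obtain ⟨m, hm⟩ := hc x
      have h : (⟨f ^ c • x, ⟨m, hm⟩⟩ : P) = 0 := hP.haus' _ fun n => SModEq.zero.2 <| by
        obtain ⟨y, hy⟩ := hx n
        obtain ⟨m', hm'⟩ := hc y
        rw [Ideal.span_singleton_pow, Submodule.ideal_span_singleton_smul,
          Submodule.mem_smul_pointwise_iff_exists]
        exact ⟨⟨_, ⟨m', hm'⟩⟩, trivial, Subtype.ext (by
          show f ^ n • f ^ c • y = f ^ c • x
          rw [smul_comm, hy])⟩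
      exact congrArg Subtype.val h
    obtain ⟨y, rfl⟩ := hx s
    refine hs (c + s) y ?_
    rw [pow_add, mul_smul, h0]
  · choose w hw using hz
    choose m hm using hc
    let S : ℕ → M := fun n => ∑ i ∈ Finset.range n, f ^ i • m (w (i + c))
    have hS : ∀ n, u (S n) = z (n + c) - z c := fun n => by
      induction n with
      | zero => simp [S]
      | succ n ih =>
        rw [show S (n + 1) = S n + f ^ n • m (w (n + c)) from Finset.sum_range_succ _ _, map_add, ih, map_smul, hm,
          ← mul_smul, ← pow_add, hw, show n + c + 1 = n + 1 + c by omega]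
        abel
    have hP : IsPrecomplete (Ideal.span ({f} : Set R)) M := Groth.Agent.AdicRing.isPrecomplete_of_finite _ _
    obtain ⟨L, hL⟩ := hP.prec' S fun {a b} hab => by
      induction b, hab using Nat.le_induction with
      | base => exact SModEq.rfl
      | succ b hb ih =>
        refine ih.trans (SModEq.sub_mem.2 ?_)
        rw [show S b - S (b + 1) = -(f ^ b • m (w (b + c))) by
          rw [show S (b + 1) = S b + f ^ b • m (w (b + c)) from Finset.sum_range_succ _ _]; abel, ← range_pow_smul]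
        refine neg_mem ⟨f ^ (b - a) • m (w (b + c)), ?_⟩
        rw [LinearMap.smul_apply, LinearMap.id_apply, ← mul_smul, ← pow_add, Nat.add_sub_cancel' hb]
    refine ⟨z c + u L, fun n => ?_⟩
    have h1 : ∀ d, ∃ v, f ^ n • v = z (n + d) - z n := fun d => by
      induction d with
      | zero => exact ⟨0, by simp⟩
      | succ d ih =>
        obtain ⟨v, hv⟩ := ih
        refine ⟨v + f ^ d • w (n + d), ?_⟩
        rw [smul_add, hv, ← mul_smul, ← pow_add, hw, ← add_assoc]
        abel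
    obtain ⟨v, hv⟩ := h1 c
    have h2 := SModEq.sub_mem.1 (hL n)
    rw [← range_pow_smul] at h2
    obtain ⟨e, he⟩ := h2
    have he' : u (f ^ n • e) = u (S n) - u L := by rw [← map_sub, ← he]; rfl
    rw [map_smul, hS] at he'
    refine ⟨v - u e, ?_⟩
    rw [smul_sub, hv, he']
    abel

variable (𝔞 : Ideal R) (M : ModuleCat.{u} R)

/-- The kernel of a high power. -/
theorem exists_stable [Module.Finite R M] :
    ∃ s : ℕ, ∀ j, s ≤ j → LinearMap.ker (f ^ j • LinearMap.id : M →ₗ[R] M) = LinearMap.ker (f ^ s • LinearMap.id : M →ₗ[R] M) := by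
  let C : ℕ →o Submodule R M :=
    ⟨fun j => LinearMap.ker (f ^ j • LinearMap.id : M →ₗ[R] M), fun a b h x hx => by
      rw [LinearMap.mem_ker, LinearMap.smul_apply, LinearMap.id_apply] at hx ⊢
      rw [← Nat.sub_add_cancel h, pow_add, mul_smul, hx, smul_zero]⟩
  obtain ⟨s, hs⟩ := monotone_stabilizes_iff_noetherian.2 (inferInstance : IsNoetherian R M) C
  exact ⟨s, fun j hj => (hs j hj).symm⟩

theorem sections_bijective [Module.Finite R M] [IsAdicComplete (Ideal.span ({f} : Set R)) R] {c : ℕ}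
    (h₁ : ∀ x : _root_.LocCoh.H 𝔞 1 M, f ^ c • x = 0) (h₂ : ∀ x : _root_.LocCoh.H 𝔞 2 M, f ^ c • x = 0) :
    let U0 := LocCoh.puncturedOpen R 𝔞
    let Q := fun n : ℕ => ModuleCat.of R (M ⧸ (Ideal.span ({f} : Set R) ^ (n + 1) • (⊤ : Submodule R M)))
    let π := fun n : ℕ => (Ideal.span ({f} : Set R) ^ (n + 1) • (⊤ : Submodule R M)).mkQ
    ∀ (tr : ∀ n : ℕ, Q (n + 1) →ₗ[R] Q n), (∀ n, (tr n).comp (π (n + 1)) = π n) →
      (∀ x : F U0 M 0, (∀ n, Fmap U0 (N := Q n) (π n) 0 x = 0) → x = 0) ∧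
      ∀ y : ∀ n, F U0 (Q n) 0, (∀ n, Fmap U0 (tr n) 0 (y (n + 1)) = y n) →
        ∃ x : F U0 M 0, ∀ n, Fmap U0 (N := Q n) (π n) 0 x = y n := by
  intro U0 Q π tr htr
  obtain ⟨s, hs⟩ := exists_stable f M
  let K := LinearMap.ker (f ^ s • LinearMap.id : M →ₗ[R] M)
  let M' : ModuleCat.{u} R := ModuleCat.of R (M ⧸ K)
  let qM : M →ₗ[R] M' := K.mkQ
  let KM : ModuleCat.{u} R := ModuleCat.of R K
  let jK : KM →ₗ[R] M := K.subtype
  have hjK : Function.Injective jK := K.subtype_injective
  have hqM : Function.Surjective qM := K.mkQ_surjective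
  have hKq : Function.Exact jK qM := LinearMap.exact_subtype_mkQ K
  let i : ℕ → (M' →ₗ[R] M) := fun j => K.liftQ (f ^ (j + s) • LinearMap.id) fun x hx => by
    have hx' : f ^ s • x = 0 := LinearMap.mem_ker.1 hx
    rw [LinearMap.mem_ker, LinearMap.smul_apply, LinearMap.id_apply, pow_add, mul_smul, hx', smul_zero]
  have hi : ∀ j, (i j).comp qM = f ^ (j + s) • LinearMap.id := fun j => LinearMap.ext fun x => rfl
  have hi_inj : ∀ j, Function.Injective (i j) := fun j => by
    refine LinearMap.ker_eq_bot.1 (Submodule.ker_liftQ_eq_bot' _ _ ?_)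
    exact (hs (j + s) (Nat.le_add_left s j)).symm
  have hi0 : ∀ j, i j = f ^ j • i 0 := fun j => Submodule.linearMap_qext K (LinearMap.ext fun x => by
    show f ^ (j + s) • x = f ^ j • f ^ (0 + s) • x
    rw [zero_add, pow_add, mul_smul])
  have hij : ∀ j (z : F U0 M' 0), Fmap U0 (i j) 0 z = f ^ j • Fmap U0 (i 0) 0 z := fun j z => by
    rw [hi0, Fmap_smul]
  have hbound : ∀ (j : ℕ) (y : F U0 M 0), f ^ j • y = 0 → f ^ s • y = 0 := fun j y hy => by
    have h1 : Fmap U0 (i j) 0 (Fmap U0 qM 0 y) = 0 := by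
      rw [← Fmap_comp, hi, Fmap_smul, Fmap_id, pow_add, mul_comm, mul_smul, hy, smul_zero]
    have h2 : Fmap U0 qM 0 y = 0 := by
      refine Fmap_zero_injective U0 (hi_inj j) (Submodule.mkQ_surjective _)
        (C := ModuleCat.of R (M ⧸ LinearMap.range (i j))) (LinearMap.exact_map_mkQ_range (i j)) ?_
      rw [h1, map_zero]
    obtain ⟨z, rfl⟩ := (exact_map U0 hjK hqM hKq 0 y).1 h2
    have h0 : f ^ s • jK = 0 := LinearMap.ext fun x => LinearMap.mem_ker.1 x.2
    exact (Fmap_smul U0 (M := KM) (N := M) jK (f ^ s) 0 z).symm.trans ((congrArg (fun g : KM →ₗ[R] M => Fmap U0 g 0 z) h0).trans (Fmap_zero U0 0 z))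
  obtain ⟨hsep, hcompl⟩ := separated_and_complete (M := M) (D := F U0 M 0) f (unit U0 M) c
    (exists_smul_eq_unit 𝔞 M _ h₁) s hbound
  have hrange : ∀ j, LinearMap.range (i j) = Ideal.span ({f} : Set R) ^ (j + s) • (⊤ : Submodule R M) := fun j => by
    rw [Submodule.range_liftQ, range_pow_smul]
  have hex : ∀ j k, k + 1 = j + s → Function.Exact (i j) (π k) := fun j k hk => by
    rw [LinearMap.exact_iff, Submodule.ker_mkQ, hrange, hk]
  have hker : ∀ j k, k + 1 = j + s → ∀ x : F U0 M 0, Fmap U0 (N := Q k) (π k) 0 x = 0 →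
      ∃ w, f ^ j • w = x := fun j k hk x hx => by
    obtain ⟨z, rfl⟩ := (exact_map U0 (hi_inj j) (Submodule.mkQ_surjective _) (C := Q k) (hex j k hk) 0 x).1 hx
    exact ⟨Fmap U0 (i 0) 0 z, (hij j z).symm⟩
  refine ⟨fun x hx => hsep x fun j => ?_, fun y hy => ?_⟩
  · obtain ⟨w, hw⟩ := hker (j + 1) (j + s) (by omega) x (hx _)
    exact ⟨f • w, by rw [← mul_smul, ← pow_succ, hw]⟩
  have hH2 : ∀ x : _root_.LocCoh.H 𝔞 2 M', f ^ (s + c) • x = 0 := fun x => by
    let δ := LocCoh.connecting 𝔞 hjK hqM hKq 2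
    have h0 : δ (f ^ s • x) = 0 := by
      rw [map_smul]
      exact LocCoh.smul_H_eq_zero (fun z => Subtype.ext (LinearMap.mem_ker.1 z.2)) _ _
    obtain ⟨z, hz⟩ := (LocCoh.Hmap_connecting_exact hjK hqM hKq 2 _).1 h0
    rw [add_comm, pow_add, mul_smul, ← hz, ← map_smul, h₂, map_zero]
  have hFM' : ∀ z : F U0 M' 1, f ^ (s + c) • z = 0 := smul_F_one_eq_zero 𝔞 M' _ hH2
  let d : ∀ j k, k + 1 = j + s → (F U0 (Q k) 0 →ₗ[R] F U0 M' 1) := fun j k hk =>
    delta U0 (hi_inj j) (Submodule.mkQ_surjective _) (C := Q k) (hex j k hk) 0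
  let v : ℕ → F U0 M' 1 := fun j => d (j + 1) (j + s) (by omega) (y (j + s))
  have hv : ∀ j, f • v (j + 1) = v j := fun j => by
    have hc1 : (LinearMap.id : M →ₗ[R] M).comp (i (j + 2)) = (i (j + 1)).comp (f • LinearMap.id) := by
      refine Submodule.linearMap_qext K (LinearMap.ext fun x => ?_)
      show f ^ (j + 2 + s) • x = f ^ (j + 1 + s) • f • x
      rw [← mul_smul, ← pow_succ]
      congr 2
      omega
    have h := delta_natural U0 (A := M') (B := M) (C := Q (j + s + 1)) (hi_inj (j + 2)) (Submodule.mkQ_surjective _)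
      (hex (j + 2) (j + s + 1) (by omega)) (A' := M') (B' := M) (C' := Q (j + s)) (hi_inj (j + 1))
      (Submodule.mkQ_surjective _) (hex (j + 1) (j + s) (by omega))
      (f • LinearMap.id) LinearMap.id (tr (j + s)) hc1 (htr (j + s)) 0 (y (j + s + 1))
    rw [Fmap_smul, Fmap_id, hy] at h
    have hidx : ∀ k k' (hk : k + 1 = j + 1 + 1 + s) (hk' : k' + 1 = j + 1 + 1 + s), k = k' →
        d (j + 1 + 1) k hk (y k) = d (j + 1 + 1) k' hk' (y k') := by
      intro k k' hk hk' e
      subst e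
      rfl
    show f • d (j + 1 + 1) (j + 1 + s) (by omega) (y (j + 1 + s)) = v j
    rw [hidx _ (j + s + 1) (by omega) (by omega) (by omega)]
    exact h
  have hv0 : ∀ j, v j = 0 := fun j => by
    have : ∀ m j, f ^ m • v (j + m) = v j := fun m => by
      induction m with
      | zero => intro j; rw [pow_zero, one_smul, add_zero]
      | succ m ih => intro j; rw [pow_succ, mul_smul, ← add_assoc, hv, ih]
    rw [← this (s + c) j]
    exact hFM' _
  choose z hz using fun j => ((exact_map_delta U0 (A := M') (B := M) (C := Q (j + s)) (hi_inj (j + 1))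
    (Submodule.mkQ_surjective _) (hex (j + 1) (j + s) (by omega)) 0 (y (j + s))).1 (hv0 j))
  have hdown : ∀ (m k : ℕ), m ≤ k → ∀ x : F U0 M 0,
      Fmap U0 (N := Q k) (π k) 0 x = y k → Fmap U0 (N := Q m) (π m) 0 x = y m := fun m k h x => by
    induction k, h using Nat.le_induction with
    | base => exact id
    | succ k hk ih =>
      intro hx
      refine ih ?_
      rw [← htr k, Fmap_comp, hx, hy]
  have hstep : ∀ j, ∃ w, f ^ j • w = z (j + 1) - z j := fun j => by
    obtain ⟨w, hw⟩ := hker (j + 1) (j + s) (by omega) (z (j + 1) - z j) (by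
      rw [map_sub, hz j, hdown (j + s) (j + 1 + s) (by omega) _ (hz (j + 1)), sub_self])
    exact ⟨f • w, by rw [← mul_smul, ← pow_succ, hw]⟩
  obtain ⟨x, hx⟩ := hcompl z hstep
  refine ⟨x, fun m => ?_⟩
  obtain ⟨w, hw⟩ := hx (m + 1)
  have h1 : Fmap U0 (N := Q m) (π m) 0 (x - z (m + 1)) = 0 := by
    have hz0 : f ^ (m + 1) • π m = 0 := LinearMap.ext fun q => by
      show f ^ (m + 1) • π m q = 0
      rw [← map_smul, Submodule.mkQ_apply, Submodule.Quotient.mk_eq_zero, ← range_pow_smul]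
      exact ⟨q, rfl⟩
    rw [← hw, map_smul]
    exact (Fmap_smul U0 (M := M) (N := Q m) (π m) (f ^ (m + 1)) 0 w).symm.trans
      ((congrArg (fun g : M →ₗ[R] Q m => Fmap U0 g 0 w) hz0).trans (Fmap_zero U0 0 w))
  rw [map_sub, sub_eq_zero] at h1
  rw [h1]
  exact hdown m (m + 1 + s) (by omega) _ (hz (m + 1))

end Groth.Agent.Formal2Lib.SecU
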