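import Groth.Agent.Formal2Lib.SecU

/-!
# Cohomology on the complement of `V(𝔞)` and local cohomology
-/

set_option autoImplicit false
set_option backward.isDefEq.respectTransparency false

universe u

open CategoryTheory CategoryTheory.Limits AlgebraicGeometry Opposite TopologicalSpace
open Groth.Agent.Coherent Groth.Agent.Coherent.Serre

namespace Groth.Agent.Formal2Lib.SecU

variable {R : CommRingCat.{u}} (𝔞 : Ideal R) [IsNoetherianRing R]

local notation "U0" => LocCoh.puncturedOpen R 𝔞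

/-- Degree zero is the ideal transform. -/
theorem exists_DT_equiv (M : ModuleCat.{u} R) :
    ∃ e : _root_.LocCoh.DT 𝔞 M ≃ₗ[R] F U0 M 0, ∀ x, e (_root_.LocCoh.toDT 𝔞 M x) = unit U0 M x := by
  have := Punct.isQCoh_T 𝔞 M
  obtain ⟨e, he⟩ := Punct.exists_DT_equiv 𝔞 M
  let η := (Scheme.Modules.restrictAdjunction (Punct.jU 𝔞)).unit.app (tilde M)
  let l : Γ(tilde M, U0) →ₗ[R] Γ(Punct.P 𝔞 ((Punct.T 𝔞).obj M), U0) :=
    ((modulesSpecToSheaf.map η).hom.app (op U0)).hom
  have himg : Punct.jU 𝔞 ''ᵁ (Punct.jU 𝔞 ⁻¹ᵁ U0) = U0 := by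
    refine ((Punct.jU 𝔞).image_preimage_eq_opensRange_inf _).trans ?_
    rw [Scheme.Opens.opensRange_ι, inf_idem]
  have hl : Function.Bijective l := by
    show Function.Bijective (η.app U0)
    rw [show η.app U0 = (tilde M).presheaf.map (homOfLE ((Punct.jU 𝔞).image_preimage_le U0)).op from
      Scheme.Modules.restrictAdjunction_unit_app_app _ _ _]
    exact resM_bijective_of_eq (tilde M) ((Punct.jU 𝔞).image_preimage_le U0) himg.symm
  have hρ : Function.Bijective (Punct.ρ 𝔞 ((Punct.T 𝔞).obj M) U0) := by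
    show Function.Bijective (((Punct.T 𝔞).obj M).presheaf.map
      ((Opens.map (Punct.jU 𝔞).base).map (homOfLE (le_top : U0 ≤ ⊤))).op)
    exact resM_bijective_of_eq ((Punct.T 𝔞).obj M) ((Opens.map (Punct.jU 𝔞).base).map (homOfLE (le_top : U0 ≤ ⊤))).le
      (le_antisymm (fun _ _ => trivial) (fun x _ => x.2)).symm
  let ρe := LinearEquiv.ofBijective _ hρ
  let le' := LinearEquiv.ofBijective l hl
  refine ⟨(e.trans ρe).trans (le'.symm.trans (secV U0 (tilde M)).symm), fun x => ?_⟩
  show (secV U0 (tilde M)).symm (le'.symm (ρe (e (_root_.LocCoh.toDT 𝔞 M x)))) = _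
  refine congrArg (secV U0 (tilde M)).symm (le'.symm_apply_eq.2 ?_)
  rw [he]
  show (Punct.ρ 𝔞 _ U0) (((Punct.adj 𝔞).unit.app M).hom x) = l ((tilde.toOpen M U0).hom x)
  simp only [Punct.adj, Adjunction.comp_unit_app]
  show ((modulesSpecToSheaf.obj (Punct.P 𝔞 ((Punct.T 𝔞).obj M))).obj.map _).hom
    (((modulesSpecToSheaf.map η).hom.app (op ⊤)).hom ((tilde.toOpen M ⊤).hom x)) = _
  refine (ConcreteCategory.congr_hom
    ((modulesSpecToSheaf.map η).hom.naturality (homOfLE (le_top : U0 ≤ ⊤)).op) _).symm.trans ?_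
  exact congrArg l (ConcreteCategory.congr_hom (tilde.toOpen_res M ⊤ U0 (homOfLE le_top)) x)

/-- An element killing `H¹` moves sections into the module. -/
theorem exists_smul_eq_unit (M : ModuleCat.{u} R) (c : R) (h : ∀ x : _root_.LocCoh.H 𝔞 1 M, c • x = 0)
    (y : F U0 M 0) : ∃ m, unit U0 M m = c • y := by
  obtain ⟨e, he⟩ := exists_DT_equiv 𝔞 M
  obtain ⟨ee⟩ := LocCoh.nonempty_coker_toDT_equiv 𝔞 M
  obtain ⟨z, rfl⟩ := e.surjective y
  have h0 : c • (Submodule.Quotient.mk z : _ ⧸ LinearMap.range (_root_.LocCoh.toDT 𝔞 M)) = 0 :=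
    ee.injective (by rw [map_smul, h, map_zero])
  rw [← Submodule.Quotient.mk_smul, Submodule.Quotient.mk_eq_zero] at h0
  obtain ⟨m, hm⟩ := h0
  exact ⟨m, by rw [← he, hm, map_smul]⟩

/-- Higher cohomology on the complement of an injective module. -/
theorem subsingleton_F_injective (J : ModuleCat.{u} R) [Module.Injective R J] (q : ℕ) :
    Subsingleton (F U0 J (q + 1)) := by
  have := Misc15.Koszul.isFlasque_tilde (R := R) J
  exact subsingleton_H'_of_isFlasque (X := (Spec R).toTopCat) (Coh.toAb (tilde J)) U0 q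

/-- An element killing `H²` kills `H¹` on the complement. -/
theorem smul_F_one_eq_zero (M : ModuleCat.{u} R) (c : R) (h : ∀ x : _root_.LocCoh.H 𝔞 2 M, c • x = 0)
    (y : F U0 M 1) : c • y = 0 := by
  obtain ⟨J, _, _, f, hJ, hf⟩ := LocCoh.exists_injective_embedding (R := R) M
  let g : J →ₗ[R] J ⧸ LinearMap.range f := Submodule.mkQ _
  have hg : Function.Surjective g := Submodule.mkQ_surjective _
  have hfg : Function.Exact f g := LinearMap.exact_map_mkQ_range f
  let J' : ModuleCat.{u} R := ModuleCat.of R J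
  let C : ModuleCat.{u} R := ModuleCat.of R (J ⧸ LinearMap.range f)
  have := subsingleton_F_injective 𝔞 J' 0
  have hC : ∀ x : _root_.LocCoh.H 𝔞 1 C, c • x = 0 := fun x => by
    have := LocCoh.subsingleton_H_of_injective (I := 𝔞) J Nat.one_pos
    have hc : Function.Injective (LocCoh.connecting 𝔞 hf hg hfg 1) :=
      (injective_iff_map_eq_zero _).2 fun y hy => by
        obtain ⟨z, rfl⟩ := (LocCoh.Hmap_connecting_exact hf hg hfg 1 y).1 hy
        rw [Subsingleton.elim z 0, map_zero]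
    exact hc (by rw [map_smul, h, map_zero])
  obtain ⟨z, rfl⟩ := (exact_delta_map U0 (A := M) (B := J') (C := C) hf hg hfg 0 y).1 (Subsingleton.elim _ _)
  obtain ⟨m, hm⟩ := exists_smul_eq_unit 𝔞 C c hC z
  obtain ⟨j, rfl⟩ := hg m
  rw [← map_smul, ← hm, ← unit_natural U0 (M := J') (N := C) g j]
  exact (exact_map_delta U0 (A := M) (B := J') (C := C) hf hg hfg 0 _).2 ⟨_, rfl⟩

end Groth.Agent.Formal2Lib.SecU
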