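import Groth.Agent.Formal2Lib.SecLocal
import Groth.Agent.Formal2Lib.SectionsLimit

/-!
# Colimit of sections near `V(f)` on the complement of `V(𝔞)` and formal sections
-/

set_option autoImplicit false
set_option linter.unusedSectionVars false
set_option backward.isDefEq.respectTransparency false

universe u

open CategoryTheory CategoryTheory.Limits AlgebraicGeometry Opposite TopologicalSpace
open Groth.Agent.Coherent Groth.Agent.Coherent.Serre

namespace Groth.Agent.Formal2Lib.SecU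

variable {R : CommRingCat.{u}} [IsNoetherianRing R] (f : R)

/-- A finite module equal to `f` times itself, after inverting an element outside `p ∋ f`, vanishes at `p`. -/
theorem exists_kill_of_smul {K : Type u} [AddCommGroup K] [Module R K] [Module.Finite R K] (p : Ideal R)
    [p.IsPrime] (hf : f ∈ p) (h : ∀ x : K, ∃ b ∉ p, ∃ y, b • x = f • y) :
    ∃ b ∉ p, ∀ x : K, b • x = 0 := by
  classical
  let S := p.primeCompl
  let L := LocalizedModule S K
  have hle : (⊤ : Submodule (Localization S) L) ≤ IsLocalRing.maximalIdeal (Localization.AtPrime p) • ⊤ := by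
    intro z _
    induction z using LocalizedModule.induction_on with
    | h x s =>
      obtain ⟨b, hb, y, hy⟩ := h x
      have e : LocalizedModule.mk x s = algebraMap R (Localization.AtPrime p) f • LocalizedModule.mk y (⟨b, hb⟩ * s) := by
        rw [algebraMap_smul, LocalizedModule.smul'_mk, ← hy]
        exact LocalizedModule.mk_eq.2 ⟨1, by
          simp only [one_smul, Submonoid.smul_def, Submonoid.coe_mul]
          rw [mul_comm b, mul_smul]⟩
      rw [e]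
      refine Submodule.smul_mem_smul ?_ Submodule.mem_top
      rw [← Localization.AtPrime.map_eq_maximalIdeal]
      exact Ideal.mem_map_of_mem _ hf
  have h0 := Submodule.eq_bot_of_le_smul_of_le_jacobson_bot _ _ Module.Finite.fg_top hle
    (le_of_eq (IsLocalRing.jacobson_eq_maximalIdeal ⊥ bot_ne_top).symm)
  have hK : ∀ x : K, ∃ b ∉ p, b • x = 0 := fun x => by
    have hx : LocalizedModule.mk x (1 : S) = 0 := (Submodule.eq_bot_iff _).1 h0 _ trivial
    rw [← LocalizedModule.zero_mk (1 : S)] at hx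
    obtain ⟨c, hc⟩ := LocalizedModule.mk_eq.1 hx
    exact ⟨c.1, c.2, by simpa [Submonoid.smul_def] using hc⟩
  choose b hb hbx using hK
  obtain ⟨G, hG⟩ := Module.Finite.fg_top (R := R) (M := K)
  refine ⟨∏ g ∈ G, b g, fun hmem => ?_, fun x => ?_⟩
  · obtain ⟨g, -, hg⟩ := Ideal.IsPrime.prod_mem_iff.1 hmem
    exact hb g hg
  · have hx : x ∈ Submodule.span R (G : Set K) := by rw [hG]; trivial
    induction hx using Submodule.span_induction with
    | mem g hg =>
      rw [← Finset.prod_erase_mul G b hg, mul_smul, hbx, smul_zero]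
    | zero => rw [smul_zero]
    | add y z _ _ hy hz => rw [smul_add, hy, hz, add_zero]
    | smul a y _ hy => rw [smul_comm, hy, smul_zero]

variable (𝔞 : Ideal R) (M : ModuleCat.{u} R)

/-- Comparison of the module of sections of the quotient with the quotient. -/
theorem torsion_unit (Q : ModuleCat.{u} R) :
    (∀ y : F (LocCoh.puncturedOpen R 𝔞) Q 0, ∀ a ∈ 𝔞, ∃ (e : ℕ) (q : Q),
      unit (LocCoh.puncturedOpen R 𝔞) Q q = a ^ e • y) ∧
    (∀ q : Q, unit (LocCoh.puncturedOpen R 𝔞) Q q = 0 → ∀ a ∈ 𝔞, ∃ e : ℕ, a ^ e • q = 0) := by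
  obtain ⟨e, he⟩ := exists_DT_equiv 𝔞 Q
  refine ⟨fun y a ha => ?_, fun q hq a ha => ?_⟩
  · obtain ⟨z, rfl⟩ := e.surjective y
    obtain ⟨m, hm⟩ := LocCoh.isPowerTorsion_coker_toDT (I := 𝔞) (M := Q) (Submodule.Quotient.mk z)
    obtain ⟨q, hq⟩ := (Submodule.Quotient.mk_eq_zero _).1 (hm _ (Ideal.pow_mem_pow ha m))
    exact ⟨m, q, by rw [← he, hq, map_smul]⟩
  · obtain ⟨m, hm⟩ := (LocCoh.toDT_eq_zero_iff q).1 (e.injective ((he q).trans (hq.trans (map_zero _).symm)))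
    exact ⟨m, hm _ (Ideal.pow_mem_pow ha m)⟩

/-- The unit is bijective on sections over opens of the complement. -/
theorem Fmap_unit (Q : ModuleCat.{u} R) (V : (Spec R).Opens) (hV : V ≤ LocCoh.puncturedOpen R 𝔞) :
    let L : ModuleCat.{u} R := ModuleCat.of R (F (LocCoh.puncturedOpen R 𝔞) Q 0)
    Function.Injective (Fmap V (N := L) (unit (LocCoh.puncturedOpen R 𝔞) Q) 0) ∧
      ∀ y : L, Fmap V (N := L) (unit (LocCoh.puncturedOpen R 𝔞) Q) 0 (res hV 0 y) = unit V L y := by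
  intro L
  obtain ⟨hcok, hker⟩ := torsion_unit 𝔞 Q
  have hb := Fmap_bijective_of_local (N := L) (unit (LocCoh.puncturedOpen R 𝔞) Q) V
    (fun p hp q hq => by
      obtain ⟨a, ha, hap⟩ := Set.not_subset.1 (hV hp)
      obtain ⟨e, he⟩ := hker q hq a ha
      exact ⟨a ^ e, fun h => hap (p.2.mem_of_pow_mem e h), he⟩)
    (fun p hp y => by
      obtain ⟨a, ha, hap⟩ := Set.not_subset.1 (hV hp)
      obtain ⟨e, q, hq⟩ := hcok y a ha
      exact ⟨a ^ e, fun h => hap (p.2.mem_of_pow_mem e h), q, hq⟩)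
  refine ⟨hb.1, fun y => sub_eq_zero.1 (eq_zero_of_local _ fun p hp => ?_)⟩
  obtain ⟨a, ha, hap⟩ := Set.not_subset.1 (hV hp)
  obtain ⟨e, q, hq⟩ := hcok y a ha
  refine ⟨V ⊓ specBasicOpen (R := R) a, inf_le_left, ⟨hp, hap⟩, ?_⟩
  have h0 : a ^ e • (Fmap V (N := L) (unit (LocCoh.puncturedOpen R 𝔞) Q) 0 (res hV 0 y) - unit V L y) = 0 := by
    rw [smul_sub, ← map_smul, ← map_smul (res hV 0), ← map_smul (unit V L), ← hq, sub_eq_zero]
    exact (congrArg (Fmap V (N := L) (unit (LocCoh.puncturedOpen R 𝔞) Q) 0) (res_unit hV q)).trans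
      (unit_natural V (N := L) (unit (LocCoh.puncturedOpen R 𝔞) Q) q)
  refine (secV (V ⊓ specBasicOpen (R := R) a) (tilde (R := R) L)).injective ?_
  rw [map_zero]
  refine (Scheme.Modules.isSMulRegular_of_le_basicOpen (M := tilde (R := R) L) (f := a)
    (U := V ⊓ specBasicOpen (R := R) a) inf_le_right).pow e ?_
  show a ^ e • secV _ (tilde (R := R) L) _ = a ^ e • (0 : Γ(tilde (R := R) L, V ⊓ specBasicOpen (R := R) a))
  rw [← map_smul, ← map_smul, h0, map_zero, map_zero, smul_zero]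

variable {M} in
/-- Comparing sections through the module of sections of the quotient. -/
theorem res_eq_of_unit (Q : ModuleCat.{u} R) {N : ModuleCat.{u} R} (V : (Spec R).Opens)
    (hV : V ≤ LocCoh.puncturedOpen R 𝔞) (π : M →ₗ[R] Q) (j : M →ₗ[R] N)
    (pr : N →ₗ[R] F (LocCoh.puncturedOpen R 𝔞) Q 0)
    (hc : ∀ m, pr (j m) = unit (LocCoh.puncturedOpen R 𝔞) Q (π m)) (x : F V M 0) (ν : N)
    (hx : Fmap V j 0 x = unit V N ν) (y0 : F (LocCoh.puncturedOpen R 𝔞) Q 0) (hy0 : pr ν = y0) :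
    res hV 0 y0 = Fmap V π 0 x := by
  let L : ModuleCat.{u} R := ModuleCat.of R (F (LocCoh.puncturedOpen R 𝔞) Q 0)
  let pr' : N →ₗ[R] L := pr
  let uL : Q →ₗ[R] L := unit (LocCoh.puncturedOpen R 𝔞) Q
  obtain ⟨hi, hu⟩ := Fmap_unit 𝔞 Q V hV
  refine hi ((hu y0).trans ?_)
  have e : pr'.comp j = uL.comp π := LinearMap.ext hc
  have h := Fmap_comp V (N := N) (L := L) j pr' 0 x
  rw [e, hx, unit_natural, show pr' ν = y0 from hy0] at h
  exact h.symm.trans (Fmap_comp V (N := Q) (L := L) π uL 0 x)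

/-- The quotients by the powers of `f`. -/
abbrev Qn (n : ℕ) : ModuleCat.{u} R :=
  ModuleCat.of R (M ⧸ (Ideal.span ({f} : Set R) ^ (n + 1) • (⊤ : Submodule R M)))

/-- The projections. -/
abbrev qπ (n : ℕ) : M →ₗ[R] Qn f M n :=
  (Ideal.span ({f} : Set R) ^ (n + 1) • (⊤ : Submodule R M)).mkQ

variable {f M}

theorem mem_pow_iff {M' : Type u} [AddCommGroup M'] [Module R M'] {n : ℕ} {x : M'} :
    x ∈ Ideal.span ({f} : Set R) ^ n • (⊤ : Submodule R M') ↔ ∃ w : M', f ^ n • w = x := by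
  rw [← range_pow_smul]
  exact Iff.rfl

theorem qπ_eq_zero_iff {n : ℕ} {x : M} : qπ f M n x = 0 ↔ ∃ w : M, f ^ (n + 1) • w = x :=
  (Submodule.Quotient.mk_eq_zero _).trans mem_pow_iff

variable (f M)

/-- Sections vanishing modulo every power of `f` vanish near `V(f)`. -/
theorem exists_res_eq_zero [Module.Finite R M] (hreg : IsSMulRegular M f)
    {U0 V : (Spec R).Opens} (hVU : V ≤ U0) (hV : ∀ p : Spec R, p ∈ U0 → f ∈ p.asIdeal → p ∈ V)
    (x : F V M 0) (hx : ∀ n, Fmap V (N := Qn f M n) (qπ f M n) 0 x = 0) :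
    ∃ (V' : (Spec R).Opens) (h : (V' ≤ U0 ∧ ∀ p : Spec R, p ∈ U0 → f ∈ p.asIdeal → p ∈ V') ∧ V' ≤ V),
      res h.2 0 x = 0 := by
  have key : ∀ p : {p : Spec R // p ∈ U0 ∧ f ∈ p.asIdeal},
      ∃ (W : (Spec R).Opens) (hW : W ≤ V), p.1 ∈ W ∧ res hW 0 x = 0 := by
    rintro ⟨p, hpU, hpf⟩
    obtain ⟨b, hb, e, m, hpb, hm⟩ := exists_num x (hV p hpU hpf)
    let K : Submodule R M :=
      { carrier := {z | ∀ n, ∃ c ∉ p.asIdeal, ∃ w : M, f ^ (n + 1) • w = c • z}
        zero_mem' := fun n => ⟨1, p.2.one_notMem, 0, by rw [smul_zero, smul_zero]⟩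
        add_mem' := fun {z w} hz hw n => by
          obtain ⟨c, hc, v, hv⟩ := hz n
          obtain ⟨d, hd, v', hv'⟩ := hw n
          refine ⟨c * d, fun h => (p.2.mem_or_mem h).elim hc hd, d • v + c • v', ?_⟩
          rw [smul_add, smul_comm _ d v, hv, smul_comm _ c v', hv', smul_add, ← mul_smul, ← mul_smul, mul_comm d c]
        smul_mem' := fun a z hz n => by
          obtain ⟨c, hc, v, hv⟩ := hz n
          exact ⟨c, hc, a • v, by rw [smul_comm, hv, smul_comm]⟩ }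
    have hmK : m ∈ K := fun n => by
      have h1 : unit (specBasicOpen (R := R) b) (Qn f M n) (qπ f M n m) = 0 :=
        ((unit_natural (specBasicOpen (R := R) b) (M := M) (N := Qn f M n) (qπ f M n) m).symm.trans
          ((congrArg (Fmap _ (N := Qn f M n) (qπ f M n) 0) hm.symm).trans (map_smul _ _ _))).trans
          (by rw [← res_Fmap, hx, map_zero, smul_zero])
      obtain ⟨e', he'⟩ := (unit_eq_zero_iff b _).1 h1
      rw [← map_smul, qπ_eq_zero_iff] at he'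
      exact ⟨b ^ e', fun h => hpb (p.2.mem_of_pow_mem e' h), he'⟩
    obtain ⟨c, hc, hcK⟩ := exists_kill_of_smul f (K := K) p.asIdeal hpf fun z => by
      obtain ⟨c, hc, w, hw⟩ := z.2 0
      rw [zero_add, pow_one] at hw
      refine ⟨c, hc, ⟨w, fun n => ?_⟩, Subtype.ext hw.symm⟩
      obtain ⟨d, hd, v, hv⟩ := z.2 (n + 1)
      refine ⟨d, hd, c • v, hreg ?_⟩
      show f • f ^ (n + 1) • c • v = f • d • w
      rw [← mul_smul, ← pow_succ', smul_comm, hv, smul_comm f d, hw, smul_comm]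
    have hcm : c • m = 0 := congrArg Subtype.val (hcK ⟨m, hmK⟩)
    have hle : specBasicOpen (R := R) (b * c) ≤ specBasicOpen (R := R) b := PrimeSpectrum.basicOpen_mul_le_left b c
    refine ⟨_, hle.trans hb, fun h => (p.2.mem_or_mem h).elim hpb hc, ?_⟩
    refine (smul_bijective (M := M) (b * c) (c * b ^ e) ⟨e + 1, ⟨b * c ^ e, by ring⟩⟩).1 ?_
    show (c * b ^ e) • res _ 0 x = (c * b ^ e) • 0
    rw [smul_zero, mul_smul, ← res_res hb hle x, ← map_smul (res _ 0) (b ^ e), hm, res_unit, ← map_smul, hcm, map_zero]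
  choose W hW hp hW0 using key
  refine ⟨⨆ p, W p, ⟨⟨iSup_le fun p => (hW p).trans hVU, fun p hp' hpf => Opens.mem_iSup.2 ⟨⟨p, hp', hpf⟩, hp _⟩⟩,
    iSup_le hW⟩, eq_zero_of_local _ fun q hq => ?_⟩
  obtain ⟨p, hqp⟩ := Opens.mem_iSup.1 hq
  exact ⟨W p, le_iSup W p, hqp, by rw [res_res]; exact hW0 p⟩

theorem le_ker_ι (k : ℕ) : Ideal.span ({f} : Set R) ^ (k + 1) • (⊤ : Submodule R M) ≤
    LinearMap.ker ((qπ f M (k + 1)).comp (f • LinearMap.id)) := fun x hx => by
  obtain ⟨w, rfl⟩ := mem_pow_iff.1 hx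
  refine LinearMap.mem_ker.2 (qπ_eq_zero_iff.2 ⟨w, ?_⟩)
  show f ^ (k + 1 + 1) • w = f • f ^ (k + 1) • w
  rw [← mul_smul, ← pow_succ']

/-- Multiplication by `f`. -/
noncomputable def ιn (k : ℕ) : Qn f M k →ₗ[R] Qn f M (k + 1) :=
  Submodule.liftQ _ ((qπ f M (k + 1)).comp (f • LinearMap.id)) (le_ker_ι f M k)

theorem ιn_qπ (k : ℕ) (m : M) : ιn f M k (qπ f M k m) = qπ f M (k + 1) (f • m) := rfl

theorem ιn_injective (hreg : IsSMulRegular M f) (k : ℕ) : Function.Injective (ιn f M k) :=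
  (injective_iff_map_eq_zero _).2 fun q hq => by
    obtain ⟨m, rfl⟩ := Submodule.Quotient.mk_surjective _ q
    obtain ⟨w, hw⟩ := qπ_eq_zero_iff.1 ((ιn_qπ f M k m).symm.trans hq)
    refine qπ_eq_zero_iff.2 ⟨w, hreg ?_⟩
    show f • f ^ (k + 1) • w = f • m
    rw [← mul_smul, ← pow_succ']
    exact hw

/-- The projection to the first quotient. -/
noncomputable def pr0 (k : ℕ) : Qn f M k →ₗ[R] Qn f M 0 :=
  Submodule.mapQ _ _ LinearMap.id (by
    rw [Submodule.comap_id]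
    exact Submodule.smul_mono_left (Ideal.pow_le_pow_right (by omega)))

theorem pr0_qπ (k : ℕ) (m : M) : pr0 f M k (qπ f M k m) = qπ f M 0 m := rfl

theorem exact_ιn (k : ℕ) : Function.Exact (ιn f M k) (pr0 f M (k + 1)) := fun q => by
  obtain ⟨m, rfl⟩ := Submodule.Quotient.mk_surjective _ q
  constructor
  · intro h
    obtain ⟨w, hw⟩ := qπ_eq_zero_iff.1 ((pr0_qπ f M (k + 1) m).symm.trans h)
    rw [zero_add, pow_one] at hw
    exact ⟨qπ f M k w, (ιn_qπ f M k w).trans (congrArg _ hw)⟩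
  · rintro ⟨q', hq'⟩
    obtain ⟨w, rfl⟩ := Submodule.Quotient.mk_surjective _ q'
    refine (congrArg (pr0 f M (k + 1)) (hq'.symm.trans (ιn_qπ f M k w))).trans ((pr0_qπ f M (k + 1) (f • w)).trans ?_)
    exact qπ_eq_zero_iff.2 ⟨w, by rw [zero_add, pow_one]⟩

theorem pr0_surjective (k : ℕ) : Function.Surjective (pr0 f M k) := fun q => by
  obtain ⟨m, rfl⟩ := Submodule.Quotient.mk_surjective _ q
  exact ⟨qπ f M k m, rfl⟩

section Tr

variable (U0 : (Spec R).Opens) (tr : ∀ n : ℕ, Qn f M (n + 1) →ₗ[R] Qn f M n)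
  (htr : ∀ n m, tr n (qπ f M (n + 1) m) = qπ f M n m)

include htr in
theorem pr0_comp (k : ℕ) : (pr0 f M k).comp (tr k) = pr0 f M (k + 1) :=
  Submodule.linearMap_qext _ (LinearMap.ext fun m => by
    rw [LinearMap.comp_apply, LinearMap.comp_apply, LinearMap.comp_apply]
    exact (congrArg (pr0 f M k) (htr k m)).trans ((pr0_qπ f M k m).trans (pr0_qπ f M (k + 1) m).symm))

include htr in
theorem ιn_comp (k : ℕ) : (ιn f M k).comp (tr k) = f • LinearMap.id :=
  Submodule.linearMap_qext _ (LinearMap.ext fun m =>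
    (congrArg (ιn f M k) (htr k m)).trans ((ιn_qπ f M k m).trans (map_smul (qπ f M (k + 1)) f m)))

include htr in
theorem comp_ιn (k : ℕ) : (tr k).comp (ιn f M k) = f • LinearMap.id :=
  Submodule.linearMap_qext _ (LinearMap.ext fun m =>
    (congrArg (tr k) (ιn_qπ f M k m)).trans ((htr k (f • m)).trans (map_smul (qπ f M k) f m)))

/-- Compatible systems of sections. -/
noncomputable def limSec : Submodule R (∀ k, F U0 (Qn f M k) 0) where
  carrier := {z | ∀ k, Fmap U0 (tr k) 0 (z (k + 1)) = z k}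
  zero_mem' := fun k => map_zero _
  add_mem' := fun {z w} hz hw k => by
    show Fmap U0 (tr k) 0 (z (k + 1) + w (k + 1)) = z k + w k
    rw [map_add, hz, hw]
  smul_mem' := fun a z hz k => by
    show Fmap U0 (tr k) 0 (a • z (k + 1)) = a • z k
    rw [map_smul, hz]

variable {f M U0 tr}

include htr in
theorem pr0_limSec (z : limSec f M U0 tr) (k : ℕ) : Fmap U0 (pr0 f M k) 0 (z.1 k) = z.1 0 := by
  induction k with
  | zero =>
    rw [show pr0 f M 0 = LinearMap.id from Submodule.linearMap_qext _ rfl]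
    exact Fmap_id _ _ _ _
  | succ k ih => rw [← pr0_comp f M tr htr, Fmap_comp, z.2, ih]

theorem Fmap_ιn_injective (hreg : IsSMulRegular M f) (k : ℕ) : Function.Injective (Fmap U0 (ιn f M k) 0) :=
  Fmap_zero_injective U0 (ιn_injective f M hreg k) (pr0_surjective f M (k + 1)) (exact_ιn f M k)

include htr in
theorem exists_smul_of_zero (hreg : IsSMulRegular M f) (z : limSec f M U0 tr) (hz : z.1 0 = 0) :
    ∃ w : limSec f M U0 tr, f • w = z := by
  have h : ∀ k, ∃ w : F U0 (Qn f M k) 0, Fmap U0 (ιn f M k) 0 w = z.1 (k + 1) := fun k =>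
    (exact_map U0 (ιn_injective f M hreg k) (pr0_surjective f M (k + 1)) (exact_ιn f M k) 0 _).1
      ((pr0_limSec htr z (k + 1)).trans hz)
  choose w hw using h
  have hfw : ∀ k, f • w k = z.1 k := fun k => by
    rw [← z.2 k, ← hw k, ← Fmap_comp, comp_ιn f M tr htr, Fmap_smul, Fmap_id]
  refine ⟨⟨w, fun k => Fmap_ιn_injective hreg k ?_⟩, Subtype.ext (funext hfw)⟩
  rw [← Fmap_comp, ιn_comp f M tr htr, Fmap_smul, Fmap_id, hfw, hw]

theorem smul_sec_eq_zero (k : ℕ) (z : F U0 (Qn f M k) 0) : f ^ (k + 1) • z = 0 := by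
  have h0 : f ^ (k + 1) • (LinearMap.id : Qn f M k →ₗ[R] Qn f M k) = 0 := LinearMap.ext fun q => by
    obtain ⟨m, rfl⟩ := Submodule.Quotient.mk_surjective _ q
    exact ((map_smul (qπ f M k) _ m).symm).trans (qπ_eq_zero_iff.2 ⟨m, rfl⟩)
  have h := Fmap_smul U0 (LinearMap.id : Qn f M k →ₗ[R] Qn f M k) (f ^ (k + 1)) 0 z
  rw [h0, Fmap_zero, Fmap_id] at h
  exact h.symm

/-- The canonical map. -/
noncomputable def toLimSec : M →ₗ[R] limSec f M U0 tr :=
  LinearMap.codRestrict (limSec f M U0 tr)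
    (LinearMap.pi fun k => ((unit U0 (Qn f M k)).comp (qπ f M k) : M →ₗ[R] F U0 (Qn f M k) 0))
    (fun m k => by
      show Fmap U0 (tr k) 0 (unit U0 (Qn f M (k + 1)) (qπ f M (k + 1) m)) = unit U0 (Qn f M k) (qπ f M k m)
      rw [unit_natural]
      exact congrArg (unit U0 (Qn f M k)) (htr k m))

theorem toLimSec_apply (m : M) (k : ℕ) :
    (toLimSec (U0 := U0) htr m).1 k = unit U0 (Qn f M k) (qπ f M k m) := rfl

end Tr

variable {f M} {tr : ∀ n : ℕ, Qn f M (n + 1) →ₗ[R] Qn f M n}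
  (htr : ∀ n m, tr n (qπ f M (n + 1) m) = qπ f M n m)

include htr in
theorem finite_limSec [Module.Finite R M] [IsAdicComplete (Ideal.span ({f} : Set R)) R] (hreg : IsSMulRegular M f)
    (hfin : Module.Finite R (_root_.LocCoh.H 𝔞 1 (M ⧸ (Ideal.span ({f} : Set R) • (⊤ : Submodule R M))))) :
    Module.Finite R (limSec f M (LocCoh.puncturedOpen R 𝔞) tr) := by
  have : IsHausdorff (Ideal.span ({f} : Set R)) (limSec f M (LocCoh.puncturedOpen R 𝔞) tr) :=
    ⟨fun z hz => Subtype.ext (funext fun k => by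
      obtain ⟨w, rfl⟩ := mem_pow_iff.1 (SModEq.zero.1 (hz (k + 1)))
      exact smul_sec_eq_zero k _)⟩
  have hH : Module.Finite R (_root_.LocCoh.H 𝔞 1 (Qn f M 0)) := by
    show Module.Finite R (_root_.LocCoh.H 𝔞 1 (M ⧸ (Ideal.span ({f} : Set R) ^ (0 + 1) • (⊤ : Submodule R M))))
    rw [zero_add, pow_one]
    exact hfin
  obtain ⟨e, -⟩ := exists_DT_equiv 𝔞 (Qn f M 0)
  have := Sat.finite_DT (𝔞 := 𝔞) (M := Qn f M 0) hH
  have : Module.Finite R (F (LocCoh.puncturedOpen R 𝔞) (Qn f M 0) 0) := Module.Finite.equiv e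
  let N := limSec f M (LocCoh.puncturedOpen R 𝔞) tr
  let g : N →ₗ[R] F (LocCoh.puncturedOpen R 𝔞) (Qn f M 0) 0 := (LinearMap.proj (φ := fun k => F (LocCoh.puncturedOpen R 𝔞) (Qn f M k) 0) 0).comp N.subtype
  refine Groth.Agent.AdicRing.finite_of_finite_quotient (Ideal.span ({f} : Set R)) N ?_
  have hker : LinearMap.ker g = Ideal.span ({f} : Set R) • (⊤ : Submodule R N) := by
    refine le_antisymm (fun z hz => ?_) (Submodule.smul_le.2 fun a ha z _ => ?_)
    · obtain ⟨w, rfl⟩ := exists_smul_of_zero htr hreg z hz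
      exact Submodule.smul_mem_smul (Ideal.mem_span_singleton_self f) trivial
    · obtain ⟨a, rfl⟩ := Ideal.mem_span_singleton'.1 ha
      show (a * f) • z.1 0 = 0
      have h := smul_sec_eq_zero 0 (z.1 0)
      rw [zero_add, pow_one] at h
      rw [mul_smul, h, smul_zero]
  rw [← hker]
  exact Module.Finite.equiv (LinearMap.quotKerEquivRange g).symm

include htr in
theorem exists_annihilator [Module.Finite R M] (hreg : IsSMulRegular M f)
    [Module.Finite R (limSec f M (LocCoh.puncturedOpen R 𝔞) tr)] (p : Spec R)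
    (hpU : p ∈ LocCoh.puncturedOpen R 𝔞) (hpf : f ∈ p.asIdeal) :
    ∃ b : R, b ∉ p.asIdeal ∧ (∀ m, toLimSec (U0 := LocCoh.puncturedOpen R 𝔞) htr m = 0 → b • m = 0) ∧
      ∀ n : limSec f M (LocCoh.puncturedOpen R 𝔞) tr, ∃ m, toLimSec htr m = b • n := by
  let U0 := LocCoh.puncturedOpen R 𝔞
  let j := toLimSec (U0 := U0) htr
  obtain ⟨a, ha, hap⟩ := Set.not_subset.1 hpU
  obtain ⟨b, hb, hbK⟩ := exists_kill_of_smul f (K := LinearMap.ker j) p.asIdeal hpf fun z => by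
    have hz0 : unit U0 (Qn f M 0) (qπ f M 0 z.1) = 0 :=
      (toLimSec_apply htr z.1 0).symm.trans (congrFun (congrArg Subtype.val (LinearMap.mem_ker.1 z.2)) 0)
    obtain ⟨e, he⟩ := (torsion_unit 𝔞 (Qn f M 0)).2 _ hz0 a ha
    rw [← map_smul, qπ_eq_zero_iff] at he
    obtain ⟨w, hw⟩ := he
    rw [zero_add, pow_one] at hw
    refine ⟨a ^ e, fun h => hap (p.2.mem_of_pow_mem e h),
      ⟨w, LinearMap.mem_ker.2 (Subtype.ext (funext fun k => ?_))⟩, Subtype.ext hw.symm⟩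
    have h1 : f • (j w).1 (k + 1) = 0 := by
      have h2 := congrFun (congrArg Subtype.val (congrArg j hw)) (k + 1)
      rw [map_smul, map_smul, LinearMap.mem_ker.1 z.2, smul_zero] at h2
      exact h2
    have h3 : Fmap U0 (ιn f M k) 0 ((j w).1 k) = 0 := by
      rw [← (j w).2 k, ← Fmap_comp, ιn_comp f M tr htr, Fmap_smul, Fmap_id, h1]
    exact Fmap_ιn_injective hreg k (h3.trans (map_zero _).symm)
  obtain ⟨c, hc, hcC⟩ := exists_kill_of_smul f (K := limSec f M U0 tr ⧸ LinearMap.range j) p.asIdeal hpf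
    fun z => by
    obtain ⟨n, rfl⟩ := Submodule.Quotient.mk_surjective _ z
    obtain ⟨e, q, hq⟩ := (torsion_unit 𝔞 (Qn f M 0)).1 (n.1 0) a ha
    obtain ⟨m, rfl⟩ := Submodule.Quotient.mk_surjective _ q
    obtain ⟨w, hw⟩ := exists_smul_of_zero htr hreg (a ^ e • n - j m) (by
      show a ^ e • n.1 0 - unit U0 (Qn f M 0) (qπ f M 0 m) = 0
      rw [sub_eq_zero]; exact hq.symm)
    refine ⟨a ^ e, fun h => hap (p.2.mem_of_pow_mem e h), Submodule.Quotient.mk w, ?_⟩
    rw [← Submodule.Quotient.mk_smul, ← Submodule.Quotient.mk_smul, hw, Submodule.Quotient.eq]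
    exact ⟨m, by abel⟩
  refine ⟨b * c, fun h => (p.2.mem_or_mem h).elim hb hc, fun m hm => ?_, fun n => ?_⟩
  · have h := congrArg Subtype.val (hbK ⟨m, hm⟩)
    rw [mul_comm, mul_smul]
    exact (congrArg (c • ·) h).trans (smul_zero c)
  · have hn := hcC (Submodule.Quotient.mk n)
    rw [← Submodule.Quotient.mk_smul, Submodule.Quotient.mk_eq_zero] at hn
    obtain ⟨m, hm⟩ := hn
    exact ⟨b • m, (map_smul _ b m).trans ((congrArg (b • ·) hm).trans (mul_smul b c n).symm)⟩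

include htr in
theorem exists_lift [Module.Finite R M] (hreg : IsSMulRegular M f)
    [Module.Finite R (limSec f M (LocCoh.puncturedOpen R 𝔞) tr)]
    (y : ∀ n, F (LocCoh.puncturedOpen R 𝔞) (Qn f M n) 0)
    (hy : ∀ n, Fmap (LocCoh.puncturedOpen R 𝔞) (tr n) 0 (y (n + 1)) = y n) :
    ∃ (V : (Spec R).Opens) (hVU : V ≤ LocCoh.puncturedOpen R 𝔞)
      (_ : ∀ p : Spec R, p ∈ LocCoh.puncturedOpen R 𝔞 → f ∈ p.asIdeal → p ∈ V) (x : F V M 0),
      ∀ n, res hVU 0 (y n) = Fmap V (N := Qn f M n) (qπ f M n) 0 x := by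
  let U0 := LocCoh.puncturedOpen R 𝔞
  let N : ModuleCat.{u} R := ModuleCat.of R (limSec f M U0 tr)
  let j : M →ₗ[R] N := toLimSec htr
  let S : Set R := {b | (∀ m, j m = 0 → b • m = 0) ∧ ∀ n : N, ∃ m, j m = b • n}
  let V : (Spec R).Opens := U0 ⊓ ⨆ b : S, specBasicOpen (R := R) b.1
  have hVV : ∀ p ∈ V, ∃ b : R, b ∉ p.asIdeal ∧ b ∈ S := fun p hp => by
    obtain ⟨b, hb⟩ := Opens.mem_iSup.1 hp.2
    exact ⟨b.1, hb, b.2⟩
  have hbij := Fmap_bijective_of_local (M := M) (N := N) j V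
    (fun p hp m hm => by
      obtain ⟨b, hbp, hb, -⟩ := hVV p hp
      exact ⟨b, hbp, hb m hm⟩)
    (fun p hp n => by
      obtain ⟨b, hbp, -, hb⟩ := hVV p hp
      exact ⟨b, hbp, hb n⟩)
  obtain ⟨x, hx⟩ := hbij.2 (unit V N (⟨fun k => y k, hy⟩ : limSec f M U0 tr))
  refine ⟨V, inf_le_left, fun p hpU hpf => ⟨hpU, ?_⟩, x, fun k => ?_⟩
  · obtain ⟨b, hb, hb1, hb2⟩ := exists_annihilator 𝔞 htr hreg p hpU hpf
    exact Opens.mem_iSup.2 ⟨⟨b, hb1, hb2⟩, hb⟩
  exact res_eq_of_unit 𝔞 (Qn f M k) V inf_le_left (qπ f M k) j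
    ((LinearMap.proj (φ := fun k => F U0 (Qn f M k) 0) k).comp (limSec f M U0 tr).subtype)
    (fun m => toLimSec_apply htr m k) x _ hx (y k) rfl

variable (f M)

theorem sections_colim_bijective [Module.Finite R M] [IsAdicComplete (Ideal.span ({f} : Set R)) R]
    (hreg : IsSMulRegular M f)
    (hfin : Module.Finite R (_root_.LocCoh.H 𝔞 1 (M ⧸ (Ideal.span ({f} : Set R) • (⊤ : Submodule R M)))))
    (tr : ∀ n : ℕ, Qn f M (n + 1) →ₗ[R] Qn f M n) (htr : ∀ n m, tr n (qπ f M (n + 1) m) = qπ f M n m) :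
    (∀ (V : (Spec R).Opens) (_ : V ≤ LocCoh.puncturedOpen R 𝔞 ∧
        ∀ p : Spec R, p ∈ LocCoh.puncturedOpen R 𝔞 → f ∈ p.asIdeal → p ∈ V) (x : F V M 0),
      (∀ n, Fmap V (N := Qn f M n) (qπ f M n) 0 x = 0) →
        ∃ (V' : (Spec R).Opens) (h : (V' ≤ LocCoh.puncturedOpen R 𝔞 ∧
          ∀ p : Spec R, p ∈ LocCoh.puncturedOpen R 𝔞 → f ∈ p.asIdeal → p ∈ V') ∧ V' ≤ V), res h.2 0 x = 0) ∧
    ∀ y : ∀ n, F (LocCoh.puncturedOpen R 𝔞) (Qn f M n) 0,
      (∀ n, Fmap (LocCoh.puncturedOpen R 𝔞) (tr n) 0 (y (n + 1)) = y n) →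
        ∃ (V : (Spec R).Opens) (hV : V ≤ LocCoh.puncturedOpen R 𝔞 ∧
          ∀ p : Spec R, p ∈ LocCoh.puncturedOpen R 𝔞 → f ∈ p.asIdeal → p ∈ V) (x : F V M 0),
          ∀ n, res hV.1 0 (y n) = Fmap V (N := Qn f M n) (qπ f M n) 0 x := by
  refine ⟨fun V hV x hx => exists_res_eq_zero f M hreg hV.1 hV.2 x hx, fun y hy => ?_⟩
  have := finite_limSec 𝔞 htr hreg hfin
  obtain ⟨V, h1, h2, x, hx⟩ := exists_lift 𝔞 htr hreg y hy
  exact ⟨V, ⟨h1, h2⟩, x, hx⟩

end Groth.Agent.Formal2Lib.SecU
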