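import Groth.Agent.CAlgH3.LocFreeFactor
import Groth.Agent.Coherent.Existence.TwoStep
import Groth.Agent.Coherent.AffinenessApps
import Groth.Agent.AmpleLib.Power

/-!
# Sections of finite locally free modules and the completion, on quasi-affine schemes
-/

set_option autoImplicit false
set_option backward.isDefEq.respectTransparency false
set_option linter.unusedSectionVars false

universe u

open CategoryTheory CategoryTheory.Limits AlgebraicGeometry Opposite TopologicalSpace
open Groth.Agent.Coherent Groth.Agent.Coherent.Existence Groth.Agent.PicLib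
open Groth.Agent.CAlgH3.LocFreeFactor

namespace Groth.Agent.Formal2Lib.LocFreeSec

variable {A : Type u} [CommRing A] {X : Scheme.{u}} [X.Over (Spec (CommRingCat.of A))] (I : Ideal A)

/-- Global sections are determined by their images in all `M/Iⁿ⁺¹M`. -/
def SecInj (M : X.Modules) : Prop :=
  ∀ s : Γ(M, (⊤ : X.Opens)), (∀ n, (Formal.modPowπ I (n + 1) M).app ⊤ s = 0) → s = 0

/-- Every compatible system of global sections comes from a global section. -/
def SecSurj (M : X.Modules) : Prop :=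
  ∀ y : ∀ n, Γ(Formal.modPow I (n + 1) M, (⊤ : X.Opens)),
    (∀ n, (Formal.modPowTrans I (n + 1) M).app ⊤ (y (n + 1)) = y n) →
      ∃ s : Γ(M, (⊤ : X.Opens)), ∀ n, (Formal.modPowπ I (n + 1) M).app ⊤ s = y n

theorem bijective_toHHlim_iff (M : X.Modules) :
    Function.Bijective (Formal.toHHlim I M 0) ↔ SecInj I M ∧ SecSurj I M := by
  constructor
  · intro h
    refine ⟨fun s hs => ?_, fun y hy => ?_⟩
    · have h0 : Formal.toHHlim I M 0 ((hSec M).symm s) = 0 := Subtype.ext (funext fun n =>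
        (hSec _).injective (((hSec_map (Formal.modPowπ I (n + 1) M) _).trans
          (by rw [AddEquiv.apply_symm_apply]; exact hs n)).trans (map_zero _).symm))
      have h1 := congrArg (hSec M) (h.1 (h0.trans (map_zero _).symm))
      rwa [AddEquiv.apply_symm_apply, map_zero] at h1
    · obtain ⟨x, hx⟩ := h.2 ⟨fun n => (hSec _).symm (y n), fun n => (hSec _).injective
        ((hSec_map (Formal.modPowTrans I (n + 1) M) _).trans (by
          rw [AddEquiv.apply_symm_apply, AddEquiv.apply_symm_apply]; exact hy n))⟩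
      refine ⟨hSec M x, fun n => ?_⟩
      refine (hSec_map (Formal.modPowπ I (n + 1) M) x).symm.trans ?_
      exact (congrArg (hSec _) (congrFun (congrArg Subtype.val hx) n)).trans ((hSec _).apply_symm_apply _)
  · rintro ⟨hi, hs⟩
    refine ⟨(injective_iff_map_eq_zero _).2 fun x hx => (hSec M).injective ?_, fun y => ?_⟩
    · rw [map_zero]
      refine hi _ fun n => (hSec_map (Formal.modPowπ I (n + 1) M) x).symm.trans ?_
      exact (congrArg (hSec _) (congrFun (congrArg Subtype.val hx) n)).trans (map_zero _)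
    · obtain ⟨s, hs⟩ := hs (fun n => hSec _ (y.1 n))
        (fun n => (hSec_map (Formal.modPowTrans I (n + 1) M) _).symm.trans (congrArg (hSec _) (y.2 n)))
      exact ⟨(hSec M).symm s, Subtype.ext (funext fun n => (hSec _).injective
        ((hSec_map (Formal.modPowπ I (n + 1) M) _).trans (by rw [AddEquiv.apply_symm_apply]; exact hs n)))⟩

theorem app_smul' {M N : X.Modules} (g : M ⟶ N) {U : X.Opens} (r : Γ(X, U)) (m : Γ(M, U)) :
    g.app U (r • m) = r • g.app U m :=
  Scheme.Modules.Hom.app_smul g r m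

theorem π_smulModΓ (n : ℕ) (M : X.Modules) (r : Γ(X, ⊤)) :
    Formal.modPowπ I n M ≫ Formal.smulModΓ (Formal.modPow I n M) r =
      Formal.smulModΓ M r ≫ Formal.modPowπ I n M :=
  Scheme.Modules.hom_ext _ _ fun V => ConcreteCategory.hom_ext _ _ fun a => by
    show (Formal.smulModΓ (Formal.modPow I n M) r).app V ((Formal.modPowπ I n M).app V a) =
      (Formal.modPowπ I n M).app V ((Formal.smulModΓ M r).app V a)
    rw [smulModΓ_app, smulModΓ_app, app_smul']

theorem app_comp {M N P : X.Modules} (g : M ⟶ N) (g' : N ⟶ P) (U : X.Opens) (a : Γ(M, U)) :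
    (g ≫ g').app U a = g'.app U (g.app U a) := rfl

theorem rf_top (r : Γ(X, ⊤)) : rf r (⊤ : X.Opens) = r :=
  ConcreteCategory.congr_hom (X.presheaf.map_id (op (⊤ : X.Opens))) r

theorem sum_modPowMap {J : Type u} [Fintype J] (n : ℕ) {M N : X.Modules} (φ : J → (M ⟶ N)) (ψ : J → (N ⟶ M))
    (r : Γ(X, ⊤)) (hθ : ∑ i, φ i ≫ ψ i = Formal.smulModΓ M r) :
    ∑ i, modPowMap I n (φ i) ≫ modPowMap I n (ψ i) = Formal.smulModΓ (Formal.modPow I n M) r := by
  rw [← cancel_epi (Formal.modPowπ I n M), π_smulModΓ, ← hθ, Preadditive.comp_sum, Preadditive.sum_comp]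
  refine Finset.sum_congr rfl fun i _ => ?_
  rw [modPowMap_comp, π_modPowMap]

theorem sum_app_modPowMap {J : Type u} [Fintype J] (n : ℕ) {M N : X.Modules} (φ : J → (M ⟶ N)) (ψ : J → (N ⟶ M))
    (r : Γ(X, ⊤)) (hθ : ∑ i, φ i ≫ ψ i = Formal.smulModΓ M r)
    (z : Γ(Formal.modPow I n M, (⊤ : X.Opens))) :
    ∑ i, (modPowMap I n (ψ i)).app ⊤ ((modPowMap I n (φ i)).app ⊤ z) = r • z := by
  have h2 := app_sum Finset.univ (fun i => modPowMap I n (φ i) ≫ modPowMap I n (ψ i)) ⊤ z
  rw [sum_modPowMap I n φ ψ r hθ, smulModΓ_app, show X.presheaf.map (homOfLE (le_top (a := ⊤))).op r = r from rf_top r] at h2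
  rw [h2]
  exact Finset.sum_congr rfl fun i _ => (app_comp _ _ _ _).symm

theorem modPowMap_trans (n : ℕ) {M N : X.Modules} (φ : M ⟶ N) :
    modPowMap I (n + 1) φ ≫ Formal.modPowTrans I n N = Formal.modPowTrans I n M ≫ modPowMap I n φ := by
  rw [← cancel_epi (Formal.modPowπ I (n + 1) M), ← Category.assoc, π_modPowMap, Category.assoc,
    Formal.modPowπ_trans, ← Category.assoc, Formal.modPowπ_trans, π_modPowMap]

theorem app_π_modPowMap (n : ℕ) {M N : X.Modules} (φ : M ⟶ N) (U : X.Opens) (a : Γ(M, U)) :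
    (Formal.modPowπ I n N).app U (φ.app U a) = (modPowMap I n φ).app U ((Formal.modPowπ I n M).app U a) := by
  rw [← app_comp, ← app_comp, π_modPowMap]

/-- Injectivity passes along a factorisation of a scalar. -/
theorem secInj_smul {J : Type u} [Fintype J] {M N : X.Modules} (φ : J → (M ⟶ N)) (ψ : J → (N ⟶ M))
    (r : Γ(X, ⊤)) (hθ : ∑ i, φ i ≫ ψ i = Formal.smulModΓ M r) (hN : SecInj I N)
    (s : Γ(M, (⊤ : X.Opens))) (hs : ∀ n, (Formal.modPowπ I (n + 1) M).app ⊤ s = 0) : r • s = 0 := by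
  have h0 : ∀ i, (φ i).app ⊤ s = 0 := fun i => hN _ fun n => by
    rw [app_π_modPowMap, hs n, map_zero]
  have h2 := app_sum Finset.univ (fun i => φ i ≫ ψ i) ⊤ s
  rw [hθ, smulModΓ_app, show X.presheaf.map (homOfLE (le_top (a := ⊤))).op r = r from rf_top r] at h2
  rw [h2]
  exact Finset.sum_eq_zero fun i _ => by rw [app_comp, h0, map_zero]

/-- Lifting passes along a factorisation of a scalar. -/
theorem secSurj_smul {J : Type u} [Fintype J] {M N : X.Modules} (φ : J → (M ⟶ N)) (ψ : J → (N ⟶ M))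
    (r : Γ(X, ⊤)) (hθ : ∑ i, φ i ≫ ψ i = Formal.smulModΓ M r) (hN : SecSurj I N)
    (y : ∀ n, Γ(Formal.modPow I (n + 1) M, (⊤ : X.Opens)))
    (hy : ∀ n, (Formal.modPowTrans I (n + 1) M).app ⊤ (y (n + 1)) = y n) :
    ∃ s : Γ(M, (⊤ : X.Opens)), ∀ n, (Formal.modPowπ I (n + 1) M).app ⊤ s = r • y n := by
  have hc : ∀ i n, (Formal.modPowTrans I (n + 1) N).app ⊤ ((modPowMap I (n + 1 + 1) (φ i)).app ⊤ (y (n + 1))) =
      (modPowMap I (n + 1) (φ i)).app ⊤ (y n) := fun i n => by
    rw [← app_comp, modPowMap_trans, app_comp, hy n]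
  choose t ht using fun i => hN (fun n => (modPowMap I (n + 1) (φ i)).app ⊤ (y n)) (hc i)
  refine ⟨∑ i, (ψ i).app ⊤ (t i), fun n => ?_⟩
  rw [map_sum, ← sum_app_modPowMap I (n + 1) φ ψ r hθ]
  exact Finset.sum_congr rfl fun i _ => by rw [app_π_modPowMap, ht]

variable [CompactSpace X] [QuasiSeparatedSpace X]

/-- Multiplication by a power of `f` on `E` factors through a free module when `E` is free on `X_f`. -/
theorem exists_factor_hom {E : X.Modules} (hE : FlatMod.IsFinLocFree E) (f : Γ(X, ⊤)) {J : Type u} [Fintype J]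
    {e : J → Γ(E, X.basicOpen f)} (hb : IsBasisOn E (X.basicOpen f) e) :
    ∃ (N : ℕ) (φ : J → (E ⟶ Coh.structureModule X)) (ψ : J → (Coh.structureModule X ⟶ E)),
      ∑ i, φ i ≫ ψ i = Formal.smulModΓ E (f ^ N) := by
  obtain ⟨N, φ, ψ, h⟩ := exists_factor hE f hb
  exact ⟨N, φ, ψ, Scheme.Modules.hom_ext _ _ fun W => ConcreteCategory.hom_ext _ _ fun a =>
    ((app_sum Finset.univ (fun i => φ i ≫ ψ i) W a).trans (h W a)).trans (smulModΓ_app E (f ^ N) W a).symm⟩

/-- Bijectivity for the structure sheaf gives it for finite locally free modules. -/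
theorem toHHlim_bijective [X.IsQuasiAffine]
    (h : Function.Bijective (Formal.toHHlim I (Coh.structureModule X) 0))
    {E : X.Modules} (hE : FlatMod.IsFinLocFree E) : Function.Bijective (Formal.toHHlim I E 0) := by
  rw [bijective_toHHlim_iff] at h ⊢
  have hcov : ∀ x : X, ∃ (f : Γ(X, ⊤)) (J : Type u) (_ : Fintype J) (e : J → Γ(E, X.basicOpen f)),
      x ∈ X.basicOpen f ∧ IsBasisOn E (X.basicOpen f) e := fun x => by
    obtain ⟨U, n, b, hx, -, hb⟩ := exists_affine_basis hE x
    obtain ⟨_, ⟨f, -, rfl⟩, hxf, hle⟩ :=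
      Opens.isBasis_iff_nbhd.1 (Scheme.IsQuasiAffine.isBasis_basicOpen X) hx
    exact ⟨f, _, inferInstance, fun i => resM E hle (b i), hxf, IsBasisOn.mono hb hle⟩
  choose f J hJ e hxf hb using hcov
  choose N φ ψ hθ using fun x => exists_factor_hom hE (f x) (hb x)
  have hu : ∀ (x : X) (W : X.Opens) (hW : W ≤ X.basicOpen (f x)) (k : ℕ), IsUnit (rf (f x ^ k) W) :=
    fun x W hW k => by
      show IsUnit (rmap (le_top : W ≤ ⊤) (f x ^ k))
      rw [map_pow]
      exact (isUnit_rmap (f x) hW).pow k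
  have hinj : SecInj I E := fun s hs => Groth.Agent.AmpleLib.sec_ext E s 0 fun x _ => by
    refine ⟨X.basicOpen (f x), le_top, hxf x, ?_⟩
    have h0 := congrArg (resM E (le_top : X.basicOpen (f x) ≤ ⊤)) (secInj_smul I (φ x) (ψ x) _ (hθ x) h.1 s hs)
    rw [resM_smul, map_zero] at h0
    rw [map_zero]
    exact ((hu x _ le_rfl (N x)).smul_eq_zero).1 h0
  refine ⟨hinj, fun y hy => ?_⟩
  choose s hs using fun x => secSurj_smul I (φ x) (ψ x) _ (hθ x) h.2 y hy
  let u : ∀ x, Γ(E, X.basicOpen (f x)) := fun x =>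
    ((hu x (X.basicOpen (f x)) le_rfl (N x)).unit⁻¹).val • resM E le_top (s x)
  have hu1 : ∀ x, rf (f x ^ N x) (X.basicOpen (f x)) • u x = resM E le_top (s x) := fun x => by
    rw [← mul_smul, IsUnit.mul_val_inv, one_smul]
  have hcompat : ∀ x x', f x' ^ N x' • s x = f x ^ N x • s x' := fun x x' =>
    sub_eq_zero.1 (hinj _ fun n => by
      rw [map_sub, app_smul', app_smul', hs, hs, smul_comm, sub_self])
  obtain ⟨S, hS, -⟩ := TopCat.Sheaf.existsUnique_gluing' (X := X.toTopCat) (Coh.toAb E)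
    (fun x => X.basicOpen (f x)) ⊤ (fun x => homOfLE le_top)
    (fun x _ => Opens.mem_iSup.2 ⟨x, hxf x⟩) u fun x x' => by
      show resM E inf_le_left (u x) = resM E inf_le_right (u x')
      refine ((hu x _ (inf_le_left : X.basicOpen (f x) ⊓ X.basicOpen (f x') ≤ _) (N x)).mul
        (hu x' _ (inf_le_right : X.basicOpen (f x) ⊓ X.basicOpen (f x') ≤ _) (N x'))).smul_left_cancel.1 ?_
      have h1 := congrArg (resM E (inf_le_left : X.basicOpen (f x) ⊓ X.basicOpen (f x') ≤ _)) (hu1 x)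
      have h2 := congrArg (resM E (inf_le_right : X.basicOpen (f x) ⊓ X.basicOpen (f x') ≤ _)) (hu1 x')
      rw [resM_smul, res_rf, resM_resM] at h1 h2
      rw [mul_comm, mul_smul, h1, mul_comm, mul_smul, h2, ← resM_smul, ← resM_smul, hcompat]
  refine ⟨S, fun n => Groth.Agent.AmpleLib.sec_ext _ _ _ fun x _ => ⟨X.basicOpen (f x), le_top, hxf x, ?_⟩⟩
  refine ((hu x _ le_rfl (N x)).smul_left_cancel).1 ?_
  rw [← app_resM, show resM E le_top S = u x from hS x, ← app_smul', hu1, app_resM, hs, resM_smul]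

end Groth.Agent.Formal2Lib.LocFreeSec
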